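import Cfsg.Agent.Lib.Components.GenFitting

/-
When `C_G(E(G)) = 1`, the layer is the direct product of each component and the join of the others:
`exists_decomp`, `decomp_unique`, `isSimpleGroup_component`.
-/

set_option autoImplicit false

namespace Cfsg.Agent.LargeExtraspecial

open Subgroup

variable {G : Type*} [Group G]

/-- The join of the components other than `L`. -/
def rest (L : Subgroup G) : Subgroup G := sSup {K : Subgroup G | Cfsg.IsComponent K ∧ K ≠ L}

theorem le_rest {L K : Subgroup G} (hK : Cfsg.IsComponent K) (h : K ≠ L) : K ≤ rest L :=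
  le_sSup (s := {K : Subgroup G | Cfsg.IsComponent K ∧ K ≠ L}) ⟨hK, h⟩

theorem rest_le_layer (L : Subgroup G) : rest L ≤ Cfsg.layer G :=
  sSup_le fun _ hK => Components.IsComponent.le_layer hK.1

theorem commute_rest [Finite G] {L : Subgroup G} (hL : Cfsg.IsComponent L) {a n : G} (ha : a ∈ L)
    (hn : n ∈ rest L) : a * n = n * a := by
  have h := Components.IsComponent.le_centralizer_sSup hL
    (S := {K : Subgroup G | Cfsg.IsComponent K ∧ K ≠ L}) (fun _ hK => hK.1) (fun h => h.2 rfl) ha
  exact (mem_centralizer_iff.mp h n hn).symm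

theorem commute_components [Finite G] {L K : Subgroup G} (hL : Cfsg.IsComponent L)
    (hK : Cfsg.IsComponent K) (h : K ≠ L) {a b : G} (ha : a ∈ L) (hb : b ∈ K) : a * b = b * a :=
  commute_rest hL ha (le_rest hK h hb)

theorem exists_decomp [Finite G] {L : Subgroup G} (hL : Cfsg.IsComponent L) {m : G}
    (hm : m ∈ Cfsg.layer G) : ∃ l ∈ L, ∃ n ∈ rest L, l * n = m := by
  have hle : Cfsg.layer G ≤ L ⊔ rest L := Components.layer_le fun K hK => by
    by_cases h : K = L
    · exact h ▸ le_sup_left
    · exact (le_rest hK h).trans le_sup_right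
  have hm' := hle hm
  rw [← SetLike.mem_coe, coe_mul_of_left_le_normalizer_right L (rest L)
    ((le_centralizer_iff.mp fun n hn => mem_centralizer_iff.mpr fun a ha => commute_rest hL ha hn).trans
      (centralizer_le_normalizer _))] at hm'
  exact Set.mem_mul.mp hm'

theorem eq_one_of_mem [Finite G] {L : Subgroup G} (hC : centralizer (Cfsg.layer G : Set G) = ⊥)
    (hL : Cfsg.IsComponent L) {x : G} (hx : x ∈ L) (hx' : x ∈ rest L) : x = 1 := by
  rw [← mem_bot, ← hC, mem_centralizer_iff]
  intro m hm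
  obtain ⟨l, hl, n, hn, rfl⟩ := exists_decomp hL hm
  have h1 : Commute l x := commute_rest hL hl hx'
  have h2 : Commute x n := commute_rest hL hx hn
  exact (h1.mul_left h2.symm).eq

theorem decomp_unique [Finite G] {L : Subgroup G} (hC : centralizer (Cfsg.layer G : Set G) = ⊥)
    (hL : Cfsg.IsComponent L) {l l' n n' : G} (hl : l ∈ L) (hl' : l' ∈ L) (hn : n ∈ rest L)
    (hn' : n' ∈ rest L) (h : l * n = l' * n') : l = l' ∧ n = n' := by
  have e : l'⁻¹ * l = n' * n⁻¹ := by
    calc l'⁻¹ * l = l'⁻¹ * (l * n) * n⁻¹ := by group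
      _ = n' * n⁻¹ := by rw [h]; group
  have h1 : l'⁻¹ * l = 1 :=
    eq_one_of_mem hC hL (mul_mem (inv_mem hl') hl) (e ▸ mul_mem hn' (inv_mem hn))
  have h2 : l = l' := by rw [← inv_inv l', ← eq_inv_of_mul_eq_one_right h1]
  subst h2
  exact ⟨rfl, mul_left_cancel h⟩

theorem center_component_eq_bot [Finite G] {L : Subgroup G}
    (hC : centralizer (Cfsg.layer G : Set G) = ⊥) (hL : Cfsg.IsComponent L) : center L = ⊥ := by
  rw [Subgroup.eq_bot_iff_forall]
  intro x hx
  apply Subtype.ext
  rw [OneMemClass.coe_one, ← mem_bot, ← hC, mem_centralizer_iff]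
  intro m hm
  obtain ⟨l, hl, n, hn, rfl⟩ := exists_decomp hL hm
  have h1 : Commute l (x : G) := congrArg Subtype.val (mem_center_iff.mp hx ⟨l, hl⟩)
  have h2 : Commute (x : G) n := commute_rest hL x.2 hn
  exact (h1.mul_left h2.symm).eq

theorem isSimpleGroup_component [Finite G] {L : Subgroup G}
    (hC : centralizer (Cfsg.layer G : Set G) = ⊥) (hL : Cfsg.IsComponent L) :
    IsSimpleGroup L ∧ ¬ IsMulCommutative L := by
  haveI := Components.IsQuasisimple.nontrivial hL.2
  refine ⟨⟨fun N hN => ?_⟩, Components.IsQuasisimple.not_isMulCommutative hL.2⟩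
  rcases Components.IsQuasisimple.normal_eq_top_or_le_center hL.2 N with h | h
  · exact Or.inr h
  · exact Or.inl (le_bot_iff.mp (center_component_eq_bot hC hL ▸ h))

end Cfsg.Agent.LargeExtraspecial
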