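import Cfsg.Agent.Lib.Leech.Basic
import Cfsg.Agent.Lib.Golay.Code

/-
Co0-invariant quadratic functions on the Leech lattice modulo 2 vanish on the 12-dimensional image
of the sublattice {4x : sum of x even}.
Main results: `four`, `permAut`, `signAut`, `quad_four_eq_zero`, `pick`, `pick_injective`.
-/

set_option autoImplicit false
open Cfsg

namespace Cfsg.Agent.LeechQuad

theorem four_mem {x : GolayPt → ℤ} (hx : 2 ∣ ∑ i, x i) : (4 : ℤ) • x ∈ leechLattice := by
  have h := Leech.mem_mk_even ((2 : ℤ) • x) ?_ ?_
  · convert h using 1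
    funext i; simp; ring
  · simp only [Pi.smul_apply, smul_eq_mul, ← Finset.mul_sum]
    exact mul_dvd_mul_left 2 hx
  · convert golayCode.zero_mem using 1
    funext i
    simp only [Leech.mod2, Pi.smul_apply, smul_eq_mul, Int.cast_mul, Pi.zero_apply]
    rw [show ((2 : ℤ) : ZMod 2) = 0 by decide, zero_mul]

/-- The integer vectors with even coordinate sum. -/
def evenSum : AddSubgroup (GolayPt → ℤ) where
  carrier := {x | 2 ∣ ∑ i, x i}
  zero_mem' := by simp
  add_mem' := by
    intro a b ha hb
    rw [Set.mem_ofPred_eq] at *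
    simp only [Pi.add_apply, Finset.sum_add_distrib]
    exact dvd_add ha hb
  neg_mem' := by
    intro a ha
    rw [Set.mem_ofPred_eq] at *
    simp only [Pi.neg_apply, Finset.sum_neg_distrib]
    exact dvd_neg.mpr ha

theorem mem_evenSum {x : GolayPt → ℤ} : x ∈ evenSum ↔ 2 ∣ ∑ i, x i := by
  show x ∈ {x : GolayPt → ℤ | 2 ∣ ∑ i, x i} ↔ _
  rw [Set.mem_ofPred_eq]

/-- `x ↦ 4x` on vectors with even sum, as a lattice vector. -/
def four : evenSum →+ leechLattice where
  toFun x := ⟨(4 : ℤ) • (x : GolayPt → ℤ), four_mem (mem_evenSum.mp x.2)⟩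
  map_zero' := by ext1; simp
  map_add' x y := by ext1; simp [smul_add]

theorem four_apply (x : evenSum) (i : GolayPt) :
    ((four x : leechLattice) : GolayPt → ℤ) i = 4 * (x : GolayPt → ℤ) i := rfl

/-! ### Two kinds of lattice automorphisms -/

theorem perm_mem {σ : Equiv.Perm GolayPt} (hσ : ∀ w ∈ golayCode, w ∘ σ ∈ golayCode)
    {x : GolayPt → ℤ} (hx : x ∈ leechLattice) : (fun i => x (σ i)) ∈ leechLattice := by
  obtain ⟨m, a, h1, h2, h3⟩ := Leech.mem_iff.1 hx
  exact Leech.mem_iff.2 ⟨m, fun i => a (σ i), fun i => h1 (σ i),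
    by rwa [Equiv.sum_comp σ a], hσ _ h3⟩

/-- A code-preserving coordinate permutation as an element of `Co0`. -/
def permAut (σ : Equiv.Perm GolayPt) (h₁ : ∀ w ∈ golayCode, w ∘ σ ∈ golayCode)
    (h₂ : ∀ w ∈ golayCode, w ∘ σ.symm ∈ golayCode) : ↥Co0 where
  val :=
    { toFun := fun v => ⟨fun i => (v : GolayPt → ℤ) (σ i), perm_mem h₁ v.2⟩
      invFun := fun v => ⟨fun i => (v : GolayPt → ℤ) (σ.symm i), perm_mem h₂ v.2⟩
      left_inv := fun v => by ext1; funext i; simp
      right_inv := fun v => by ext1; funext i; simp }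
  property := by
    refine ⟨fun v w => rfl, fun v => ?_⟩
    show sqNorm (fun i => (v : GolayPt → ℤ) (σ i)) = sqNorm (v : GolayPt → ℤ)
    exact Equiv.sum_comp σ fun i => (v : GolayPt → ℤ) i ^ 2

theorem sign_mem {w : GolayPt → ZMod 2} (hw : w ∈ golayCode) {x : GolayPt → ℤ}
    (hx : x ∈ leechLattice) : (fun i => if w i = 0 then x i else -x i) ∈ leechLattice := by
  obtain ⟨m, a, h1, h2, h3⟩ := Leech.mem_iff.1 hx
  set s : Finset GolayPt := support₂ w with hs
  have hmem : ∀ i, i ∈ s ↔ w i ≠ 0 := fun i => by simp [hs, support₂]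
  refine Leech.mem_iff.2 ⟨m, fun i => if w i = 0 then a i else -a i - m, fun i => ?_, ?_, ?_⟩
  · dsimp only
    split <;> rw [h1 i]
    ring
  · have hsum : ∑ i, (if w i = 0 then a i else -a i - m)
        = ∑ i, a i - 2 * ∑ i ∈ s, a i - m * s.card := by
      have : ∀ i, (if w i = 0 then a i else -a i - m) = a i - (if i ∈ s then 2 * a i + m else 0) := by
        intro i
        by_cases hi : w i = 0
        · simp [hi, hmem]
        · simp only [hi, if_false, (hmem i).mpr hi, if_true]; ring
      simp only [this, Finset.sum_sub_distrib, Finset.sum_ite_mem, Finset.univ_inter,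
        Finset.sum_add_distrib, ← Finset.mul_sum, Finset.sum_const, nsmul_eq_mul]
      ring
    rw [hsum]
    have h4 : (4 : ℤ) ∣ (s.card : ℤ) := by
      have := Golay.card_mem_weights (s := s) ⟨w, hw, rfl⟩
      omega
    have h2' : (2 : ℤ) ∣ ∑ i ∈ s, a i := by
      rw [show (2 : ℤ) = ((2 : ℕ) : ℤ) from rfl, ← ZMod.intCast_zmod_eq_zero_iff_dvd, Int.cast_sum,
        ← Golay.self_orthogonal h3 hw, ← Finset.sum_subset (Finset.subset_univ s)]
      · refine Finset.sum_congr rfl fun i hi => ?_
        rw [show w i = 1 from (by decide : ∀ c : ZMod 2, c ≠ 0 → c = 1) _ ((hmem i).mp hi)]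
        simp [Leech.mod2]
      · intro i _ hi
        rw [hmem, not_not] at hi
        rw [hi, mul_zero]
    obtain ⟨p, hp⟩ := h2'
    obtain ⟨r, hr⟩ := h4
    rw [hp, hr]
    simp only [Int.ModEq] at h2 ⊢
    rw [show m * (4 * r) = 4 * (m * r) by ring]
    omega
  · have hk : (fun i => ((m : ℤ) : ZMod 2) * w i) ∈ golayCode := golayCode.smul_mem _ hw
    convert golayCode.add_mem h3 hk using 1
    funext i
    simp only [Leech.mod2, Pi.add_apply]
    rcases (by decide : ∀ c : ZMod 2, c = 0 ∨ c = 1) (w i) with h | h <;> simp [h]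
    exact (by decide : ∀ u v : ZMod 2, u - v = u + v) _ _

/-- The sign change on a code word as an element of `Co0`. -/
def signAut (w : GolayPt → ZMod 2) (hw : w ∈ golayCode) : ↥Co0 where
  val :=
    { toFun := fun v => ⟨_, sign_mem hw v.2⟩
      invFun := fun v => ⟨_, sign_mem hw v.2⟩
      left_inv := fun v => by ext1; funext i; by_cases h : w i = 0 <;> simp [h]
      right_inv := fun v => by ext1; funext i; by_cases h : w i = 0 <;> simp [h] }

  property := by
    refine ⟨fun v u => ?_, fun v => ?_⟩
    · ext1; funext i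
      show (if w i = 0 then (v : GolayPt → ℤ) i + (u : GolayPt → ℤ) i
          else -((v : GolayPt → ℤ) i + (u : GolayPt → ℤ) i)) =
        (if w i = 0 then (v : GolayPt → ℤ) i else -(v : GolayPt → ℤ) i) +
        (if w i = 0 then (u : GolayPt → ℤ) i else -(u : GolayPt → ℤ) i)
      by_cases h : w i = 0
      · simp [h]
      · simp [h]; ring
    · refine Finset.sum_congr rfl fun i _ => ?_
      show (if w i = 0 then _ else _) ^ 2 = _
      by_cases h : w i = 0 <;> simp [h]

/-! ### The permutations used -/

/-- Translation of the residues. -/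
def shift (t : ZMod 23) : Equiv.Perm GolayPt := Equiv.optionCongr (Equiv.addRight t)

theorem comp_mem_of_gen {σ : GolayPt → GolayPt} (h : ∀ t, qrWord t ∘ σ ∈ golayCode) :
    ∀ w ∈ golayCode, w ∘ σ ∈ golayCode := by
  intro w hw
  have hle : golayCode ≤ golayCode.comap (LinearMap.funLeft (ZMod 2) (ZMod 2) σ) := by
    show Submodule.span _ _ ≤ _
    rw [Submodule.span_le]
    rintro v (⟨t, rfl⟩ | hv)
    · exact h t
    · rw [show v = 1 from hv]
      exact Leech.one_mem_code
  exact hle hw

theorem shift_code (t : ZMod 23) : ∀ w ∈ golayCode, w ∘ shift t ∈ golayCode :=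
  comp_mem_of_gen fun s => by
    refine Submodule.subset_span (Set.mem_union_left _ ⟨s - t, ?_⟩)
    funext p
    rcases p with - | x
    · rfl
    · show qrWord (s - t) (some x) = qrWord s (some (x + t))
      simp only [qrWord]
      refine if_congr (exists_congr fun r => ?_) rfl rfl
      constructor <;> intro h <;> linear_combination h

theorem shift_code_symm (t : ZMod 23) : ∀ w ∈ golayCode, w ∘ (shift t).symm ∈ golayCode := by
  have : (shift t).symm = shift (-t) := by
    ext1 p; rw [Equiv.symm_apply_eq]; rcases p with - | x <;> simp [shift]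
  rw [this]; exact shift_code _

theorem projInv_code : ∀ w ∈ golayCode, w ∘ projInv ∈ golayCode :=
  comp_mem_of_gen fun t => by
    have h : ∀ t, Golay.isCode (Golay.maskOf (support₂ (qrWord t ∘ projInv))) = true := by
      decide +kernel
    rw [Leech.mem_code_iff_support, Golay.mem_supports_iff]
    exact h t

theorem separate : ∀ i j : GolayPt, i ≠ j → ∃ g ∈ Golay.rows,
    Golay.word g i ≠ Golay.word g j := by decide +kernel

theorem exists_sep (i j : GolayPt) (hij : i ≠ j) : ∃ w ∈ golayCode, w i = 0 ∧ w j ≠ 0 := by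
  obtain ⟨g, hg, hne⟩ := separate i j hij
  have hw := Golay.rows_mem g hg
  by_cases h : Golay.word g i = 0
  · exact ⟨_, hw, h, fun h' => hne (h.trans h'.symm)⟩
  · refine ⟨Golay.word g + 1, golayCode.add_mem hw Leech.one_mem_code, ?_, ?_⟩ <;>
      simp only [Pi.add_apply, Pi.one_apply] <;>
      revert h hne <;> generalize Golay.word g i = u <;> generalize Golay.word g j = v <;>
      revert u v <;> decide

/-! ### The vanishing theorem -/

theorem single_pair_mem (i j : GolayPt) :
    (Pi.single i 1 + Pi.single j 1 : GolayPt → ℤ) ∈ evenSum := by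
  rw [mem_evenSum]
  simp [Finset.sum_add_distrib]

/-- `4(e_i + e_j)`. -/
def pr (i j : GolayPt) : leechLattice := four ⟨_, single_pair_mem i j⟩

theorem pr_apply (i j k : GolayPt) :
    ((pr i j : leechLattice) : GolayPt → ℤ) k = 4 * ((Pi.single i 1 : GolayPt → ℤ) k + (Pi.single j 1 : GolayPt → ℤ) k) :=
  rfl

theorem eight_mem (i : GolayPt) : (Pi.single i 2 : GolayPt → ℤ) ∈ evenSum := by
  rw [mem_evenSum]
  simp

/-- `8 e_i`. -/
def dbl (i : GolayPt) : leechLattice := four ⟨_, eight_mem i⟩

theorem dbl_apply (i k : GolayPt) :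
    ((dbl i : leechLattice) : GolayPt → ℤ) k = 4 * (Pi.single i 2 : GolayPt → ℤ) k := rfl

theorem pr_comm (i j : GolayPt) : pr i j = pr j i := by
  ext1; funext k; simp only [pr_apply]; ring

theorem pr_comp (σ : Equiv.Perm GolayPt) (h₁ h₂) (a b : GolayPt) :
    (permAut σ h₁ h₂).1 (pr (σ a) (σ b)) = pr a b := by
  ext1; funext k
  show 4 * ((Pi.single (σ a) 1 : GolayPt → ℤ) (σ k) + (Pi.single (σ b) 1 : GolayPt → ℤ) (σ k)) = _
  simp [pr_apply, Pi.single_apply]

section
variable (q : leechLattice → ZMod 2)

/-- The function associated with `q` by polarisation. -/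
def pol (v w : leechLattice) : ZMod 2 := q (v + w) + q v + q w

variable {q}
variable (hb : ∀ u v w, pol q (u + v) w = pol q u w + pol q v w)
  (hcls : ∀ v w, q (v + (w + w)) = q v)
  (hinv : ∀ (g : ↥Co0) v, q (g.1 v) = q v)

theorem pol_comm (v w : leechLattice) : pol q v w = pol q w v := by
  simp only [pol, add_comm v w]; ring

theorem two_add (a : ZMod 2) : a + a = 0 := CharTwo.add_self_eq_zero a

include hb hcls in
theorem q_zero : q 0 = 0 := by
  have h := hb 0 0 0
  simp only [pol, add_zero] at h
  revert h; generalize q 0 = a; revert a; decide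

theorem q_add (v w : leechLattice) : q (v + w) = q v + q w + pol q v w := by
  simp only [pol]; linear_combination (-1 : ZMod 2) * two_add (q v) - two_add (q w)

include hcls in
theorem pol_cls (v w u : leechLattice) : pol q (v + (w + w)) u = pol q v u := by
  simp only [pol, hcls]
  rw [add_right_comm v, hcls]

include hinv in
theorem q_pr_const (i j : GolayPt) (hij : i ≠ j) : q (pr i j) = q (pr none (some 0)) := by
  have hperm : ∀ (σ : Equiv.Perm GolayPt) (h₁ : ∀ w ∈ golayCode, w ∘ σ ∈ golayCode)
      (h₂ : ∀ w ∈ golayCode, w ∘ σ.symm ∈ golayCode) (a b : GolayPt), q (pr (σ a) (σ b)) = q (pr a b) := fun σ h₁ h₂ a b => by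
    rw [← pr_comp σ h₁ h₂ a b, hinv]
  have hshift : ∀ t a b, q (pr (shift t a) (shift t b)) = q (pr a b) := fun t =>
    hperm _ (shift_code t) (shift_code_symm t)
  have hs : ∀ t x : ZMod 23, shift t (some x) = some (x + t) := fun t x => rfl
  have hn : ∀ t : ZMod 23, shift t none = none := fun t => rfl
  have h0 : ∀ x : ZMod 23, q (pr none (some x)) = q (pr none (some 0)) := fun x => by
    have := hshift x none (some 0)
    rwa [hn, hs, zero_add] at this
  have hd : ∀ d : ZMod 23, d ≠ 0 → ∃ y : ZMod 23, projInv (some y) = some d := by decide +kernel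
  have hsome : ∀ a b : ZMod 23, a ≠ b → q (pr (some a) (some b)) = q (pr none (some 0)) := by
    intro a b hab
    have h1 := hshift a (some 0) (some (b - a))
    rw [hs, hs, zero_add, sub_add_cancel] at h1
    obtain ⟨y, hy⟩ := hd (b - a) (sub_ne_zero.mpr (Ne.symm hab))
    have h2 := hperm projInv projInv_code projInv_code none (some y)
    rw [show projInv none = some 0 from rfl, hy] at h2
    rw [h1, h2, h0]
  rcases i with - | a <;> rcases j with - | b
  · exact absurd rfl hij
  · exact h0 b
  · rw [pr_comm]; exact h0 a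
  · exact hsome a b fun h => hij (by rw [h])

/-- The test octad. -/
def oct : List GolayPt := (List.range 24).filterMap fun i =>
  if (0xc75001 : ℕ).testBit i then some (Golay.pt i) else none

theorem oct_eq : oct = [some 0, some 12, some 14, some 16, some 17, some 18, some 22, none] := by
  decide +kernel

include hb hcls hinv in
theorem quad_four_eq_zero (x : evenSum) : q (four x) = 0 := by
  set β := q (pr none (some 0)) with hβ
  have hβ' : ∀ i j, i ≠ j → q (pr i j) = β := fun i j h => q_pr_const hinv i j h
  set c := dbl none with hc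
  have hb2 : ∀ u v w, pol q u (v + w) = pol q u v + pol q u w := fun u v w => by
    rw [pol_comm, hb, pol_comm, pol_comm w]
  -- all the vectors `8 e_i` are congruent to `c`
  have hclsc : ∀ i, ∃ w, dbl i = c + (w + w) := fun i => by
    refine ⟨four ⟨Pi.single i 1 - Pi.single none 1, ?_⟩, ?_⟩
    · rw [mem_evenSum]
      simp [Finset.sum_sub_distrib]
    · ext1; funext k
      simp only [AddSubgroup.coe_add, Pi.add_apply, dbl_apply, hc, four_apply, Pi.sub_apply, Pi.single_apply]
      split <;> split <;> omega
  have hq : ∀ i v, q (v + dbl i) = q (v + c) := fun i v => by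
    obtain ⟨w, hw⟩ := hclsc i
    rw [hw, ← add_assoc, hcls]
  -- sign changes: q (p + c) = q p
  have hsign : ∀ i j, i ≠ j → q (pr i j + c) = β := by
    intro i j hij
    obtain ⟨w, hw, hwi, hwj⟩ := exists_sep i j hij
    have he : (signAut w hw).1 (pr i j) + dbl j = pr i j := by
      ext1; funext k
      simp only [AddSubgroup.coe_add, Pi.add_apply, dbl_apply]
      show (if w k = 0 then _ else _) + _ = _
      simp only [pr_apply]
      by_cases hki : k = i
      · subst hki; simp [hwi, hij]
      by_cases hkj : k = j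
      · subst hkj; simp [hwj, hki]
      simp [hki, hkj]
    set v := (signAut w hw).1 (pr i j) with hv
    have hv' : q v = β := by rw [hv, hinv, hβ' i j hij]
    obtain ⟨u, hu⟩ := hclsc j
    have hpc : pr i j + c = v + ((c + u) + (c + u)) := by rw [← he, hu]; abel
    rw [hpc, hcls, hv']
  have hf : ∀ i j, i ≠ j → pol q (pr i j) c = q c := fun i j h => by
    rw [pol, hsign i j h, hβ' i j h, two_add, zero_add]
  -- q c = 0
  have hqc : q c = 0 := by
    have he : c + pr (some 0) (some 1) = pr none (some 0) + pr none (some 1) := by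
      ext1; funext k
      simp only [AddSubgroup.coe_add, Pi.add_apply, hc, pr_apply, dbl_apply, Pi.single_apply]
      split <;> split <;> split <;> omega
    have h1 : pol q c c + pol q (pr (some 0) (some 1)) c =
        pol q (pr none (some 0)) c + pol q (pr none (some 1)) c := by rw [← hb, ← hb, he]
    rw [hf _ _ (by decide), hf _ _ (by decide), hf _ _ (by decide), two_add] at h1
    have h2 : pol q c c = 0 := by
      simp only [pol]
      have := hcls 0 c
      rw [zero_add, q_zero hb hcls] at this
      rw [this, zero_add, two_add]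
    rwa [h2, zero_add] at h1
  have hf0 : ∀ i j, i ≠ j → pol q (pr i j) c = 0 := fun i j h => (hf i j h).trans hqc
  -- pairs sharing one point
  have hshare : ∀ i j k, i ≠ j → j ≠ k → i ≠ k → pol q (pr i j) (pr j k) = β := by
    intro i j k hij hjk hik
    have he : pr i j + pr j k = pr i k + dbl j := by
      ext1; funext l
      simp only [AddSubgroup.coe_add, Pi.add_apply, pr_apply, dbl_apply, Pi.single_apply]
      split <;> split <;> omega
    rw [pol, he, hq, hsign i k hik, hβ' i j hij, hβ' j k hjk, two_add, zero_add]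
  -- disjoint pairs
  have hdisj : ∀ i j k l, i ≠ j → i ≠ k → i ≠ l → j ≠ k → j ≠ l → k ≠ l →
      pol q (pr i j) (pr k l) = 0 := by
    intro i j k l hij hik hil hjk hjl hkl
    have he : pr k l + dbl j = pr j k + pr j l := by
      ext1; funext a
      simp only [AddSubgroup.coe_add, Pi.add_apply, pr_apply, dbl_apply, Pi.single_apply]
      split <;> split <;> split <;> omega
    obtain ⟨u, hu⟩ := hclsc j
    have h1 : pol q (pr i j) (pr k l + dbl j) = pol q (pr i j) (pr k l) := by
      rw [hu, hb2, pol_comm (v := pr i j) (w := c + (u + u)), pol_cls hcls, pol_comm (v := c), hf0 i j hij,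
        add_zero]
    rw [← h1, he, hb2, hshare i j k hij hjk hik, hshare i j l hij hjl hil, two_add]
  -- the octad
  have hβ0 : β = 0 := by
    let O : GolayPt → ℤ := fun p => if p ∈ oct then 1 else 0
    have hO : (2 : ℤ) • ((2 : ℤ) • O) ∈ leechLattice ∧ (2 : ℤ) • O ∈ leechLattice := by
      have hev : 2 ∣ ∑ i, O i := by simp only [O, oct_eq]; decide +kernel
      refine ⟨by rw [smul_smul]; exact four_mem hev, ?_⟩
      refine Leech.mem_mk_even O (by simp only [O, oct_eq]; decide +kernel) ?_
      have hw := Golay.rows_mem 0xc75001 (by simp [Golay.rows])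
      convert hw using 1
      funext p
      simp only [Leech.mod2, O, oct_eq]
      revert p
      decide +kernel
    set h : leechLattice := ⟨_, hO.2⟩ with hh
    have he : pr (some 0) (some 12) + (pr (some 14) (some 16) + (pr (some 17) (some 18) + pr (some 22) none))
        = 0 + (h + h) := by
      ext1; funext k
      simp only [AddSubgroup.coe_add, Pi.add_apply, pr_apply, ZeroMemClass.coe_zero, Pi.zero_apply,
        hh, Pi.smul_apply, smul_eq_mul, O, oct_eq]
      revert k
      decide +kernel
    have h1 : pol q (pr (some 0) (some 12) + (pr (some 14) (some 16) + (pr (some 17) (some 18) + pr (some 22) none)))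
        (pr (some 0) (some 1)) = 0 := by
      rw [he, pol_cls hcls]
      simp only [pol, zero_add, q_zero hb hcls, add_zero, two_add]
    rw [hb, hb, hb, pr_comm (some 0) (some 12), hshare _ _ _ (by decide) (by decide) (by decide),
      hdisj _ _ _ _ (by decide) (by decide) (by decide) (by decide) (by decide) (by decide),
      hdisj _ _ _ _ (by decide) (by decide) (by decide) (by decide) (by decide) (by decide),
      hdisj _ _ _ _ (by decide) (by decide) (by decide) (by decide) (by decide) (by decide)] at h1
    simpa using h1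
  -- polarisation vanishes among the generators
  have hgen : ∀ i j k l, i ≠ j → k ≠ l → pol q (pr i j) (pr k l) = 0 := by
    intro i j k l hij hkl
    by_cases hik : i = k
    · subst hik
      by_cases hjl : j = l
      · subst hjl
        rw [pol]
        have := hcls 0 (pr i j)
        rw [zero_add, q_zero hb hcls] at this
        rw [this, zero_add, two_add]
      rw [pr_comm i j, hshare _ _ _ (Ne.symm hij) hkl hjl, hβ0]
    by_cases hil : i = l
    · subst hil
      by_cases hjk : j = k
      · subst hjk
        rw [pr_comm i j, pol]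
        have := hcls 0 (pr j i)
        rw [zero_add, q_zero hb hcls] at this
        rw [this, zero_add, two_add]
      rw [pr_comm k i, pr_comm i j, hshare _ _ _ (Ne.symm hij) hik hjk, hβ0]
    by_cases hjk : j = k
    · subst hjk; rw [hshare _ _ _ hij hkl hil, hβ0]
    by_cases hjl : j = l
    · subst hjl; rw [pr_comm k j, hshare _ _ _ hij (Ne.symm hkl) hik, hβ0]
    exact hdisj i j k l hij hik hil hjk hjl hkl
  -- the generators generate
  set S : Set leechLattice := {v | ∃ i j, i ≠ j ∧ v = pr i j} with hS
  have hmem : four x ∈ AddSubgroup.closure S := by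
    have hp : ∀ i j, i ≠ j → pr i j ∈ AddSubgroup.closure S := fun i j h =>
      AddSubgroup.subset_closure ⟨i, j, h, rfl⟩
    have hdbl : c ∈ AddSubgroup.closure S := by
      have : c = pr none (some 0) + pr none (some 1) - pr (some 0) (some 1) := by
        ext1; funext k
        simp only [AddSubgroup.coe_add, AddSubgroup.coe_sub, Pi.add_apply, Pi.sub_apply, hc, pr_apply,
          dbl_apply, Pi.single_apply]
        split <;> split <;> split <;> omega
      rw [this]
      exact sub_mem (add_mem (hp _ _ (by decide)) (hp _ _ (by decide))) (hp _ _ (by decide))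
    have hterm : ∀ i, four ⟨Pi.single i 1 - Pi.single none 1, by rw [mem_evenSum]; simp [Finset.sum_sub_distrib]⟩
        ∈ AddSubgroup.closure S := by
      intro i
      by_cases hi : i = none
      · subst hi
        convert zero_mem (AddSubgroup.closure S)
        ext1; funext k; simp [four_apply]
      convert sub_mem (hp i none hi) hdbl
      ext1; funext k
      simp only [AddSubgroup.coe_sub, Pi.sub_apply, four_apply, hc, pr_apply, dbl_apply, Pi.single_apply]
      split <;> split <;> omega
    obtain ⟨m, hm⟩ := mem_evenSum.mp x.2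
    have hx : x = (∑ i, (x : GolayPt → ℤ) i • (⟨Pi.single i 1 - Pi.single none 1, by
        rw [mem_evenSum]; simp [Finset.sum_sub_distrib]⟩ : evenSum)) + m • (⟨Pi.single none 2, eight_mem none⟩ : evenSum) := by
      ext1; funext k
      simp only [AddSubgroup.coe_add, AddSubgroup.val_finset_sum, AddSubgroup.coe_zsmul, Pi.add_apply,
        Finset.sum_apply, Pi.smul_apply, Pi.sub_apply, smul_eq_mul, mul_sub, Finset.sum_sub_distrib]
      simp only [Pi.single_apply, mul_ite, mul_one, mul_zero, Finset.sum_ite_eq, Finset.mem_univ, if_true]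
      by_cases hk : k = none <;> simp [hk, hm, mul_comm]
    rw [hx, map_add, map_sum, map_zsmul]
    refine add_mem (sum_mem fun i _ => ?_) (zsmul_mem hdbl m)
    rw [map_zsmul]
    exact zsmul_mem (hterm i) _
  have hneg : ∀ v, q (-v) = q v := fun v => by
    rw [show -v = v + (-v + -v) by abel, hcls]
  have key : ∀ v ∈ AddSubgroup.closure S, q v = 0 ∧ ∀ i j, i ≠ j → pol q v (pr i j) = 0 := by
    intro v hv
    refine AddSubgroup.closure_induction (p := fun v _ => q v = 0 ∧ ∀ i j, i ≠ j → pol q v (pr i j) = 0)
      ?_ ?_ ?_ ?_ hv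
    · rintro _ ⟨i, j, h, rfl⟩
      exact ⟨(hβ' i j h).trans hβ0, fun k l hkl => hgen i j k l h hkl⟩
    · exact ⟨q_zero hb hcls, fun i j _ => by
        rw [pol, zero_add, q_zero hb hcls, add_zero, two_add]⟩
    · intro u w _ hwS hu hw
      refine ⟨?_, fun i j h => by rw [hb, hu.2 i j h, hw.2 i j h, add_zero]⟩
      have hz : ∀ w ∈ AddSubgroup.closure S, pol q u w = 0 := fun w hw => by
        refine AddSubgroup.closure_induction (p := fun w _ => pol q u w = 0) ?_ ?_ ?_ ?_ hw
        · rintro _ ⟨i, j, h, rfl⟩; exact hu.2 i j h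
        · rw [pol, add_zero, q_zero hb hcls, add_zero, two_add]
        · intro a b _ _ ha hb'; rw [hb2, ha, hb', add_zero]
        · intro a _ ha
          rw [show -a = a + (-a + -a) by abel, pol_comm, pol_cls hcls, pol_comm, ha]
      rw [q_add (q := q), hu.1, hw.1, hz w hwS, add_zero, add_zero]
    · intro u _ hu
      refine ⟨(hneg u).trans hu.1, fun i j h => ?_⟩
      rw [show -u = u + (-u + -u) by abel, pol_cls hcls]
      exact hu.2 i j h
  exact (key _ hmem).1

end

/-! ### A set of 4096 vectors with distinct classes -/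

/-- The point of bit `12 + k`. -/
def hi (k : ℕ) : GolayPt := Golay.pt (12 + k)

/-- Basis vectors. -/
def base (k : Fin 12) : evenSum :=
  if k = 0 then ⟨Pi.single (hi 0) 2, eight_mem _⟩
  else ⟨Pi.single (hi k) 1 + Pi.single (hi 0) 1, single_pair_mem _ _⟩

/-- The combination with coefficients `u`. -/
def pick (u : Fin 12 → Bool) : evenSum := ∑ k, if u k then base k else 0

theorem code_zero_of_high {w : GolayPt → ZMod 2} (hw : w ∈ golayCode)
    (h : ∀ i < 12, w (Golay.pt i) = 0) : w = 0 := by
  obtain ⟨x, hx, rfl⟩ := Golay.mem_golayCode_iff.mp hw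
  suffices x = 0 by rw [this, Golay.enc_zero, Golay.word_zero]
  apply Nat.eq_of_testBit_eq
  intro i
  rw [Nat.zero_testBit]
  rcases lt_or_ge i 12 with hi | hi
  · have h' := h i hi
    rw [Golay.word, Golay.idx_pt (by omega)] at h'
    rw [← Golay.enc_mod hx, show (4096 : ℕ) = 2 ^ 12 from rfl, Nat.testBit_mod_two_pow]
    simp only [hi, decide_true, Bool.true_and]
    by_contra hne
    rw [Bool.not_eq_false] at hne
    simp [hne] at h'
  · exact Nat.testBit_lt_two_pow (lt_of_lt_of_le hx
      (le_trans (by norm_num) (Nat.pow_le_pow_right (by norm_num : 1 ≤ 2) hi)))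

theorem pick_class_injective (u u' : Fin 12 → Bool) (w : leechLattice)
    (h : four (pick u) = four (pick u') + (w + w)) : u = u' := by
  set y : GolayPt → ℤ := (pick u : GolayPt → ℤ) - (pick u' : GolayPt → ℤ) with hy
  have hw : (w : GolayPt → ℤ) = (2 : ℤ) • y := by
    funext i
    have := congrArg (fun v : leechLattice => (v : GolayPt → ℤ) i) h
    simp only [AddSubgroup.coe_add, Pi.add_apply, four_apply] at this
    simp only [hy, Pi.smul_apply, Pi.sub_apply, smul_eq_mul]
    omega
  obtain ⟨m, a, hm, h1, h2, h3⟩ := Leech.exists_rep w.2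
  have hm0 : m = 0 := by
    have := h1 none
    rw [hw] at this
    simp only [Pi.smul_apply, smul_eq_mul] at this
    omega
  subst hm0
  have ha : a = y := funext fun i => by
    have := h1 i
    rw [hw] at this
    simp only [Pi.smul_apply, smul_eq_mul, zero_add] at this
    omega
  subst ha
  have hev : ∀ v : Fin 12 → Bool, ∀ i, (pick v : GolayPt → ℤ) i =
      ∑ k, if v k then (base k : GolayPt → ℤ) i else 0 := fun v i => by
    rw [pick, AddSubgroup.val_finset_sum, Finset.sum_apply]
    exact Finset.sum_congr rfl fun k _ => by split <;> simp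
  have hlow : ∀ k : Fin 12, ∀ i < 12, (base k : GolayPt → ℤ) (Golay.pt i) = 0 := by decide +kernel
  have hzero : Leech.mod2 y = 0 := code_zero_of_high h3 fun i hi => by
    simp [Leech.mod2, hy, hev, hlow _ i hi]
  have hdiag : ∀ k j : Fin 12, j ≠ 0 →
      (base k : GolayPt → ℤ) (hi j) = if k = j then 1 else 0 := by decide +kernel
  have hval : ∀ j : Fin 12, j ≠ 0 → y (hi j) = (if u j then 1 else 0) - (if u' j then 1 else 0) := by
    intro j hj
    simp only [hy, Pi.sub_apply, hev, hdiag _ j hj]
    congr 1 <;>
    · rw [Finset.sum_eq_single j (fun k _ hk => by simp [hk]) (by simp)]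
      simp
  have hne : ∀ j : Fin 12, j ≠ 0 → u j = u' j := by
    intro j hj
    have := congrFun hzero (hi j)
    rw [Leech.mod2, hval j hj, Pi.zero_apply] at this
    revert this; cases u j <;> cases u' j <;> decide
  have hsum : ∑ i, y i = 2 * ((if u 0 then 1 else 0) - (if u' 0 then 1 else 0)) := by
    have hb : ∀ k : Fin 12, ∑ i, (base k : GolayPt → ℤ) i = 2 := by decide +kernel
    have hs : ∀ v : Fin 12 → Bool, ∑ i, (pick v : GolayPt → ℤ) i = 2 * ∑ k, if v k then 1 else 0 := by
      intro v
      simp only [hev]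
      rw [Finset.sum_comm, Finset.mul_sum]
      exact Finset.sum_congr rfl fun k _ => by split <;> simp [hb]
    simp only [hy, Pi.sub_apply, Finset.sum_sub_distrib, hs]
    rw [← mul_sub, ← Finset.sum_sub_distrib,
      Finset.sum_eq_single (0 : Fin 12) (fun j _ hj => by rw [hne j hj, sub_self]) (by simp)]
  rw [hsum] at h2
  have h0 : u 0 = u' 0 := by revert h2; cases u 0 <;> cases u' 0 <;> decide
  funext j
  by_cases hj : j = 0
  · rw [hj, h0]
  · exact hne j hj

end Cfsg.Agent.LeechQuad
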