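import Cfsg.Agent.Lib.LargeExtraspecial.Pair
import Cfsg.Agent.Lib.PGroup.Basic
import Cfsg.Agent.Lib.Coprime.Invariant

/-
Recognition of extraspecial subgroups inside an ambient group (`isExtraspecial_of_gen`), and the
decomposition Q = C_Q(A) ∘ [Q, A] for odd A normalising a subgroup with `Data` (`odd_decomposition`).
-/

set_option autoImplicit false
open scoped commutatorElement

namespace Cfsg.Agent.LargeExtraspecial

variable {G : Type*} [Group G]

theorem isExtraspecial_of_gen [Finite G] {P : Subgroup G} {z : G} (hp : IsPGroup 2 P) (hzP : z ∈ P)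
    (hz1 : z ≠ 1) (hzc : ∀ q ∈ P, q * z = z * q)
    (hcen : ∀ x ∈ P, (∀ q ∈ P, q * x = x * q) → x = 1 ∨ x = z)
    (hcomm : ∀ a ∈ P, ∀ b ∈ P, ⁅a, b⁆ = 1 ∨ ⁅a, b⁆ = z)
    (hsq : ∀ a ∈ P, a * a = 1 ∨ a * a = z)
    (hnab : ∃ a ∈ P, ∃ b ∈ P, ⁅a, b⁆ ≠ 1) :
    Cfsg.IsExtraspecial 2 ↥P ∧ zc P = Subgroup.zpowers z := by
  haveI : Fact (Nat.Prime 2) := ⟨Nat.prime_two⟩
  set z' : P := ⟨z, hzP⟩ with hz'
  have hzC : z' ∈ Subgroup.center P := Subgroup.mem_center_iff.mpr fun q => Subtype.ext (hzc q q.2)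
  have hmem : ∀ x : P, x ∈ Subgroup.center P → x = 1 ∨ x = z' := fun x hx => by
    rcases hcen x x.2 (fun q hq => congrArg Subtype.val (Subgroup.mem_center_iff.mp hx ⟨q, hq⟩)) with h | h
    · exact Or.inl (Subtype.ext h)
    · exact Or.inr (Subtype.ext h)
  have hcard : Nat.card (Subgroup.center P) = 2 := by
    rw [Nat.card_eq_two_iff' (1 : Subgroup.center P)]
    refine ⟨⟨z', hzC⟩, fun h => hz1 (congrArg (fun w : Subgroup.center P => ((w : P) : G)) h), fun y hy => ?_⟩
    rcases hmem y y.2 with h | h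
    · exact absurd (Subtype.ext h) hy
    · exact Subtype.ext h
  have hcC : _root_.commutator P ≤ Subgroup.center P := by
    rw [commutator_def, Subgroup.commutator_le]
    intro a _ b _
    have hval : ((⁅a, b⁆ : P) : G) = ⁅(a : G), (b : G)⁆ := map_commutatorElement P.subtype a b
    rcases hcomm a a.2 b b.2 with h | h
    · rw [show ⁅a, b⁆ = 1 from Subtype.ext (hval.trans h)]; exact one_mem _
    · rw [show ⁅a, b⁆ = z' from Subtype.ext (hval.trans h)]; exact hzC
  have hsqC : ∀ x : P, x ^ 2 ∈ Subgroup.center P := by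
    intro x
    rw [pow_two]
    rcases hsq x x.2 with h | h
    · rw [show x * x = 1 from Subtype.ext h]; exact one_mem _
    · rw [show x * x = z' from Subtype.ext h]; exact hzC
  have hCc : Subgroup.center P ≤ _root_.commutator P := by
    intro x hx
    obtain ⟨a, ha, b, hb, hab⟩ := hnab
    rcases hmem x hx with rfl | rfl
    · exact one_mem _
    · have h := (hcomm a ha b hb).resolve_left hab
      have : z' = ⁅(⟨a, ha⟩ : P), ⟨b, hb⟩⁆ :=
        Subtype.ext (h.symm.trans (map_commutatorElement P.subtype (⟨a, ha⟩ : P) ⟨b, hb⟩).symm)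
      rw [this, commutator_def]
      exact Subgroup.commutator_mem_commutator (Subgroup.mem_top _) (Subgroup.mem_top _)
  have hceq := le_antisymm hcC hCc
  refine ⟨⟨⟨hp, le_antisymm (PGroup.frattini_le_of_quotient_elementary (p := 2) hcC hsqC) ?_, hceq⟩, hcard⟩, ?_⟩
  · exact hceq ▸ PGroup.commutator_le_frattini hp
  · refine le_antisymm ?_ (Subgroup.zpowers_le.mpr ⟨z', hzC, rfl⟩)
    rintro _ ⟨x, hx, rfl⟩
    rcases hmem x hx with rfl | rfl
    · rw [map_one]; exact one_mem _
    · exact Subgroup.mem_zpowers z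

/-- The odd-order decomposition. -/
theorem odd_decomposition [Finite G] {Q : Subgroup G} {z : G} (D : Data Q z) (hp : IsPGroup 2 Q)
    {A : Subgroup G} (hA : A ≤ Subgroup.normalizer (Q : Set G)) (hAodd : Odd (Nat.card A)) (hA1 : A ≠ ⊥) :
    (Q ⊓ Subgroup.centralizer (A : Set G)) ⊔ ⁅Q, A⁆ = Q ∧
      (∀ x ∈ Q ⊓ Subgroup.centralizer (A : Set G), ∀ y ∈ ⁅Q, A⁆, x * y = y * x) ∧
      Cfsg.IsExtraspecial 2 ↥⁅Q, A⁆ ∧
      (Q ⊓ Subgroup.centralizer (A : Set G) = Subgroup.zpowers z ∨
        (Cfsg.IsExtraspecial 2 ↥(Q ⊓ Subgroup.centralizer (A : Set G) : Subgroup G) ∧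
          zc (Q ⊓ Subgroup.centralizer (A : Set G)) = Subgroup.zpowers z)) := by
  haveI : Fact (Nat.Prime 2) := ⟨Nat.prime_two⟩
  have hcop : (Nat.card A).Coprime (Nat.card Q) := by
    obtain ⟨n, hn⟩ := IsPGroup.iff_card.mp hp
    rw [hn]
    exact Nat.Coprime.pow_right n (Nat.coprime_two_right.mpr hAodd)
  have hsolv : Group.IsSolvable A ∨ Group.IsSolvable Q := Or.inr (by
    haveI := hp.isNilpotent; infer_instance)
  set C := Q ⊓ Subgroup.centralizer (A : Set G) with hC
  set B := ⁅Q, A⁆ with hB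
  have hsup : C ⊔ B = Q := by rw [sup_comm]; exact Coprime.commutator_sup_centralizer hA hcop hsolv
  have hBQ : B ≤ Q := Coprime.commutator_le_left' hA
  -- A centralizes z
  have hAz : ∀ a ∈ A, a * z = z * a := by
    intro a ha
    have h1 : a * z * a⁻¹ ∈ Q := (Subgroup.mem_normalizer_iff.mp (hA ha) z).mp D.z_mem
    rcases D.cent (a * z * a⁻¹) (fun q hq => by
      have hq' : a⁻¹ * q * a ∈ Q := ((Subgroup.mem_normalizer_iff''.mp (hA ha)) q).mp hq
      have := congrArg (fun w => a * w * a⁻¹) (D.z_central _ hq')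
      simpa [mul_assoc] using this) with h | h
    · exact absurd (conj_eq_one_iff.mp h) D.z_ne
    · exact mul_inv_eq_iff_eq_mul.mp h
  have hcomm : ∀ x ∈ C, ∀ y ∈ B, x * y = y * x := by
    have h1 : ⁅⁅A, C⁆, Q⁆ = ⊥ := by
      have : ⁅A, C⁆ = ⊥ := Subgroup.commutator_eq_bot_iff_le_centralizer.mpr fun a ha =>
        Subgroup.mem_centralizer_iff.mpr fun c hc =>
          (Subgroup.mem_centralizer_iff.mp hc.2 a ha).symm
      rw [this, Subgroup.commutator_bot_left]
    have h2 : ⁅⁅C, Q⁆, A⁆ = ⊥ := by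
      rw [Subgroup.commutator_eq_bot_iff_le_centralizer]
      refine (Subgroup.commutator_le).mpr fun c hc q hq => ?_
      rw [Subgroup.mem_centralizer_iff]
      intro a ha
      rcases D.comm c hc.1 q hq with h | h <;> rw [h]
      · simp
      · exact hAz a ha
    have h3 := Subgroup.commutator_commutator_eq_bot_of_rotate h1 h2
    rw [Subgroup.commutator_eq_bot_iff_le_centralizer] at h3
    intro x hx y hy
    exact Subgroup.mem_centralizer_iff.mp (h3 hy) x hx
  have hcenB : ∀ x ∈ B, (∀ q ∈ B, q * x = x * q) → x = 1 ∨ x = z := by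
    intro x hx hq
    refine D.cent x fun q hq' => ?_
    rw [← hsup, Subgroup.sup_eq_closure] at hq'
    induction hq' using Subgroup.closure_induction with
    | mem y hy =>
      rcases hy with hy | hy
      exacts [hcomm y hy x hx, hq y hy]
    | one => simp
    | mul a b _ _ ha hb => exact (Commute.mul_left ha hb).eq
    | inv a _ ha => exact (Commute.inv_left ha).eq
  have hnab : ∃ a ∈ B, ∃ b ∈ B, ⁅a, b⁆ ≠ 1 := by
    by_contra! hall
    have hBz : ∀ x ∈ B, x = 1 ∨ x = z := fun x hx => hcenB x hx fun q hq =>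
      commutatorElement_eq_one_iff_mul_comm.mp (hall q hq x hx)
    have h0 : ⁅B, A⁆ = ⊥ := by
      rw [Subgroup.commutator_eq_bot_iff_le_centralizer]
      intro x hx
      rw [Subgroup.mem_centralizer_iff]
      intro a ha
      rcases hBz x hx with rfl | rfl
      · simp
      · exact hAz a ha
    rw [Coprime.commutator_commutator_eq hA hcop hsolv, Subgroup.commutator_eq_bot_iff_le_centralizer] at h0
    apply hA1
    rw [Subgroup.eq_bot_iff_forall]
    intro a ha
    refine eq_one_of_odd_of_two hAodd hp ha ?_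
    rcases D.cent a (fun q hq => (Subgroup.mem_centralizer_iff.mp (h0 hq) a ha).symm) with rfl | rfl
    · exact one_mem _
    · exact D.z_mem
  have hzB : z ∈ B := by
    obtain ⟨a, ha, b, hb, hab⟩ := hnab
    rw [← (D.comm a (hBQ ha) b (hBQ hb)).resolve_left hab, commutatorElement_def]
    exact mul_mem (mul_mem (mul_mem ha hb) (inv_mem ha)) (inv_mem hb)
  refine ⟨hsup, hcomm, (isExtraspecial_of_gen (hp.to_le hBQ) hzB D.z_ne (fun q hq => D.z_central q (hBQ hq))
    hcenB (fun a ha b hb => D.comm a (hBQ ha) b (hBQ hb)) (fun a ha => D.sq (hBQ ha)) hnab).1, ?_⟩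
  have hzC : z ∈ C := ⟨D.z_mem, Subgroup.mem_centralizer_iff.mpr fun a ha => hAz a ha⟩
  have hcenC : ∀ x ∈ C, (∀ q ∈ C, q * x = x * q) → x = 1 ∨ x = z := by
    intro x hx hq
    refine D.cent x fun q hq' => ?_
    rw [← hsup, Subgroup.sup_eq_closure] at hq'
    induction hq' using Subgroup.closure_induction with
    | mem y hy =>
      rcases hy with hy | hy
      exacts [hq y hy, (hcomm x hx y hy).symm]
    | one => simp
    | mul a b _ _ ha hb => exact (Commute.mul_left ha hb).eq
    | inv a _ ha => exact (Commute.inv_left ha).eq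
  by_cases hnC : ∃ a ∈ C, ∃ b ∈ C, ⁅a, b⁆ ≠ 1
  · exact Or.inr (isExtraspecial_of_gen (hp.to_le inf_le_left) hzC D.z_ne (fun q hq => D.z_central q hq.1)
      hcenC (fun a ha b hb => D.comm a ha.1 b hb.1) (fun a ha => D.sq ha.1) hnC)
  · push Not at hnC
    refine Or.inl (le_antisymm (fun x hx => ?_) (Subgroup.zpowers_le.mpr hzC))
    rcases hcenC x hx fun q hq => commutatorElement_eq_one_iff_mul_comm.mp (hnC q hq x hx) with rfl | rfl
    exacts [one_mem _, Subgroup.mem_zpowers _]

end Cfsg.Agent.LargeExtraspecial
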