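import Cfsg.Agent.EqLemmas

/-
Basic facts on large extraspecial 2-subgroups: pCore bookkeeping, the centre Z of Q inside G,
odd subgroups normalised by a 2-element, Z(T) = Z for a Sylow 2-subgroup T containing Q.
-/

set_option autoImplicit false

namespace Cfsg.Agent.LargeExtraspecial

variable {G : Type*} [Group G]

theorem pCore_le_sylow [Finite G] (p : ℕ) [Fact p.Prime] (P : Sylow p G) :
    Cfsg.pCore p G ≤ (P : Subgroup G) := by
  apply sSup_le
  rintro N ⟨hN, hp⟩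
  obtain ⟨P', hP'⟩ := hp.exists_le_sylow
  obtain ⟨g, hg⟩ := MulAction.exists_smul_eq G P' P
  subst hg
  intro x hx
  have h : g⁻¹ * x * (g⁻¹)⁻¹ ∈ N := hN.conj_mem x hx g⁻¹
  rw [Sylow.coe_subgroup_smul, Subgroup.mem_pointwise_smul_iff_inv_smul_mem]
  simpa [MulAut.smul_def] using hP' h

theorem isPGroup_pCore [Finite G] (p : ℕ) [Fact p.Prime] : IsPGroup p (Cfsg.pCore p G) :=
  (Classical.arbitrary (Sylow p G)).isPGroup'.to_le (pCore_le_sylow p _)

theorem pCore_conj_mem (p : ℕ) {x : G} (hx : x ∈ Cfsg.pCore p G) (g : G) :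
    g * x * g⁻¹ ∈ Cfsg.pCore p G := by
  have : Cfsg.pCore p G ≤ (Cfsg.pCore p G).comap (MulAut.conj g).toMonoidHom := by
    apply sSup_le
    intro N hN y hy
    rw [Subgroup.mem_comap]
    exact (le_sSup (a := N) hN) (hN.1.conj_mem y hy g)
  simpa using this hx

theorem eq_one_of_odd_of_two {K P : Subgroup G} (hK : Odd (Nat.card K)) (hP : IsPGroup 2 P)
    {x : G} (hxK : x ∈ K) (hxP : x ∈ P) : x = 1 := by
  obtain ⟨n, hn⟩ := hP ⟨x, hxP⟩
  have h1 : x ^ 2 ^ n = 1 := by simpa using congrArg Subtype.val hn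
  have h2 : orderOf x ∣ Nat.card K := Subgroup.orderOf_mk x hxK ▸ orderOf_dvd_natCard (⟨x, hxK⟩ : K)
  obtain ⟨i, -, hi⟩ := (Nat.dvd_prime_pow Nat.prime_two).mp (orderOf_dvd_of_pow_eq_one h1)
  rw [← orderOf_eq_one_iff]
  rcases i with - | i
  · simpa using hi
  · exfalso
    rw [hi] at h2
    exact hK.not_two_dvd_nat (dvd_trans (dvd_pow_self 2 (Nat.succ_ne_zero i)) h2)

/-- If `z` normalises `K`, lies in `P`, and `K` normalises `P`, then `z` centralises `K`. -/
theorem commute_of_normalizes {K P : Subgroup G} (hK : Odd (Nat.card K)) (hP : IsPGroup 2 P)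
    {z k : G} (hzP : z ∈ P) (hk : k ∈ K) (hzK : z ∈ Subgroup.normalizer (K : Set G))
    (hkP : k * z * k⁻¹ ∈ P) : k * z = z * k := by
  have h1 : k * z * k⁻¹ * z⁻¹ ∈ P := mul_mem hkP (inv_mem hzP)
  have h2 : k * (z * k⁻¹ * z⁻¹) ∈ K :=
    mul_mem hk (((Subgroup.mem_normalizer_iff).mp hzK k⁻¹).mp (inv_mem hk))
  have h3 := eq_one_of_odd_of_two hK hP (x := k * z * k⁻¹ * z⁻¹) (by simpa [mul_assoc] using h2) h1
  have := congrArg (fun y => y * z * k) h3
  simpa [mul_assoc] using this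

/-- The image in `G` of the centre of `Q`. -/
abbrev zc (Q : Subgroup G) : Subgroup G := (Subgroup.center ↥Q).map Q.subtype

theorem mem_zc {Q : Subgroup G} {x : G} :
    x ∈ zc Q ↔ x ∈ Q ∧ ∀ q ∈ Q, q * x = x * q := by
  constructor
  · rintro ⟨y, hy, rfl⟩
    refine ⟨y.2, fun q hq => ?_⟩
    have := Subgroup.mem_center_iff.mp hy ⟨q, hq⟩
    simpa using congrArg Subtype.val this
  · rintro ⟨hx, hc⟩
    exact ⟨⟨x, hx⟩, Subgroup.mem_center_iff.mpr fun q => Subtype.ext (hc q q.2), rfl⟩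

theorem zc_le (Q : Subgroup G) : zc Q ≤ Q := fun _ hx => (mem_zc.mp hx).1

theorem card_zc {Q : Subgroup G} (hQ : Cfsg.IsExtraspecial 2 ↥Q) : Nat.card (zc Q) = 2 := by
  rw [Subgroup.card_subtype]; exact hQ.2

theorem isPGroup_of_extraspecial {Q : Subgroup G} (hQ : Cfsg.IsExtraspecial 2 ↥Q) :
    IsPGroup 2 Q := hQ.1.1

theorem exists_gen_zc {Q : Subgroup G} (hQ : Cfsg.IsExtraspecial 2 ↥Q) :
    ∃ z, zc Q = Subgroup.zpowers z ∧ orderOf z = 2 ∧ z ∈ Q := by
  have hc := card_zc hQ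
  haveI : Fact (Nat.Prime 2) := ⟨Nat.prime_two⟩
  haveI : IsCyclic (zc Q) := isCyclic_of_prime_card hc
  obtain ⟨⟨z, hz⟩, hgen⟩ := IsCyclic.exists_generator (α := zc Q)
  refine ⟨z, ?_, ?_, zc_le Q hz⟩
  · ext x
    constructor
    · intro hx
      obtain ⟨n, hn⟩ := Subgroup.mem_zpowers_iff.mp (hgen ⟨x, hx⟩)
      exact Subgroup.mem_zpowers_iff.mpr ⟨n, by simpa using congrArg Subtype.val hn⟩
    · exact fun hx => Subgroup.zpowers_le.mpr hz hx
  · have := orderOf_eq_card_of_forall_mem_zpowers hgen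
    rw [hc] at this
    simpa using this

/-- If `Q` normalises `K` of odd order and centralises nothing outside `Z`, and `Z` centralises `K`,
then `K = ⊥`. -/
theorem eq_bot_of_zc_centralizes {Q : Subgroup G} (hQ : Cfsg.IsExtraspecial 2 ↥Q)
    (hL2 : Subgroup.centralizer (Q : Set G) = zc Q)
    (hL3 : Subgroup.centralizer (zc Q : Set G) ≤ Subgroup.normalizer (Q : Set G))
    {K : Subgroup G} (hK : Odd (Nat.card K)) (hQK : Q ≤ Subgroup.normalizer (K : Set G))
    (hc : ∀ k ∈ K, ∀ z ∈ zc Q, k * z = z * k) : K = ⊥ := by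
  have hP := isPGroup_of_extraspecial hQ
  rw [Subgroup.eq_bot_iff_forall]
  intro k hk
  have hkn : k ∈ Subgroup.normalizer (Q : Set G) :=
    hL3 (Subgroup.mem_centralizer_iff.mpr fun z hz => (hc k hk z hz).symm)
  have hkc : k ∈ Subgroup.centralizer (Q : Set G) := by
    refine Subgroup.mem_centralizer_iff.mpr fun q hq => ?_
    exact (commute_of_normalizes hK hP hq hk (hQK hq)
      ((Subgroup.mem_normalizer_iff.mp hkn q).mp hq)).symm
  rw [hL2] at hkc
  exact eq_one_of_odd_of_two hK hP hk (zc_le Q hkc)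

/-- A Sylow 2-subgroup containing `Q` has centre `Z`. -/
theorem center_sylow_eq [Finite G] {Q : Subgroup G} (hQ : Cfsg.IsExtraspecial 2 ↥Q)
    (hL2 : Subgroup.centralizer (Q : Set G) = zc Q) {T : Subgroup G} (hT : IsPGroup 2 T)
    (hQT : Q ≤ T) : zc T = zc Q := by
  haveI : Fact (Nat.Prime 2) := ⟨Nat.prime_two⟩
  haveI : Nontrivial T := by
    obtain ⟨z, -, hz2, hzQ⟩ := exists_gen_zc hQ
    exact ⟨⟨⟨z, hQT hzQ⟩, 1, fun h => by
      have : z = 1 := by simpa using congrArg Subtype.val h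
      simp [this] at hz2⟩⟩
  have hle : zc T ≤ zc Q := by
    intro x hx
    rw [← hL2, Subgroup.mem_centralizer_iff]
    exact fun q hq => (mem_zc.mp hx).2 q (hQT hq)
  refine Subgroup.eq_of_le_of_card_ge hle ?_
  haveI := hT.center_nontrivial
  have h2 : 1 < Nat.card (zc T) := by
    rw [Subgroup.card_subtype]
    exact Finite.one_lt_card
  rw [card_zc hQ]
  omega

end Cfsg.Agent.LargeExtraspecial
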