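import Cfsg.Agent.Lib.LargeExtraspecial.Quotient
import Cfsg.Agent.S5433

/-
Normal subgroups of a group with a large extraspecial 2-subgroup: they contain `z`
(`mem_of_normal`), and one containing `C(z)` is everything (`eq_top_of_centralizer_le`).
-/

set_option autoImplicit false

namespace Cfsg.Agent.LargeExtraspecial

variable {G : Type*} [Group G] [Finite G]

theorem isExtraspecial_congr {A B : Type*} [Group A] [Group B] {p : ℕ} (e : A ≃* B)
    (h : Cfsg.IsExtraspecial p A) : Cfsg.IsExtraspecial p B := by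
  obtain ⟨⟨hp, hf, hc⟩, hcard⟩ := h
  have hcen : (Subgroup.center A).map e.toMonoidHom = Subgroup.center B := by
    ext x
    rw [Subgroup.mem_map_equiv, Subgroup.mem_center_iff, Subgroup.mem_center_iff]
    refine ⟨fun hx y => ?_, fun hx y => ?_⟩
    · simpa using congrArg e (hx (e.symm y))
    · simpa using congrArg e.symm (hx (e y))
  refine ⟨⟨hp.of_equiv e, ?_, ?_⟩, ?_⟩
  · rw [← hcen, ← hf]
    refine le_antisymm ?_ (Subgroup.map_le_iff_le_comap.mpr
      (frattini_le_comap_frattini_of_surjective e.surjective))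
    intro x hx
    rw [Subgroup.mem_map_equiv]
    exact frattini_le_comap_frattini_of_surjective (φ := e.symm.toMonoidHom) e.symm.surjective hx
  · rw [← hcen, ← hc, commutator_def, commutator_def, Subgroup.map_commutator,
      Subgroup.map_top_of_surjective _ e.surjective]
  · rw [← hcen, ← hcard]
    exact (Nat.card_congr ((Subgroup.center A).equivMapOfInjective e.toMonoidHom e.injective).toEquiv).symm

theorem normalizer_le_centralizer {Q : Subgroup G} {z : G} (hz : zc Q = Subgroup.zpowers z)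
    (hzz : z * z = 1) : Subgroup.normalizer (Q : Set G) ≤ Subgroup.centralizer ({z} : Set G) := by
  intro g hg
  rw [Subgroup.mem_centralizer_singleton_iff]
  have hn := Subgroup.mem_normalizer_iff.mp hg
  have hzQ := mem_zc.mp (hz ▸ Subgroup.mem_zpowers z : z ∈ zc Q)
  have hgz : g * z * g⁻¹ ∈ zc Q := by
    rw [mem_zc]
    refine ⟨(hn z).mp hzQ.1, fun q hq => ?_⟩
    have hq' : g⁻¹ * q * g ∈ Q := (hn _).mpr (by rwa [show g * (g⁻¹ * q * g) * g⁻¹ = q by group])
    have h := congrArg (fun a => g * a * g⁻¹) (hzQ.2 _ hq')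
    simpa [mul_assoc] using h
  rw [hz] at hgz
  rcases mem_zpowers_two hzz hgz with h | h
  · rw [conj_eq_one_iff] at h
    simp [h]
  · exact mul_inv_eq_iff_eq_mul.mp h

theorem mem_of_normal {Q : Subgroup G} {z : G} (hQ : Cfsg.IsLargeExtraspecial Q)
    (hz : zc Q = Subgroup.zpowers z) (hzz : z * z = 1) {N : Subgroup G} [N.Normal] (hN : N ≠ ⊥) :
    z ∈ N := by
  haveI : Fact (Nat.Prime 2) := ⟨Nat.prime_two⟩
  obtain ⟨hQe, hL2, -, hodd⟩ := hQ
  have heven : 2 ∣ Nat.card N := by
    by_contra h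
    refine hN (hodd N (Nat.odd_iff.mpr (by omega)) ?_)
    rw [Subgroup.normalizer_eq_top]; exact le_top
  obtain ⟨x, hx⟩ := exists_prime_orderOf_dvd_card' 2 heven
  obtain ⟨T, hT⟩ := hQe.1.1.exists_le_sylow
  obtain ⟨T', hT'⟩ := (IsPGroup.of_card (p := 2) (n := 1)
    (G := Subgroup.zpowers (x : G)) (by rw [Nat.card_zpowers, orderOf_submonoid, hx, pow_one])).exists_le_sylow
  obtain ⟨g, hg⟩ := MulAction.exists_smul_eq G T' T
  have hxT : g * (x : G) * g⁻¹ ∈ (T : Subgroup G) := by
    rw [← hg, Sylow.coe_subgroup_smul, Subgroup.mem_pointwise_smul_iff_inv_smul_mem]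
    simpa [MulAut.smul_def, mul_assoc] using hT' (Subgroup.mem_zpowers (x : G))
  have hxN : g * (x : G) * g⁻¹ ∈ N := Subgroup.Normal.conj_mem inferInstance _ x.2 g
  have hx1 : g * (x : G) * g⁻¹ ≠ 1 := by
    rw [ne_eq, conj_eq_one_iff, OneMemClass.coe_eq_one]
    intro h; simp [h] at hx
  -- a fixed point of `T` on `N ⊓ T`
  have hTp : IsPGroup 2 (T : Subgroup G) := T.isPGroup'
  set S : Subgroup (T : Subgroup G) := N.subgroupOf T with hS
  haveI : S.Normal := Subgroup.normal_subgroupOf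
  have hS1 : Nontrivial S := ⟨⟨⟨_, hxT⟩, hxN⟩, 1, fun h => hx1 (by
    simpa using congrArg (fun y : S => ((y : (T : Subgroup G)) : G)) h)⟩
  have hcard : 2 ∣ Nat.card {y : (T : Subgroup G) // y ∈ S} := by
    obtain ⟨n, hn⟩ := IsPGroup.iff_card.mp (hTp.to_subgroup S)
    rcases n with - | n
    · exfalso
      have := Finite.one_lt_card (α := S)
      omega
    · exact ⟨2 ^ n, hn.trans (by ring)⟩
  have hTc : IsPGroup 2 (ConjAct (T : Subgroup G)) := hTp.of_equiv ConjAct.toConjAct
  obtain ⟨y, hy, hy1⟩ := hTc.exists_fixed_point_of_prime_dvd_card_of_fixed_point S hcard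
    (a := 1) (fun c => smul_one c)
  have hc : ((y : (T : Subgroup G)) : G) ∈ zc (T : Subgroup G) := by
    rw [mem_zc]
    refine ⟨(y : (T : Subgroup G)).2, fun q hq => ?_⟩
    have h := congrArg (fun w : S => ((w : (T : Subgroup G)) : G)) (hy (ConjAct.toConjAct ⟨q, hq⟩))
    have h' : q * ((y : (T : Subgroup G)) : G) * q⁻¹ = ((y : (T : Subgroup G)) : G) := h
    exact mul_inv_eq_iff_eq_mul.mp h'
  rw [center_sylow_eq hQe hL2 hTp hT, hz] at hc
  rcases mem_zpowers_two hzz hc with h | h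
  · exact absurd (Subtype.ext (Subtype.ext h.symm)) hy1
  · exact h ▸ (y.2 : ((y : (T : Subgroup G)) : G) ∈ N)

theorem eq_top_of_centralizer_le {Q : Subgroup G} {z : G} (hQ : Cfsg.IsLargeExtraspecial Q)
    (hz : zc Q = Subgroup.zpowers z) (hzz : z * z = 1) {N : Subgroup G} [N.Normal]
    (hN : Subgroup.centralizer ({z} : Set G) ≤ N) : N = ⊤ := by
  have hzQ := mem_zc.mp (hz ▸ Subgroup.mem_zpowers z : z ∈ zc Q)
  have hQN : Q ≤ N := fun q hq => hN (Subgroup.mem_centralizer_singleton_iff.mpr (hzQ.2 q hq))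
  rw [← Cfsg.Agent.S5433.result Q hQ N hQN]
  exact (sup_eq_left.mpr ((normalizer_le_centralizer hz hzz).trans hN)).symm

end Cfsg.Agent.LargeExtraspecial
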