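import Cfsg.Agent.Lib.LargeExtraspecial.Pair

/-
The configuration of two large extraspecial subgroups Q, P = gQg⁻¹ attached to a four-group
V = {1, z, s, sz} inside both: A = C_Q(s), B = C_P(z), R = AB, E = Q ∩ P, X = ⟨Q, P⟩.
Main results: `Cfg`, `mem_R`, `cent_AB`, `R_comm_mem`, `E_elementary`, `comm_X_E`, `R_normal`,
`inf_centralizer`, `quotient_card_le`.
-/

set_option autoImplicit false
open scoped commutatorElement

namespace Cfsg.Agent.LargeExtraspecial

variable {G : Type*} [Group G]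

/-- Two conjugate configurations with z ∈ P and s ∈ Q. -/
structure Cfg (Q P : Subgroup G) (z s : G) : Prop where
  dQ : Data Q z
  dP : Data P s
  s_mem : s ∈ Q
  z_mem : z ∈ P
  ne : s ≠ z

theorem Cfg.of_conj [Finite G] {Q : Subgroup G} {z g : G} (D : Data Q z) (hs : g * z * g⁻¹ ∈ Q)
    (hsz : g * z * g⁻¹ ≠ z) (hcard : 32 ≤ Nat.card Q) :
    Cfg Q (conjS g Q) z (g * z * g⁻¹) :=
  ⟨D, D.conjugate g, hs, D.mem_conj hs hsz hcard, hsz⟩

namespace Cfg

variable {Q P : Subgroup G} {z s : G} (C : Cfg Q P z s)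

/-- `A = C_Q(s)`. -/
abbrev A (Q : Subgroup G) (s : G) : Subgroup G := Q ⊓ Subgroup.centralizer ({s} : Set G)

theorem mem_A {Q : Subgroup G} {s x : G} : x ∈ A Q s ↔ x ∈ Q ∧ x * s = s * x := by
  rw [Subgroup.mem_inf, Subgroup.mem_centralizer_singleton_iff]

include C

theorem symm : Cfg P Q s z := ⟨C.dP, C.dQ, C.z_mem, C.s_mem, C.ne.symm⟩

theorem zs : z * s = s * z := (C.dQ.z_central s C.s_mem).symm

theorem q_conj {q : G} (hq : q ∈ Q) : q * s * q⁻¹ = s ∨ q * s * q⁻¹ = s * z := by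
  have e : q * s * q⁻¹ = ⁅q, s⁆ * s := by rw [commutatorElement_def]; group
  rcases C.dQ.comm q hq s C.s_mem with h | h <;> rw [e, h]
  · left; rw [one_mul]
  · right; exact C.zs

theorem norm_A {c : G} (hcz : c * z = z * c) (hcs : c * s = s * c) {a : G} (ha : a ∈ A Q s) :
    c * a * c⁻¹ ∈ A Q s := by
  rw [mem_A] at ha ⊢
  refine ⟨C.dQ.norm c hcz a ha.1, ?_⟩
  calc c * a * c⁻¹ * s = c * a * (c⁻¹ * s * c) * c⁻¹ := by group
    _ = c * (a * s) * c⁻¹ := by rw [mul_assoc c⁻¹, ← hcs]; group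
    _ = (c * s) * a * c⁻¹ := by rw [ha.2]; group
    _ = s * (c * a * c⁻¹) := by rw [hcs]; group

theorem A_comm_z {a : G} (ha : a ∈ A Q s) : a * z = z * a := C.dQ.z_central a (mem_A.mp ha).1

theorem comm_mem {a b : G} (ha : a ∈ A Q s) (hb : b ∈ A P z) : ⁅a, b⁆ ∈ Q ⊓ P := by
  refine Subgroup.mem_inf.mpr ⟨?_, ?_⟩
  · rw [commutatorElement_def, mul_assoc, mul_assoc, ← mul_assoc b]
    exact mul_mem (mem_A.mp ha).1 (C.dQ.norm b (mem_A.mp hb).2 _ (inv_mem (S := Subgroup G) (mem_A.mp ha).1))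
  · rw [commutatorElement_def]
    exact mul_mem (C.dP.norm a (mem_A.mp ha).2 _ (mem_A.mp hb).1) (inv_mem (mem_A.mp hb).1)

theorem E_eq : A P z ⊓ A Q s = Q ⊓ P := by
  ext x
  simp only [Subgroup.mem_inf, Subgroup.mem_centralizer_singleton_iff]
  exact ⟨fun h => ⟨h.2.1, h.1.1⟩,
    fun h => ⟨⟨h.2, C.dQ.z_central x h.1⟩, h.1, C.dP.z_central x h.2⟩⟩

theorem E_le_A : Q ⊓ P ≤ A Q s := fun x hx => mem_A.mpr ⟨hx.1, C.dP.z_central x hx.2⟩

theorem E_sq {x : G} (hx : x ∈ Q ⊓ P) : x * x = 1 := by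
  rcases C.dQ.sq hx.1 with h | h
  · exact h
  rcases C.dP.sq hx.2 with h' | h'
  · exact h'
  · exact absurd (h'.symm.trans h) C.ne

theorem E_elementary : Cfsg.IsElementaryAbelian 2 (Q ⊓ P : Subgroup G) := by
  refine ⟨⟨⟨fun x y => Subtype.ext ?_⟩⟩, fun x hx => (pow_two x).trans (C.E_sq hx)⟩
  show (x : G) * y = y * x
  rcases C.dQ.comm x x.2.1 y y.2.1 with h | h
  · exact commutatorElement_eq_one_iff_mul_comm.mp h
  rcases C.dP.comm x x.2.2 y y.2.2 with h' | h'
  · exact commutatorElement_eq_one_iff_mul_comm.mp h'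
  · exact absurd (h'.symm.trans h) C.ne

theorem mem_R {x : G} : x ∈ A P z ⊔ A Q s ↔ ∃ a ∈ A Q s, ∃ b ∈ A P z, x = a * b := by
  constructor
  · intro hx
    have hn : A P z ≤ Subgroup.normalizer (A Q s : Set G) := fun b hb => by
      rw [Subgroup.mem_normalizer_iff]
      intro a
      have hbz := (mem_A.mp hb).2
      have hbs : b * s = s * b := C.dP.z_central b (mem_A.mp hb).1
      refine ⟨fun h => C.norm_A hbz hbs h, fun h => ?_⟩
      have := C.norm_A (c := b⁻¹) (Commute.inv_left hbz).eq (Commute.inv_left hbs).eq h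
      simpa [mul_assoc] using this
    rw [sup_comm, ← SetLike.mem_coe, Subgroup.coe_mul_of_right_le_normalizer_left _ _ hn] at hx
    obtain ⟨a, ha, b, hb, rfl⟩ := hx
    exact ⟨a, ha, b, hb, rfl⟩
  · rintro ⟨a, ha, b, hb, rfl⟩
    exact mul_mem (Subgroup.mem_sup_right ha) (Subgroup.mem_sup_left hb)

theorem R_centralizes {x : G} (hx : x ∈ A P z ⊔ A Q s) : x * z = z * x ∧ x * s = s * x := by
  obtain ⟨a, ha, b, hb, rfl⟩ := C.mem_R.mp hx
  exact ⟨(Commute.mul_left (C.A_comm_z ha) (mem_A.mp hb).2).eq,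
    (Commute.mul_left (mem_A.mp ha).2 (C.symm.A_comm_z hb)).eq⟩

theorem z_mem_E : z ∈ Q ⊓ P := ⟨C.dQ.z_mem, C.z_mem⟩
theorem s_mem_E : s ∈ Q ⊓ P := ⟨C.s_mem, C.dP.z_mem⟩

theorem z_mem_R : z ∈ A P z ⊔ A Q s := Subgroup.mem_sup_right (C.E_le_A C.z_mem_E)
theorem s_mem_R : s ∈ A P z ⊔ A Q s := Subgroup.mem_sup_right (C.E_le_A C.s_mem_E)

theorem mem_V {x : G} : x ∈ Subgroup.closure ({z, s} : Set G) ↔ x = 1 ∨ x = z ∨ x = s ∨ x = s * z := by
  constructor
  · intro hx
    have hz0 := C.dQ.z_sq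
    have hs0 := C.dP.z_sq
    have hzs := C.zs
    induction hx using Subgroup.closure_induction with
    | mem y hy => rcases hy with rfl | rfl <;> simp
    | one => simp
    | mul a b _ _ ha hb =>
      have h1 : s * z * z = s := by rw [mul_assoc, hz0, mul_one]
      have h2 : s * (s * z) = z := by rw [← mul_assoc, hs0, one_mul]
      have h3 : z * (s * z) = s := by rw [← mul_assoc, hzs, h1]
      have h4 : s * z * s = z := by rw [mul_assoc, hzs, h2]
      have h5 : s * z * (s * z) = 1 := by rw [← mul_assoc, h4, hz0]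
      rcases ha with rfl | rfl | rfl | rfl <;> rcases hb with rfl | rfl | rfl | rfl <;>
        simp [hz0, hs0, h1, h2, h3, h4, h5, hzs]
    | inv a _ ha =>
      rcases ha with rfl | rfl | rfl | rfl <;>
        simp [inv_eq_of_mul_eq_one_right hz0, inv_eq_of_mul_eq_one_right hs0, hzs]
  · have hzV : z ∈ Subgroup.closure ({z, s} : Set G) := Subgroup.subset_closure (Set.mem_insert _ _)
    have hsV : s ∈ Subgroup.closure ({z, s} : Set G) := Subgroup.subset_closure (Set.mem_insert_of_mem _ rfl)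
    rintro (rfl | rfl | rfl | rfl)
    exacts [one_mem _, hzV, hsV, mul_mem hsV hzV]

theorem V_le_R : Subgroup.closure ({z, s} : Set G) ≤ A P z ⊔ A Q s := by
  rw [Subgroup.closure_le]
  rintro x (rfl | rfl)
  exacts [C.z_mem_R, C.s_mem_R]

theorem mem_centralizer_V {x : G} :
    x ∈ Subgroup.centralizer ((Subgroup.closure ({z, s} : Set G) : Subgroup G) : Set G) ↔
      x * z = z * x ∧ x * s = s * x := by
  rw [Subgroup.centralizer_closure, Subgroup.mem_centralizer_iff]
  simp only [Set.mem_insert_iff, Set.mem_singleton_iff, forall_eq_or_imp, forall_eq]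
  exact ⟨fun h => ⟨h.1.symm, h.2.symm⟩, fun h => ⟨h.1.symm, h.2.symm⟩⟩

/-- An element centralizing `z` and `A` lies in `V`. -/
theorem cent_AB {x : G} (hxz : x * z = z * x) (hxA : ∀ a ∈ A Q s, x * a = a * x) :
    x ∈ Subgroup.closure ({z, s} : Set G) := by
  obtain ⟨q, hq, hqs⟩ := C.dQ.exists_conj_eq C.s_mem C.dP.z_ne C.ne
  have hzs := C.zs
  have hxs : x * s = s * x := hxA s (C.E_le_A C.s_mem_E)
  set δ := q⁻¹ * (x * q * x⁻¹) with hδ
  have hxq : x * q * x⁻¹ = q * δ := by rw [hδ]; group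
  have hδQ : δ ∈ Q := mul_mem (inv_mem hq) (C.dQ.norm x hxz q hq)
  -- every element of Q lies in A or qA
  have hdec : ∀ p ∈ Q, p ∈ A Q s ∨ q⁻¹ * p ∈ A Q s := by
    intro p hp
    rcases C.q_conj hp with h | h
    · left; exact mem_A.mpr ⟨hp, mul_inv_eq_iff_eq_mul.mp h⟩
    · right
      refine mem_A.mpr ⟨mul_mem (inv_mem hq) hp, ?_⟩
      calc q⁻¹ * p * s = q⁻¹ * (p * s * p⁻¹) * p := by group
        _ = q⁻¹ * (q * s * q⁻¹) * p := by rw [h, hqs]
        _ = s * (q⁻¹ * p) := by group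
  -- δ centralizes A
  have hδA : ∀ a ∈ A Q s, δ * a = a * δ := by
    intro a ha
    have h1 : (x * q * x⁻¹) * a * (x * q * x⁻¹)⁻¹ = q * a * q⁻¹ := by
      have hqa : q * a * q⁻¹ ∈ A Q s := by
        rcases C.dQ.comm q hq a (mem_A.mp ha).1 with h | h
        · rw [show q * a * q⁻¹ = ⁅q, a⁆ * a by rw [commutatorElement_def]; group, h, one_mul]; exact ha
        · rw [show q * a * q⁻¹ = ⁅q, a⁆ * a by rw [commutatorElement_def]; group, h]
          exact mul_mem (C.E_le_A C.z_mem_E) ha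
      calc x * q * x⁻¹ * a * (x * q * x⁻¹)⁻¹ = x * q * (x⁻¹ * a * x) * q⁻¹ * x⁻¹ := by group
        _ = x * (q * a * q⁻¹) * x⁻¹ := by rw [mul_assoc x⁻¹, ← hxA a ha]; group
        _ = q * a * q⁻¹ := by rw [hxA _ hqa, mul_inv_cancel_right]
    rw [hxq] at h1
    calc δ * a = q⁻¹ * (q * δ * a * (q * δ)⁻¹) * (q * δ) := by group
      _ = a * δ := by rw [h1]; group
  have hδz : δ = 1 ∨ δ = z := by
    rcases C.dQ.comm q hq δ hδQ with hc | hc
    · refine C.dQ.cent δ fun p hp => ?_
      rcases hdec p hp with h | h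
      · exact (hδA p h).symm
      · have hqd := commutatorElement_eq_one_iff_mul_comm.mp hc
        calc p * δ = q * ((q⁻¹ * p) * δ) := by group
          _ = (q * δ) * (q⁻¹ * p) := by rw [← hδA _ h]; group
          _ = δ * p := by rw [hqd]; group
    · exfalso
      have h2 : (q * δ) * (q * δ) = q * q := by
        rw [← hxq]
        rcases C.dQ.sq hq with h | h
        · calc x * q * x⁻¹ * (x * q * x⁻¹) = x * (q * q) * x⁻¹ := by group
            _ = q * q := by rw [h]; group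
        · calc x * q * x⁻¹ * (x * q * x⁻¹) = x * (q * q) * x⁻¹ := by group
            _ = q * q := by rw [h, hxz, mul_inv_cancel_right]
      have hqd : q * δ = z * (δ * q) := by rw [← hc, commutatorElement_def]; group
      have hδ2 : δ * δ = z := by
        have h3 : q * (δ * q) * δ = q * q := by rw [← h2]; group
        have h4 : δ * q = z * (q * δ) := by rw [hqd, ← mul_assoc, C.dQ.z_sq, one_mul]
        rw [h4] at h3
        have h5 : q * q * (z * (δ * δ)) = q * q := by
          refine Eq.trans ?_ h3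
          calc q * q * (z * (δ * δ)) = q * (q * z) * (δ * δ) := by group
            _ = q * (z * q) * (δ * δ) := by rw [C.dQ.z_central q hq]
            _ = _ := by group
        have h6 : z * (δ * δ) = 1 := mul_eq_left.mp h5
        calc δ * δ = z * (z * (δ * δ)) := by rw [← mul_assoc z z, C.dQ.z_sq, one_mul]
          _ = z := by rw [h6, mul_one]
      -- δ s is central in Q
      have hδs : δ * s = 1 ∨ δ * s = z := by
        refine C.dQ.cent _ fun p hp => ?_
        have hsA : ∀ a ∈ A Q s, a * (δ * s) = (δ * s) * a := fun a ha => by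
          rw [← mul_assoc, ← hδA a ha, mul_assoc, (mem_A.mp ha).2, ← mul_assoc]
        have hqc : q * (δ * s) = (δ * s) * q := by
          have e1 : q * s = (s * z) * q := by rw [← hqs]; group
          calc q * (δ * s) = (q * δ) * s := by group
            _ = z * δ * (q * s) := by rw [hqd]; group
            _ = z * (δ * s) * z * q := by rw [e1]; group
            _ = (δ * s) * (z * z) * q := by
              rw [← C.dQ.z_central _ (mul_mem hδQ C.s_mem)]; group
            _ = δ * s * q := by rw [C.dQ.z_sq, mul_one]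
        rcases hdec p hp with h | h
        · exact hsA p h
        · calc p * (δ * s) = q * ((q⁻¹ * p) * (δ * s)) := by group
            _ = (q * (δ * s)) * (q⁻¹ * p) := by rw [hsA _ h]; group
            _ = δ * s * p := by rw [hqc]; group
      rcases hδs with h | h
      · rw [eq_inv_of_mul_eq_one_left h, ← mul_inv_rev, C.dP.z_sq, inv_one] at hδ2
        exact C.dQ.z_ne hδ2.symm
      · have hδ' : δ = z * s := by
          rw [← h, mul_assoc, C.dP.z_sq, mul_one]
        rw [hδ'] at hδ2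
        have : z * s * (z * s) = 1 := by
          calc z * s * (z * s) = (s * z) * (z * s) := by rw [hzs]
            _ = s * (z * z) * s := by group
            _ = 1 := by rw [C.dQ.z_sq, mul_one, C.dP.z_sq]
        exact C.dQ.z_ne (hδ2.symm.trans this)
  -- x or x s centralizes Q
  have hcase : (∀ p ∈ Q, p * x = x * p) ∨ (∀ p ∈ Q, p * (x * s) = (x * s) * p) := by
    rcases hδz with h | h <;> rw [h] at hxq
    · left
      intro p hp
      rcases hdec p hp with h | h
      · exact (hxA p h).symm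
      · rw [mul_one] at hxq
        calc p * x = q * ((q⁻¹ * p) * x) := by group
          _ = q * x * (q⁻¹ * p) := by rw [← hxA _ h]; group
          _ = x * q * (q⁻¹ * p) := by rw [← mul_inv_eq_iff_eq_mul.mp hxq]
          _ = x * p := by group
    · right
      intro p hp
      have hsA : ∀ a ∈ A Q s, a * (x * s) = (x * s) * a := fun a ha => by
        rw [← mul_assoc, ← hxA a ha, mul_assoc, (mem_A.mp ha).2, ← mul_assoc]
      have hqc : q * (x * s) = (x * s) * q := by
        have e2 : x * q = q * z * x := by rw [← hxq]; group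
        have e1 : q * s = (s * z) * q := by rw [← hqs]; group
        have e3 : q * x = x * q * z := by
          rw [e2]
          calc q * x = q * (z * z) * x := by rw [C.dQ.z_sq, mul_one]
            _ = q * z * (z * x) := by group
            _ = q * z * x * z := by rw [← hxz]; group
        calc q * (x * s) = (q * x) * s := by group
          _ = x * (q * z) * s := by rw [e3]; group
          _ = x * (z * (q * s)) := by rw [C.dQ.z_central q hq]; group
          _ = x * ((z * s) * z) * q := by rw [e1]; group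
          _ = x * (s * (z * z)) * q := by rw [hzs]; group
          _ = x * s * q := by rw [C.dQ.z_sq, mul_one]
      rcases hdec p hp with h | h
      · exact hsA p h
      · calc p * (x * s) = q * ((q⁻¹ * p) * (x * s)) := by group
          _ = (q * (x * s)) * (q⁻¹ * p) := by rw [hsA _ h]; group
          _ = x * s * p := by rw [hqc]; group
  rw [C.mem_V]
  rcases hcase with h | h <;> rcases C.dQ.cent _ h with e | e
  · exact Or.inl e
  · exact Or.inr (Or.inl e)
  · refine Or.inr (Or.inr (Or.inl ?_))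
    rw [eq_inv_of_mul_eq_one_left e, inv_eq_of_mul_eq_one_right C.dP.z_sq]
  · refine Or.inr (Or.inr (Or.inr ?_))
    rw [← hzs, ← e, mul_assoc, C.dP.z_sq, mul_one]

theorem norm_E {c : G} (hcz : c * z = z * c) (hcs : c * s = s * c) {e : G} (he : e ∈ Q ⊓ P) :
    c * e * c⁻¹ ∈ Q ⊓ P := ⟨C.dQ.norm c hcz e he.1, C.dP.norm c hcs e he.2⟩

theorem R_comm_mem {x y : G} (hx : x ∈ A P z ⊔ A Q s) (hy : y ∈ A P z ⊔ A Q s) :
    x * y * x⁻¹ * y⁻¹ ∈ Q ⊓ P ∧ x ^ 2 ∈ Q ⊓ P := by
  set R := A P z ⊔ A Q s with hR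
  set K := (Q ⊓ P).subgroupOf R with hK
  have : K.Normal := ⟨fun e he r => by
    rw [hK, Subgroup.mem_subgroupOf] at he ⊢
    have h := C.R_centralizes r.2
    exact C.norm_E h.1 h.2 he⟩
  have hq : ∀ u : R, (u : G) ∈ Q ⊓ P → (QuotientGroup.mk u : R ⧸ K) = 1 := fun u hu =>
    (QuotientGroup.eq_one_iff u).mpr hu
  have gen : ∀ u : R, (u : G) ∈ A Q s ∨ (u : G) ∈ A P z → ∀ v : R,
      (v : G) ∈ A Q s ∨ (v : G) ∈ A P z →
      Commute (QuotientGroup.mk u : R ⧸ K) (QuotientGroup.mk v) := by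
    intro u hu v hv
    rw [← commutatorElement_eq_one_iff_commute]
    have e : (⁅(QuotientGroup.mk u : R ⧸ K), QuotientGroup.mk v⁆) = QuotientGroup.mk ⁅u, v⁆ :=
      (map_commutatorElement (QuotientGroup.mk' K) u v).symm
    rw [e]
    apply hq
    show ((⁅u, v⁆ : R) : G) ∈ _
    have e2 : ((⁅u, v⁆ : R) : G) = ⁅(u : G), (v : G)⁆ := map_commutatorElement R.subtype u v
    rw [e2]
    rcases hu with hu | hu <;> rcases hv with hv | hv
    · rcases C.dQ.comm _ (mem_A.mp hu).1 _ (mem_A.mp hv).1 with h | h <;> rw [h]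
      exacts [one_mem _, C.z_mem_E]
    · exact C.comm_mem hu hv
    · rw [← commutatorElement_inv]; exact inv_mem (C.comm_mem hv hu)
    · rcases C.dP.comm _ (mem_A.mp hu).1 _ (mem_A.mp hv).1 with h | h <;> rw [h]
      exacts [one_mem _, C.s_mem_E]
  have gsq : ∀ u : R, (u : G) ∈ A Q s ∨ (u : G) ∈ A P z → (QuotientGroup.mk u : R ⧸ K) ^ 2 = 1 := by
    intro u hu
    rw [pow_two, ← QuotientGroup.mk_mul]
    apply hq
    show (u : G) * u ∈ _
    rcases hu with hu | hu
    · rcases C.dQ.sq (mem_A.mp hu).1 with h | h <;> rw [h]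
      exacts [one_mem _, C.z_mem_E]
    · rcases C.dP.sq (mem_A.mp hu).1 with h | h <;> rw [h]
      exacts [one_mem _, C.s_mem_E]
  obtain ⟨a, ha, b, hb, rfl⟩ := C.mem_R.mp hx
  obtain ⟨c, hc, d, hd, rfl⟩ := C.mem_R.mp hy
  let a' : R := ⟨a, Subgroup.mem_sup_right ha⟩
  let b' : R := ⟨b, Subgroup.mem_sup_left hb⟩
  let c' : R := ⟨c, Subgroup.mem_sup_right hc⟩
  let d' : R := ⟨d, Subgroup.mem_sup_left hd⟩
  constructor
  · have h := ((gen a' (Or.inl ha) c' (Or.inl hc)).mul_right (gen a' (Or.inl ha) d' (Or.inr hd))).mul_left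
      ((gen b' (Or.inr hb) c' (Or.inl hc)).mul_right (gen b' (Or.inr hb) d' (Or.inr hd)))
    rw [← commutatorElement_eq_one_iff_commute, ← QuotientGroup.mk_mul, ← QuotientGroup.mk_mul,
      commutatorElement_def, ← QuotientGroup.mk_mul, ← QuotientGroup.mk_inv, ← QuotientGroup.mk_mul,
      ← QuotientGroup.mk_inv, ← QuotientGroup.mk_mul, QuotientGroup.eq_one_iff] at h
    exact h
  · have h := (gen a' (Or.inl ha) b' (Or.inr hb)).mul_pow 2
    rw [gsq a' (Or.inl ha), gsq b' (Or.inr hb), one_mul, ← QuotientGroup.mk_mul, ← QuotientGroup.mk_pow,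
      QuotientGroup.eq_one_iff] at h
    exact h

theorem normalizes_V_of_mem {p : G} (hp : p ∈ Q) {v : G} (hv : v ∈ Subgroup.closure ({z, s} : Set G)) :
    p * v * p⁻¹ ∈ Subgroup.closure ({z, s} : Set G) := by
  have hpz : p * z * p⁻¹ = z := by rw [C.dQ.z_central p hp]; group
  have hps := C.q_conj hp
  rw [C.mem_V] at hv ⊢
  rcases hv with rfl | rfl | rfl | rfl
  · simp
  · exact Or.inr (Or.inl hpz)
  · exact Or.inr (Or.inr hps)
  · have e : p * (s * z) * p⁻¹ = (p * s * p⁻¹) * z := by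
      conv_rhs => rw [← hpz]
      group
    rcases hps with h | h <;> rw [e, h]
    · exact Or.inr (Or.inr (Or.inr rfl))
    · refine Or.inr (Or.inr (Or.inl ?_))
      rw [mul_assoc, C.dQ.z_sq, mul_one]

theorem comm_X_E : ⁅Q ⊔ P, Q ⊓ P⁆ ≤ Subgroup.closure ({z, s} : Set G) := by
  rw [Subgroup.commutator_le]
  set V := Subgroup.closure ({z, s} : Set G)
  have hswap : Subgroup.closure ({s, z} : Set G) = V := by rw [Set.pair_comm]
  intro x hx e he
  rw [Subgroup.sup_eq_closure] at hx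
  revert e
  suffices (∀ e ∈ Q ⊓ P, ⁅x, e⁆ ∈ V) ∧ (∀ v ∈ V, x * v * x⁻¹ ∈ V) from fun e he => this.1 e he
  have hgen : ∀ y ∈ (Q : Set G) ∪ P, (∀ e ∈ Q ⊓ P, ⁅y, e⁆ ∈ V) ∧ ∀ v ∈ V, y * v * y⁻¹ ∈ V := by
    rintro y (hy | hy)
    · refine ⟨fun e he => ?_, fun v hv => C.normalizes_V_of_mem hy hv⟩
      rcases C.dQ.comm y hy e he.1 with h | h <;> rw [h]
      exacts [one_mem _, C.mem_V.mpr (by simp)]
    · refine ⟨fun e he => ?_, fun v hv => hswap ▸ C.symm.normalizes_V_of_mem hy (hswap.symm ▸ hv)⟩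
      rcases C.dP.comm y hy e he.2 with h | h <;> rw [h]
      exacts [one_mem _, C.mem_V.mpr (by simp)]
  induction hx using Subgroup.closure_induction'' with
  | mem y hy => exact hgen y hy
  | inv_mem y hy =>
    refine hgen y⁻¹ ?_
    rcases hy with hy | hy
    · exact Or.inl (inv_mem (S := Subgroup G) hy)
    · exact Or.inr (inv_mem (S := Subgroup G) hy)
  | one => exact ⟨fun e _ => by rw [commutatorElement_one_left]; exact one_mem _, fun v hv => by simpa using hv⟩
  | mul a b _ _ ha hb =>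
    refine ⟨fun e he => ?_, fun v hv => ?_⟩
    · have h := mul_mem (ha.2 _ (hb.1 e he)) (ha.1 e he)
      convert h using 1
      simp only [commutatorElement_def]; group
    · simpa [mul_assoc] using ha.2 _ (hb.2 v hv)

theorem conj_R {q : G} (hq : q ∈ Q) {x : G} (hx : x ∈ A P z ⊔ A Q s) :
    q * x * q⁻¹ ∈ A P z ⊔ A Q s := by
  obtain ⟨a, ha, b, hb, rfl⟩ := C.mem_R.mp hx
  rw [show q * (a * b) * q⁻¹ = (q * a * q⁻¹) * ⁅q, b⁆ * b by rw [commutatorElement_def]; group]
  refine mul_mem (mul_mem (Subgroup.mem_sup_right ?_) (Subgroup.mem_sup_right ?_)) (Subgroup.mem_sup_left hb)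
  · rw [show q * a * q⁻¹ = ⁅q, a⁆ * a by rw [commutatorElement_def]; group]
    rcases C.dQ.comm q hq a (mem_A.mp ha).1 with h | h <;> rw [h]
    · rwa [one_mul]
    · exact mul_mem (C.E_le_A C.z_mem_E) ha
  · have hbz := (mem_A.mp hb).2
    have hbs : b * s = s * b := C.dP.z_central b (mem_A.mp hb).1
    refine mem_A.mpr ⟨?_, ?_⟩
    · rw [commutatorElement_def, mul_assoc, mul_assoc, ← mul_assoc b]
      exact mul_mem hq (C.dQ.norm b hbz _ (inv_mem hq))
    · have hw : ∃ w, q⁻¹ * s * q = w ∧ b * w = w * b := by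
        refine ⟨_, rfl, ?_⟩
        have hm := C.q_conj (inv_mem hq)
        rw [inv_inv] at hm
        rcases hm with h | h <;> rw [h]
        · exact hbs
        · exact (Commute.mul_right hbs hbz).eq
      obtain ⟨w, hw, hbw⟩ := hw
      rw [commutatorElement_def]
      calc q * b * q⁻¹ * b⁻¹ * s = q * b * q⁻¹ * (b⁻¹ * s * b) * b⁻¹ := by group
        _ = q * b * q⁻¹ * s * b⁻¹ := by rw [mul_assoc b⁻¹, ← hbs]; group
        _ = q * (b * (q⁻¹ * s * q)) * q⁻¹ * b⁻¹ := by group
        _ = q * ((q⁻¹ * s * q) * b) * q⁻¹ * b⁻¹ := by rw [hw, hbw]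
        _ = s * (q * b * q⁻¹ * b⁻¹) := by group

theorem conj_R_iff {x n : G} (hx : x ∈ Q ⊔ P) (hn : n ∈ A P z ⊔ A Q s) :
    x * n * x⁻¹ ∈ A P z ⊔ A Q s := by
  rw [Subgroup.sup_eq_closure] at hx
  revert n
  have hgen : ∀ y ∈ (Q : Set G) ∪ P, ∀ n ∈ A P z ⊔ A Q s, y * n * y⁻¹ ∈ A P z ⊔ A Q s := by
    rintro y (hy | hy) n hn
    · exact C.conj_R hy hn
    · rw [sup_comm] at hn ⊢; exact C.symm.conj_R hy hn
  induction hx using Subgroup.closure_induction'' with
  | mem y hy => exact fun {n} => hgen y hy n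
  | inv_mem y hy =>
    intro n
    refine hgen y⁻¹ ?_ n
    rcases hy with hy | hy
    · exact Or.inl (inv_mem (S := Subgroup G) hy)
    · exact Or.inr (inv_mem (S := Subgroup G) hy)
  | one => intro n hn; simpa using hn
  | mul a b _ _ ha hb => intro n hn; simpa [mul_assoc] using ha (hb hn)

end Cfg

end Cfsg.Agent.LargeExtraspecial
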