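import Cfsg.Agent.Lib.LargeExtraspecial.Central
import Cfsg.Agent.Lib.LargeExtraspecial.FourGroup
import Cfsg.Agent.Lib.Symplectic.GFit
import Cfsg.Agent.Lib.Cores.Fitting
import Cfsg.Agent.S5421

/-
Data from `F*(C(z)) = Q`, and criteria for a subgroup to be large extraspecial:
`isLarge_of_involution` (a second involution b with z in a 2-subgroup normal in C(b)),
`Data.of_generalizedFitting`, `exists_conj_eq_centralizer`.
-/

set_option autoImplicit false
open scoped commutatorElement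

namespace Cfsg.Agent.LargeExtraspecial

variable {G : Type*} [Group G]

theorem Data.of_generalizedFitting [Finite G] {z : G} (hz : orderOf z = 2) {Q : Subgroup G}
    (hF : (Cfsg.generalizedFittingSubgroup ↥(Subgroup.centralizer ({z} : Set G))).map
      (Subgroup.centralizer ({z} : Set G)).subtype = Q)
    (hQ : Cfsg.IsExtraspecial 2 ↥Q) : Data Q z ∧ zc Q = Subgroup.zpowers z := by
  set C := Subgroup.centralizer ({z} : Set G) with hC
  set F := Cfsg.generalizedFittingSubgroup C with hFdef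
  have hz1 : z ≠ 1 := fun h => by simp [h] at hz
  have hQz : ∀ q ∈ Q, q * z = z * q := by
    rw [← hF]; rintro _ ⟨q, -, rfl⟩
    exact Subgroup.mem_centralizer_singleton_iff.mp q.2
  have hzC : z ∈ C := Subgroup.mem_centralizer_singleton_iff.mpr rfl
  have hzQ : z ∈ Q := by
    rw [← hF]
    refine ⟨⟨z, hzC⟩, Symplectic.centralizer_generalizedFitting_le C ?_, rfl⟩
    exact Subgroup.mem_centralizer_iff.mpr fun q _ =>
      Subtype.ext (Subgroup.mem_centralizer_singleton_iff.mp q.2)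
  have hzz : z ∈ zc Q := mem_zc.mpr ⟨hzQ, hQz⟩
  obtain ⟨y, hy, hy2, -⟩ := exists_gen_zc hQ
  have hyz : z = y := (mem_zpowers_two (by rw [← pow_two, ← hy2, pow_orderOf_eq_one]) (hy ▸ hzz)).resolve_left hz1
  subst hyz
  have hL2 : Subgroup.centralizer (Q : Set G) = zc Q := by
    apply le_antisymm
    · intro x hx
      have hxc := Subgroup.mem_centralizer_iff.mp hx
      have hxC : x ∈ C := Subgroup.mem_centralizer_singleton_iff.mpr (hxc z hzQ).symm
      have hm : (⟨x, hxC⟩ : C) ∈ F := Symplectic.centralizer_generalizedFitting_le C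
        (Subgroup.mem_centralizer_iff.mpr fun q hq => Subtype.ext (hxc q (hF ▸ ⟨q, hq, rfl⟩)))
      exact mem_zc.mpr ⟨hF ▸ ⟨_, hm, rfl⟩, hxc⟩
    · intro x hx
      exact Subgroup.mem_centralizer_iff.mpr (mem_zc.mp hx).2
  refine ⟨Data.of_extraspecial hQ hL2 ?_ hy hy2, hy⟩
  intro c hc
  have hcz : c ∈ C := Subgroup.mem_centralizer_singleton_iff.mpr
    (Subgroup.mem_centralizer_iff.mp hc z hzz).symm
  apply Subgroup.mem_normalizer_fintype
  intro q hq
  rw [SetLike.mem_coe, ← hF] at hq ⊢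
  obtain ⟨q, hq, rfl⟩ := hq
  exact ⟨⟨c, hcz⟩ * q * ⟨c, hcz⟩⁻¹, (Symplectic.generalizedFitting_normal _).conj_mem q hq _, rfl⟩

/-- Criterion for large extraspecial, with a second involution `b`. -/
theorem isLarge_of_involution [Finite G] {P S : Subgroup G} {z b : G} (D : Data P z)
    (hp : IsPGroup 2 P) (hnab : ∃ x ∈ P, ∃ y ∈ P, ⁅x, y⁆ ≠ 1)
    (hbP : b ∈ P) (hb1 : b ≠ 1) (hbz : b ≠ z) (hbb : b * b = 1)
    (hS : IsPGroup 2 S) (hzS : z ∈ S) (hSb : ∀ x ∈ S, x * b = b * x)
    (hSn : ∀ c : G, c * b = b * c → ∀ x ∈ S, c * x * c⁻¹ ∈ S) :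
    Cfsg.IsLargeExtraspecial P := by
  haveI : Fact (Nat.Prime 2) := ⟨Nat.prime_two⟩
  obtain ⟨hE, hzc⟩ := isExtraspecial_of_gen hp D.z_mem D.z_ne D.z_central
    (fun x _ h => D.cent x h) D.comm (fun a ha => D.sq ha) hnab
  have hmem : ∀ x, x ∈ zc P ↔ x = 1 ∨ x = z := fun x => by
    rw [hzc]
    refine ⟨mem_zpowers_two D.z_sq, ?_⟩
    rintro (rfl | rfl)
    exacts [one_mem _, Subgroup.mem_zpowers _]
  refine Cfsg.Agent.S5421.result P hE ?_ ?_ b hbP ?_ (orderOf_eq_prime ((pow_two b).trans hbb) hb1) ?_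
  · ext x
    rw [Subgroup.mem_centralizer_iff, hmem]
    refine ⟨D.cent x, ?_⟩
    rintro (rfl | rfl)
    · simp
    · exact fun q hq => D.z_central q hq
  · intro c hc
    apply Subgroup.mem_normalizer_fintype
    exact D.norm c (Subgroup.mem_centralizer_iff.mp hc z ((hmem z).mpr (Or.inr rfl))).symm
  · intro h
    rcases (hmem b).mp h with h' | h'
    exacts [hb1 h', hbz h']
  · intro x hx
    have hSle : S ≤ Subgroup.centralizer ({b} : Set G) := fun y hy =>
      Subgroup.mem_centralizer_singleton_iff.mpr (hSb y hy)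
    rcases (hmem x).mp hx with rfl | rfl
    · exact one_mem _
    refine ⟨⟨x, hSle hzS⟩, ?_, rfl⟩
    refine le_sSup (s := {N : Subgroup (Subgroup.centralizer ({b} : Set G)) | N.Normal ∧ IsPGroup 2 N})
      (a := S.subgroupOf _) ⟨⟨fun n hn c => ?_⟩, hS.comap_subtype⟩ (Subgroup.mem_subgroupOf.mpr hzS)
    exact hSn c (Subgroup.mem_centralizer_singleton_iff.mp c.2) n hn

/-- A non-central element of `C_Q(A)`, `A` odd, is moved by an element of `C_Q(A)`. -/
theorem exists_conj_eq_centralizer [Finite G] {Q : Subgroup G} {z : G} (D : Data Q z) (hp : IsPGroup 2 Q)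
    {A : Subgroup G} (hA : A ≤ Subgroup.normalizer (Q : Set G)) (hAodd : Odd (Nat.card A))
    {s : G} (hs : s ∈ Q) (hsA : s ∈ Subgroup.centralizer (A : Set G)) (hs1 : s ≠ 1) (hsz : s ≠ z) :
    ∃ q ∈ Q ⊓ Subgroup.centralizer (A : Set G), q * s * q⁻¹ = s * z := by
  obtain ⟨q, hq, hqs⟩ := D.exists_conj_eq hs hs1 hsz
  by_cases hA1 : A = ⊥
  · exact ⟨q, Subgroup.mem_inf.mpr ⟨hq, by subst hA1; rw [Subgroup.mem_centralizer_iff]; simp⟩, hqs⟩
  obtain ⟨hsup, hcom, -⟩ := odd_decomposition D hp hA hAodd hA1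
  by_contra! hno
  have hfix : ∀ x ∈ Q ⊓ Subgroup.centralizer (A : Set G), x * s = s * x := by
    intro x hx
    rcases D.comm x hx.1 s hs with h | h
    · exact commutatorElement_eq_one_iff_mul_comm.mp h
    · refine absurd ?_ (hno x hx)
      rw [D.z_central s hs, ← h, commutatorElement_def]; group
  rcases D.cent s (fun x hx => by
    rw [← hsup, Subgroup.sup_eq_closure] at hx
    induction hx using Subgroup.closure_induction with
    | mem y hy =>
      rcases hy with hy | hy
      exacts [hfix y hy, (hcom s ⟨hs, hsA⟩ y hy).symm]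
    | one => simp
    | mul a b _ _ ha hb => exact (Commute.mul_left ha hb).eq
    | inv a _ ha => exact (Commute.inv_left ha).eq) with h | h
  exacts [hs1 h, hsz h]

end Cfsg.Agent.LargeExtraspecial
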