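import Cfsg.Agent.Lib.Forms.BinaryType
import Cfsg.Agent.Lib.Forms.Classify
import Cfsg.Agent.Lib.Extraspecial.Basic
import Cfsg.Agent.Lib.PGroup.Basic

/-
`Out(E) = O(q)` for an extraspecial 2-group E with its squaring form q on `E / Z(E)`:
`outEquiv`; and elementary abelian subgroups of order `2^(n+1)` against the type of q.
-/

set_option autoImplicit false

namespace Cfsg.Agent.LargeExtraspecial.OutForm

open scoped commutatorElement

variable {E : Type*} [Group E] [Finite E] [hE : Fact (Cfsg.IsExtraspecial 2 E)]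

theorem two_cases (a : ZMod 2) : a = 0 ∨ a = 1 := by revert a; decide

theorem sq_mem (x : E) : x * x ∈ Subgroup.center E := by
  haveI : Fact (Nat.Prime 2) := ⟨Nat.prime_two⟩
  rw [← hE.out.1.2.1, ← pow_two]
  exact PGroup.pow_mem_frattini hE.out.1.1 x

theorem comm_mem (x y : E) : ⁅x, y⁆ ∈ Subgroup.center E := by
  rw [← hE.out.1.2.2]
  exact Subgroup.commutator_mem_commutator (Subgroup.mem_top x) (Subgroup.mem_top y)

noncomputable instance : CommGroup (E ⧸ Subgroup.center E) :=
  { (inferInstance : Group (E ⧸ Subgroup.center E)) with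
    mul_comm := fun a b => by
      obtain ⟨x, rfl⟩ := QuotientGroup.mk_surjective a
      obtain ⟨y, rfl⟩ := QuotientGroup.mk_surjective b
      rw [← commutatorElement_eq_one_iff_mul_comm]
      exact (QuotientGroup.eq_one_iff _).mpr (comm_mem x y) }

variable (E) in
/-- The space `E / Z(E)`. -/
abbrev Vm := Additive (E ⧸ Subgroup.center E)

noncomputable instance : Module (ZMod 2) (Vm E) := AddCommGroup.zmodModule (n := 2) fun v => by
  obtain ⟨x, hx⟩ := QuotientGroup.mk_surjective v.toMul
  apply Additive.toMul.injective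
  rw [toMul_nsmul, toMul_zero, ← hx, pow_two, ← QuotientGroup.mk_mul]
  exact (QuotientGroup.eq_one_iff _).mpr (sq_mem x)

/-- The projection. -/
def pr (x : E) : Vm E := Additive.ofMul (x : E ⧸ Subgroup.center E)

theorem pr_mul (x y : E) : pr (x * y) = pr x + pr y := rfl

theorem pr_surjective : Function.Surjective (pr : E → Vm E) := fun v => by
  obtain ⟨x, hx⟩ := QuotientGroup.mk_surjective v.toMul
  exact ⟨x, by rw [pr, hx]; rfl⟩

theorem pr_eq_zero {x : E} : pr x = 0 ↔ x ∈ Subgroup.center E :=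
  ⟨fun h => (QuotientGroup.eq_one_iff x).mp (congrArg Additive.toMul h),
    fun h => congrArg Additive.ofMul ((QuotientGroup.eq_one_iff x).mpr h)⟩

theorem pr_inv (x : E) : pr x⁻¹ = pr x := by
  refine (eq_neg_of_add_eq_zero_left ?_).trans (ZModModule.neg_eq_self _)
  rw [← pr_mul, inv_mul_cancel]; rfl

theorem exists_zeta : ∃ ζ : E, ζ ∈ Subgroup.center E ∧ ζ ≠ 1 ∧ ∀ x ∈ Subgroup.center E, x = 1 ∨ x = ζ := by
  obtain ⟨a, b, hab, huniv⟩ := Nat.card_eq_two_iff.mp hE.out.2
  have hall : ∀ y : Subgroup.center E, y = a ∨ y = b := fun y => by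
    have : y ∈ ({a, b} : Set (Subgroup.center E)) := huniv ▸ Set.mem_univ y
    simpa using this
  rcases hall 1 with h | h
  · refine ⟨b, b.2, fun e => hab (h.symm.trans (Subtype.ext e).symm), fun y hy => ?_⟩
    rcases hall ⟨y, hy⟩ with e | e
    · left; exact congrArg Subtype.val (e.trans h.symm)
    · right; exact congrArg Subtype.val e
  · refine ⟨a, a.2, fun e => hab ((Subtype.ext e).trans h), fun y hy => ?_⟩
    rcases hall ⟨y, hy⟩ with e | e
    · right; exact congrArg Subtype.val e
    · left; exact congrArg Subtype.val (e.trans h.symm)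

variable (E) in
/-- The central involution. -/
noncomputable def zeta : E := (exists_zeta (E := E)).choose

theorem zeta_mem : zeta E ∈ Subgroup.center E := (exists_zeta (E := E)).choose_spec.1
theorem zeta_ne : zeta E ≠ 1 := (exists_zeta (E := E)).choose_spec.2.1
theorem zeta_cases {x : E} (hx : x ∈ Subgroup.center E) : x = 1 ∨ x = zeta E :=
  (exists_zeta (E := E)).choose_spec.2.2 x hx
theorem zeta_sq : zeta E * zeta E = 1 :=
  (zeta_cases (mul_mem (zeta_mem (E := E)) zeta_mem)).resolve_right fun h => zeta_ne (mul_eq_left.mp h)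

/-- The parity of a central element. -/
noncomputable def eps (x : E) : ZMod 2 := by classical exact if x = 1 then 0 else 1

theorem eps_one : eps (1 : E) = 0 := if_pos rfl
theorem eps_zeta : eps (zeta E) = 1 := if_neg zeta_ne

theorem eps_inj {x y : E} (hx : x ∈ Subgroup.center E) (hy : y ∈ Subgroup.center E)
    (h : eps x = eps y) : x = y := by
  rcases zeta_cases hx with rfl | rfl <;> rcases zeta_cases hy with rfl | rfl <;>
    simp [eps_one, eps_zeta] at h <;> rfl

theorem eps_mul {x y : E} (hx : x ∈ Subgroup.center E) (hy : y ∈ Subgroup.center E) :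
    eps (x * y) = eps x + eps y := by
  rcases zeta_cases hx with rfl | rfl
  · rw [one_mul, eps_one, zero_add]
  rcases zeta_cases hy with rfl | rfl
  · rw [mul_one, eps_one, add_zero]
  · rw [zeta_sq, eps_one, eps_zeta]; exact (ZModModule.add_self _).symm

theorem sq_one_of_center {x : E} (hx : x ∈ Subgroup.center E) : x * x = 1 := by
  rcases zeta_cases hx with rfl | rfl
  exacts [one_mul _, zeta_sq]

/-- The squaring map on `Vm`. -/
noncomputable def qfun (v : Vm E) : ZMod 2 :=
  eps ((pr_surjective v).choose * (pr_surjective v).choose)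

theorem eq_mul_center {x y : E} (h : pr x = pr y) : ∃ c ∈ Subgroup.center E, x = y * c := by
  refine ⟨y⁻¹ * x, pr_eq_zero.mp ?_, (mul_inv_cancel_left y x).symm⟩
  rw [pr_mul, pr_inv, h, ZModModule.add_self]

theorem qfun_pr (x : E) : qfun (pr x) = eps (x * x) := by
  obtain ⟨c, hc, he⟩ := eq_mul_center (pr_surjective (pr x)).choose_spec
  unfold qfun
  rw [he]
  congr 1
  calc x * c * (x * c) = x * (c * x) * c := by group
    _ = x * (x * c) * c := by rw [← Subgroup.mem_center_iff.mp hc x]
    _ = x * x * (c * c) := by group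
    _ = x * x := by rw [sq_one_of_center hc, mul_one]

theorem comm_symm (x y : E) : ⁅y, x⁆ = ⁅x, y⁆ := by
  rw [← commutatorElement_inv x y]
  exact inv_eq_of_mul_eq_one_right (sq_one_of_center (comm_mem x y))

theorem polar_pr (x y : E) : QuadraticMap.polar (qfun (E := E)) (pr x) (pr y) = eps ⁅x, y⁆ := by
  unfold QuadraticMap.polar
  rw [← pr_mul, qfun_pr, qfun_pr, qfun_pr]
  have e : x * y * (x * y) = x * x * (y * y) * ⁅x, y⁆ := by
    calc x * y * (x * y) = x * (⁅y, x⁆ * x) * (y * y) := by rw [commutatorElement_def]; group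
      _ = x * (x * ⁅y, x⁆) * (y * y) := by rw [Subgroup.mem_center_iff.mp (comm_mem y x) x]
      _ = x * x * (⁅y, x⁆ * (y * y)) := by group
      _ = x * x * ((y * y) * ⁅x, y⁆) := by rw [comm_symm, Subgroup.mem_center_iff.mp (comm_mem x y)]
      _ = _ := by group
  rw [e, eps_mul (mul_mem (sq_mem x) (sq_mem y)) (comm_mem x y), eps_mul (sq_mem x) (sq_mem y)]
  abel

variable (E) in
/-- The squaring quadratic form. -/
noncomputable def qf : QuadraticForm (ZMod 2) (Vm E) :=
  QuadraticMap.ofPolar qfun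
    (fun a v => by
      rcases two_cases a with rfl | rfl
      · rw [zero_smul, mul_zero, zero_smul, show (0 : Vm E) = pr 1 from rfl, qfun_pr, one_mul, eps_one]
      · rw [one_smul, mul_one, one_smul])
    (fun u u' w => by
      obtain ⟨x, rfl⟩ := pr_surjective u
      obtain ⟨x', rfl⟩ := pr_surjective u'
      obtain ⟨y, rfl⟩ := pr_surjective w
      rw [← pr_mul, polar_pr, polar_pr, polar_pr, ← eps_mul (comm_mem x y) (comm_mem x' y)]
      congr 1
      calc ⁅x * x', y⁆ = x * ⁅x', y⁆ * x⁻¹ * ⁅x, y⁆ := by simp only [commutatorElement_def]; group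
        _ = ⁅x', y⁆ * ⁅x, y⁆ := by
          rw [Subgroup.mem_center_iff.mp (comm_mem x' y) x, mul_inv_cancel_right]
        _ = ⁅x, y⁆ * ⁅x', y⁆ := Subgroup.mem_center_iff.mp (comm_mem x y) _)
    (fun a u w => by
      rcases two_cases a with rfl | rfl
      · rw [zero_smul, zero_smul]
        obtain ⟨y, rfl⟩ := pr_surjective w
        rw [show (0 : Vm E) = pr 1 from rfl, polar_pr]
        simp [eps_one, commutatorElement_def]
      · rw [one_smul, one_smul])

theorem qf_apply (x : E) : qf E (pr x) = eps (x * x) := qfun_pr x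

theorem qf_nondegenerate : (QuadraticMap.polarBilin (qf E)).Nondegenerate := by
  rw [Forms.nondegenerate_polarBilin_iff]
  intro u hu
  obtain ⟨x, rfl⟩ := pr_surjective u
  refine pr_eq_zero.mpr (Subgroup.mem_center_iff.mpr fun y => ?_)
  have h := hu (pr y)
  rw [show QuadraticMap.polar (qf E) (pr x) (pr y) = QuadraticMap.polar qfun (pr x) (pr y) from rfl,
    polar_pr, ← eps_one (E := E)] at h
  exact (commutatorElement_eq_one_iff_mul_comm.mp (eps_inj (comm_mem x y) (one_mem _) h)).symm

theorem card_Vm {n : ℕ} (hcard : Nat.card E = 2 ^ (2 * n + 1)) : Nat.card (Vm E) = 2 ^ (2 * n) := by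
  rw [Nat.card_congr Additive.toMul]
  have h := Subgroup.card_eq_card_quotient_mul_card_subgroup (Subgroup.center E)
  rw [hcard, hE.out.2, pow_succ] at h
  omega

theorem finrank_Vm {n : ℕ} (hcard : Nat.card E = 2 ^ (2 * n + 1)) :
    Module.finrank (ZMod 2) (Vm E) = 2 * n := by
  have h := Module.natCard_eq_pow_finrank (K := ZMod 2) (V := Vm E)
  rw [card_Vm hcard, Nat.card_zmod] at h
  exact (Nat.pow_right_injective le_rfl h).symm

/-! ### The action of the automorphism group -/

theorem pr_map {a : MulAut E} {x y : E} (h : pr x = pr y) : pr (a x) = pr (a y) := by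
  obtain ⟨c, hc, rfl⟩ := eq_mul_center h
  have hac : a c ∈ Subgroup.center E := by
    rw [Subgroup.mem_center_iff] at hc ⊢
    intro g
    simpa using congrArg a (hc (a.symm g))
  rw [map_mul, pr_mul, pr_eq_zero.mpr hac, add_zero]

noncomputable def actFun (a : MulAut E) (v : Vm E) : Vm E := pr (a (pr_surjective v).choose)

theorem actFun_pr (a : MulAut E) (x : E) : actFun a (pr x) = pr (a x) :=
  pr_map (pr_surjective (pr x)).choose_spec

theorem eps_map (a : MulAut E) (x : E) : eps (a x) = eps x := by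
  unfold eps
  by_cases h : x = 1
  · subst h; simp
  · rw [if_neg h, if_neg (fun h' => h (a.injective (h'.trans (map_one a).symm)))]

noncomputable def actLin (a : MulAut E) : Vm E ≃ₗ[ZMod 2] Vm E :=
  AddEquiv.toLinearEquiv
    { toFun := actFun a
      invFun := actFun a.symm
      left_inv := fun v => by obtain ⟨x, rfl⟩ := pr_surjective v; simp [actFun_pr]
      right_inv := fun v => by obtain ⟨x, rfl⟩ := pr_surjective v; simp [actFun_pr]
      map_add' := fun u v => by
        obtain ⟨x, rfl⟩ := pr_surjective u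
        obtain ⟨y, rfl⟩ := pr_surjective v
        rw [← pr_mul, actFun_pr, actFun_pr, actFun_pr, map_mul, pr_mul] }
    fun c v => ZMod.map_smul (F := Vm E →+ Vm E) (AddMonoidHom.mk' (actFun a) fun u w => by
        obtain ⟨x, rfl⟩ := pr_surjective u
        obtain ⟨y, rfl⟩ := pr_surjective w
        rw [← pr_mul, actFun_pr, actFun_pr, actFun_pr, map_mul, pr_mul]) c v

theorem actLin_pr (a : MulAut E) (x : E) : actLin a (pr x) = pr (a x) := actFun_pr a x

variable (E) in
/-- The action on `E / Z(E)`. -/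
noncomputable def act : MulAut E →* Forms.preservingFun (F := ZMod 2) (V := Vm E) (qf E) where
  toFun a := ⟨actLin a, fun v => by
    obtain ⟨x, rfl⟩ := pr_surjective v
    rw [actLin_pr, qf_apply, qf_apply, ← map_mul, eps_map]⟩
  map_one' := Subtype.ext (LinearEquiv.ext fun v => by
    obtain ⟨x, rfl⟩ := pr_surjective v
    show actLin 1 (pr x) = pr x
    rw [actLin_pr]; rfl)
  map_mul' a b := Subtype.ext (LinearEquiv.ext fun v => by
    obtain ⟨x, rfl⟩ := pr_surjective v
    show actLin (a * b) (pr x) = actLin a (actLin b (pr x))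
    rw [actLin_pr, actLin_pr, actLin_pr]; rfl)

theorem inn_le_ker : Cfsg.Inn E ≤ (act E).ker := by
  rintro _ ⟨g, rfl⟩
  refine Subtype.ext (LinearEquiv.ext fun v => ?_)
  obtain ⟨x, rfl⟩ := pr_surjective v
  show actLin (MulAut.conj g) (pr x) = pr x
  rw [actLin_pr, MulAut.conj_apply, pr_mul, pr_mul, pr_inv, add_comm (pr g), add_assoc,
    ZModModule.add_self, add_zero]

theorem ker_eq : (act E).ker = Cfsg.Inn E := by
  haveI : Fact (Nat.Prime 2) := ⟨Nat.prime_two⟩
  refine (Subgroup.eq_of_le_of_card_ge inn_le_ker ?_).symm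
  have hfix : ∀ a ∈ (act E).ker, ∀ x : E, x⁻¹ * a x ∈ Subgroup.center E := by
    intro a ha x
    have h : actLin a (pr x) = pr x :=
      DFunLike.congr_fun (congrArg Subtype.val (MonoidHom.mem_ker.mp ha)) (pr x)
    rw [actLin_pr] at h
    rw [← pr_eq_zero, pr_mul, pr_inv, h, ZModModule.add_self]
  have hcen : ∀ (a : MulAut E) {c : E}, c ∈ Subgroup.center E → a c = c := fun a c hc => by
    rcases zeta_cases hc with rfl | rfl
    · exact map_one a
    · refine (zeta_cases ?_).resolve_left fun h => zeta_ne (a.injective (h.trans (map_one a).symm))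
      rw [Subgroup.mem_center_iff]
      intro g
      simpa using congrArg a (Subgroup.mem_center_iff.mp (zeta_mem (E := E)) (a.symm g))
  let κ : (act E).ker → (Vm E →+ ZMod 2) := fun a =>
    AddMonoidHom.mk' (fun v => eps ((pr_surjective v).choose⁻¹ * (a : MulAut E) (pr_surjective v).choose))
      (fun u w => by
        have key : ∀ x y : E, pr x = pr y →
            eps (x⁻¹ * (a : MulAut E) x) = eps (y⁻¹ * (a : MulAut E) y) := by
          intro x y h
          obtain ⟨c, hc, rfl⟩ := eq_mul_center h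
          congr 1
          rw [map_mul, hcen _ hc, mul_inv_rev, mul_assoc, ← mul_assoc y⁻¹,
            ← Subgroup.mem_center_iff.mp (inv_mem hc), mul_assoc, mul_inv_cancel, mul_one]
        obtain ⟨x, rfl⟩ := pr_surjective u
        obtain ⟨y, rfl⟩ := pr_surjective w
        rw [key _ (x * y) ((pr_surjective _).choose_spec.trans (pr_mul x y).symm),
          key _ x (pr_surjective _).choose_spec, key _ y (pr_surjective _).choose_spec,
          ← eps_mul (hfix _ a.2 x) (hfix _ a.2 y)]
        congr 1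
        rw [map_mul, mul_inv_rev]
        calc y⁻¹ * x⁻¹ * ((a : MulAut E) x * (a : MulAut E) y)
            = y⁻¹ * (x⁻¹ * (a : MulAut E) x) * (a : MulAut E) y := by group
          _ = (x⁻¹ * (a : MulAut E) x) * y⁻¹ * (a : MulAut E) y := by
            rw [Subgroup.mem_center_iff.mp (hfix _ a.2 x) y⁻¹]
          _ = _ := by group)
  have hκ : Function.Injective κ := by
    intro a b h
    refine Subtype.ext (MulEquiv.ext fun x => ?_)
    obtain ⟨c, hc, he⟩ := eq_mul_center (pr_surjective (pr x)).choose_spec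
    have h' := DFunLike.congr_fun h (pr x)
    simp only [κ, AddMonoidHom.mk'_apply] at h'
    have h2 := eps_inj (hfix _ a.2 _) (hfix _ b.2 _) h'
    rw [mul_left_cancel_iff, he, map_mul, map_mul, hcen _ hc, hcen _ hc] at h2
    exact mul_right_cancel h2
  haveI : Finite (Vm E →+ ZMod 2) := Finite.of_injective _ DFunLike.coe_injective
  calc Nat.card (act E).ker ≤ Nat.card (Vm E →+ ZMod 2) := Nat.card_le_card_of_injective κ hκ
    _ = Nat.card (Module.Dual (ZMod 2) (Vm E)) :=
        Nat.card_congr (AddMonoidHom.toZModLinearMapEquiv 2).toEquiv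
    _ = Nat.card (Vm E) := by
        rw [Module.natCard_eq_pow_finrank (K := ZMod 2), Module.natCard_eq_pow_finrank (K := ZMod 2) (V := Vm E),
          Subspace.dual_finrank_eq]
    _ = Nat.card (Cfsg.Inn E) := by
        rw [Nat.card_congr Additive.toMul]
        have hk : (MulAut.conj : E →* MulAut E).ker = Subgroup.center E := by
          ext g
          rw [MonoidHom.mem_ker, MulEquiv.ext_iff, Subgroup.mem_center_iff]
          exact forall_congr' fun h => by
            show g * h * g⁻¹ = h ↔ _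
            rw [mul_inv_eq_iff_eq_mul, eq_comm]
        exact Nat.card_congr ((QuotientGroup.quotientMulEquivOfEq hk.symm).trans
          (QuotientGroup.quotientKerEquivRange _)).toEquiv

theorem act_surjective : Function.Surjective (act E) := by
  haveI : Fact (Nat.Prime 2) := ⟨Nat.prime_two⟩
  rintro ⟨g, hg⟩
  have hpol : ∀ u w, QuadraticMap.polar (qf E) (g u) (g w) = QuadraticMap.polar (qf E) u w := fun u w => by
    unfold QuadraticMap.polar; rw [← map_add, hg, hg, hg]
  let Γ : Subgroup (E × E) :=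
    { carrier := {p | pr p.2 = g (pr p.1)}
      one_mem' := by show pr (1 : E) = g (pr 1); rw [show (pr (1 : E)) = 0 from rfl, map_zero]
      mul_mem' := fun {a b} ha hb => by
        show pr (a.2 * b.2) = g (pr (a.1 * b.1))
        rw [pr_mul, pr_mul, map_add, ← ha, ← hb]
      inv_mem' := fun {a} ha => by show pr a.2⁻¹ = g (pr a.1⁻¹); rw [pr_inv, pr_inv]; exact ha }
  have hzz : (zeta E, (1 : E)) ∈ Γ := by
    show pr 1 = g (pr (zeta E))
    rw [pr_eq_zero.mpr zeta_mem, map_zero]; rfl
  let D : Subgroup Γ :=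
    { carrier := {p | p.1.1 ∈ Subgroup.center E ∧ p.1.1 = p.1.2}
      one_mem' := ⟨one_mem _, rfl⟩
      mul_mem' := fun {a b} ha hb => ⟨mul_mem ha.1 hb.1, by
        show a.1.1 * b.1.1 = a.1.2 * b.1.2; rw [ha.2, hb.2]⟩
      inv_mem' := fun {a} ha => ⟨inv_mem ha.1, by show a.1.1⁻¹ = a.1.2⁻¹; rw [ha.2]⟩ }
  have hΓp : IsPGroup 2 Γ := by
    obtain ⟨k, hk⟩ := IsPGroup.iff_card.mp hE.out.1.1
    exact (IsPGroup.of_card (n := k + k) (by rw [Nat.card_prod, hk, pow_add]) : IsPGroup 2 (E × E)).to_subgroup Γ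
  haveI hDn : D.Normal := by
    refine ⟨fun a ha c => ⟨?_, ?_⟩⟩
    · show c.1.1 * a.1.1 * c.1.1⁻¹ ∈ _
      rw [Subgroup.mem_center_iff.mp ha.1, mul_inv_cancel_right]; exact ha.1
    · show c.1.1 * a.1.1 * c.1.1⁻¹ = c.1.2 * a.1.2 * c.1.2⁻¹
      have h2 : a.1.2 ∈ Subgroup.center E := ha.2 ▸ ha.1
      rw [Subgroup.mem_center_iff.mp ha.1, mul_inv_cancel_right, Subgroup.mem_center_iff.mp h2,
        mul_inv_cancel_right]
      exact ha.2
  have hΦ : frattini Γ ≤ D := by
    refine PGroup.frattini_le_of_quotient_elementary (p := 2) ?_ ?_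
    · rw [commutator_def, Subgroup.commutator_le]
      intro a _ b _
      refine ⟨comm_mem a.1.1 b.1.1, eps_inj (comm_mem _ _) (comm_mem a.1.2 b.1.2) ?_⟩
      show eps ⁅a.1.1, b.1.1⁆ = eps ⁅a.1.2, b.1.2⁆
      rw [← polar_pr, ← polar_pr, show pr a.1.2 = g (pr a.1.1) from a.2,
        show pr b.1.2 = g (pr b.1.1) from b.2]
      exact (hpol _ _).symm
    · intro a
      rw [pow_two]
      refine ⟨sq_mem a.1.1, eps_inj (sq_mem _) (sq_mem a.1.2) ?_⟩
      show eps (a.1.1 * a.1.1) = eps (a.1.2 * a.1.2)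
      rw [← qf_apply, ← qf_apply, show pr a.1.2 = g (pr a.1.1) from a.2, hg]
  have hz1 : (⟨_, hzz⟩ : Γ) ∉ frattini Γ := fun h => zeta_ne (hΦ h).2
  obtain ⟨M, hM, hzM⟩ : ∃ M : Subgroup Γ, IsCoatom M ∧ (⟨_, hzz⟩ : Γ) ∉ M := by
    by_contra h
    push Not at h
    apply hz1
    rw [frattini, Order.radical]
    exact Subgroup.mem_iInf.mpr fun M => Subgroup.mem_iInf.mpr fun hM => h M hM
  haveI := PGroup.isCoatom_normal hΓp hM
  have hidx := PGroup.isCoatom_index hΓp hM
  have hzzM : ∀ h : (zeta E, zeta E) ∈ Γ, (⟨_, h⟩ : Γ) ∈ M := by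
    intro h
    obtain ⟨x, hx⟩ : ∃ x : E, x ∉ Subgroup.center E := by
      by_contra! hc
      exact Extraspecial.center_ne_top hE.out ((Subgroup.eq_top_iff' _).mpr hc)
    obtain ⟨y, hy⟩ : ∃ y : E, y * x ≠ x * y := by
      by_contra! hc
      exact hx (Subgroup.mem_center_iff.mpr hc)
    have hne : ⁅y, x⁆ ≠ 1 := fun h => hy (commutatorElement_eq_one_iff_mul_comm.mp h)
    obtain ⟨y', hy'⟩ := pr_surjective (g (pr y))
    obtain ⟨x', hx'⟩ := pr_surjective (g (pr x))
    have e1 : ⁅y, x⁆ = zeta E := (zeta_cases (comm_mem y x)).resolve_left hne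
    have e2 : ⁅y', x'⁆ = zeta E := by
      refine eps_inj (comm_mem _ _) zeta_mem ?_
      rw [← polar_pr, hy', hx', ← e1, ← polar_pr]
      exact hpol _ _
    have he : (⟨_, h⟩ : Γ) = ⁅(⟨(y, y'), hy'⟩ : Γ), ⟨(x, x'), hx'⟩⁆ :=
      Subtype.ext (Prod.ext e1.symm e2.symm)
    rw [he]
    exact frattini_le_coatom hM (PGroup.commutatorElement_mem_frattini hΓp _ _)
  let f : M →* E := ((MonoidHom.fst E E).comp Γ.subtype).comp M.subtype
  have hinj : ∀ a : M, a.1.1.1 = 1 → a.1.1.2 = 1 := by
    intro a h1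
    have h2 : a.1.1.2 ∈ Subgroup.center E := pr_eq_zero.mp (by
      rw [show pr a.1.1.2 = g (pr a.1.1.1) from a.1.2, h1, show pr (1 : E) = 0 from rfl, map_zero])
    refine (zeta_cases h2).resolve_right fun h => hzM ?_
    have hzzΓ : (zeta E, zeta E) ∈ Γ := by
      show pr (zeta E) = g (pr (zeta E))
      rw [pr_eq_zero.mpr zeta_mem, map_zero]
    rw [show (⟨_, hzz⟩ : Γ) = (⟨_, hzzΓ⟩ : Γ) * a.1 from
      Subtype.ext (Prod.ext (by show zeta E = zeta E * a.1.1.1; rw [h1, mul_one])
        (by show 1 = zeta E * a.1.1.2; rw [h, zeta_sq]))]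
    exact mul_mem (hzzM _) a.2
  have hfinj : Function.Injective f := by
    rw [injective_iff_map_eq_one]
    exact fun a h => Subtype.ext (Subtype.ext (Prod.ext h (hinj a h)))
  have hcard : Nat.card E ≤ Nat.card M := by
    let φ : Γ →* E := (MonoidHom.fst E E).comp Γ.subtype
    have hφ : Function.Surjective φ := fun x => by
      obtain ⟨y, hy⟩ := pr_surjective (g (pr x))
      exact ⟨⟨(x, y), hy⟩, rfl⟩
    have hker : 2 ≤ Nat.card φ.ker := by
      have h1Γ : ((1 : E), zeta E) ∈ Γ := by
        show pr (zeta E) = g (pr 1)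
        rw [pr_eq_zero.mpr zeta_mem, show pr (1 : E) = 0 from rfl, map_zero]
      haveI : Nontrivial φ.ker := ⟨⟨⟨⟨_, h1Γ⟩, rfl⟩, 1, fun h => zeta_ne
        (congrArg (fun y : φ.ker => y.1.1.2) h)⟩⟩
      exact Finite.one_lt_card
    have h1 := Subgroup.card_eq_card_quotient_mul_card_subgroup φ.ker
    rw [Nat.card_congr (QuotientGroup.quotientKerEquivOfSurjective φ hφ).toEquiv] at h1
    have h2 := Subgroup.card_mul_index M
    rw [hidx] at h2
    have h3 := Nat.mul_le_mul_left (Nat.card E) hker
    omega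
  have hfbij : Function.Bijective f := hfinj.bijective_of_nat_card_le hcard
  let e := MulEquiv.ofBijective f hfbij
  let a0 : E →* E := (((MonoidHom.snd E E).comp Γ.subtype).comp M.subtype).comp e.symm.toMonoidHom
  have hgraph : ∀ x : E, pr (a0 x) = g (pr x) := fun x => by
    have h1 : (e.symm x).1.1.1 = x := e.apply_symm_apply x
    show pr (e.symm x).1.1.2 = _
    rw [show pr (e.symm x).1.1.2 = g (pr (e.symm x).1.1.1) from (e.symm x).1.2, h1]
  have ha0 : Function.Injective a0 := by
    rw [injective_iff_map_eq_one]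
    intro x hx
    have hxc : x ∈ Subgroup.center E := pr_eq_zero.mp (g.injective (by
      rw [← hgraph, hx, map_zero]; rfl))
    refine (zeta_cases hxc).resolve_right fun h => hzM ?_
    have h1 : (e.symm x).1.1.1 = x := e.apply_symm_apply x
    have e' : (e.symm x).1 = ⟨_, hzz⟩ := Subtype.ext (Prod.ext (h1.trans h) hx)
    exact e' ▸ (e.symm x).2
  refine ⟨MulEquiv.ofBijective a0 ⟨ha0, Finite.injective_iff_surjective.mp ha0⟩,
    Subtype.ext (LinearEquiv.ext fun v => ?_)⟩
  obtain ⟨x, rfl⟩ := pr_surjective v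
  show actLin _ (pr x) = g (pr x)
  rw [actLin_pr]
  exact hgraph x

variable (E) in
/-- `Out(E) = O(q)`. -/
noncomputable def outEquiv : Cfsg.Out E ≃* Forms.preservingFun (F := ZMod 2) (V := Vm E) (qf E) :=
  (QuotientGroup.quotientMulEquivOfEq ker_eq.symm).trans
    (QuotientGroup.quotientKerEquivOfSurjective (act E) act_surjective)

/-! ### Type against elementary abelian subgroups -/

theorem exists_elementary_of_plus {n : ℕ} (hcard : Nat.card E = 2 ^ (2 * n + 1))
    (e : (Fin n ⊕ Fin n → ZMod 2) ≃ₗ[ZMod 2] Vm E)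
    (he : ∀ v, qf E (e v) = Cfsg.quadFormPlus n (ZMod 2) v) :
    ∃ A : Subgroup E, Cfsg.IsElementaryAbelian 2 A ∧ Nat.card A = 2 ^ (n + 1) := by
  let ι : (Fin n → ZMod 2) →ₗ[ZMod 2] Vm E :=
    { toFun := fun x => e (Sum.elim x 0)
      map_add' := fun x y => by
        rw [← map_add]; congr 1; funext i; rcases i with i | i <;> simp
      map_smul' := fun c x => by
        rw [RingHom.id_apply, ← map_smul]; congr 1; funext i; rcases i with i | i <;> simp }
  have hq : ∀ x, qf E (ι x) = 0 := fun x => by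
    show qf E (e (Sum.elim x 0)) = 0
    rw [he]; simp [Cfsg.quadFormPlus]
  let A : Subgroup E :=
    { carrier := {x | pr x ∈ LinearMap.range ι}
      one_mem' := ⟨0, by rw [map_zero]; rfl⟩
      mul_mem' := fun {a b} ha hb => by
        show pr (a * b) ∈ LinearMap.range ι
        rw [pr_mul]; exact Submodule.add_mem _ ha hb
      inv_mem' := fun {a} ha => by show pr a⁻¹ ∈ LinearMap.range ι; rw [pr_inv]; exact ha }
  have hsq : ∀ a ∈ A, a * a = 1 := by
    rintro a ⟨x, hx⟩
    refine eps_inj (sq_mem a) (one_mem _) ?_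
    rw [← qf_apply, ← hx, hq, eps_one]
  refine ⟨A, ⟨⟨⟨fun a b => Subtype.ext ?_⟩⟩, fun a ha => by rw [pow_two]; exact hsq a ha⟩, ?_⟩
  · have h1 := hsq _ (mul_mem a.2 b.2)
    show (a : E) * b = b * a
    rw [← inv_eq_of_mul_eq_one_right h1, mul_inv_rev, inv_eq_of_mul_eq_one_right (hsq _ a.2),
      inv_eq_of_mul_eq_one_right (hsq _ b.2)]
  · have hAc : Subgroup.center E ≤ A := fun c hc => ⟨0, by rw [map_zero]; exact (pr_eq_zero.mpr hc).symm⟩
    have hinj : Function.Injective ι := fun x y h => by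
      funext i; exact congrFun (e.injective h) (Sum.inl i)
    have h2 := Subgroup.card_eq_card_quotient_mul_card_subgroup ((Subgroup.center E).subgroupOf A)
    rw [Nat.card_congr (Subgroup.subgroupOfEquivOfLe hAc).toEquiv, hE.out.2] at h2
    have hbij : Nat.card (↥A ⧸ (Subgroup.center E).subgroupOf A) = 2 ^ n := by
      have hrange : Nat.card (LinearMap.range ι) = 2 ^ n := by
        rw [← Nat.card_congr (LinearEquiv.ofInjective ι hinj).toEquiv]
        simp
      rw [← hrange]
      refine Nat.card_eq_of_bijective (fun q => Quotient.liftOn' q (fun a : A => (⟨pr (a : E), a.2⟩ : LinearMap.range ι))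
        (fun a b h => by
          rw [QuotientGroup.leftRel_apply, Subgroup.mem_subgroupOf, ← pr_eq_zero] at h
          apply Subtype.ext
          show pr (a : E) = pr (b : E)
          simp only [Subgroup.coe_mul, Subgroup.coe_inv, pr_mul, pr_inv] at h
          exact (eq_neg_of_add_eq_zero_left h).trans (ZModModule.neg_eq_self _))) ⟨?_, ?_⟩
      · intro q q'
        induction q using Quotient.inductionOn' with
        | h a =>
        induction q' using Quotient.inductionOn' with
        | h b =>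
        intro h
        refine Quotient.sound' ?_
        rw [QuotientGroup.leftRel_apply, Subgroup.mem_subgroupOf, ← pr_eq_zero]
        simp only [Subgroup.coe_mul, Subgroup.coe_inv, pr_mul, pr_inv]
        rw [show pr (a : E) = pr (b : E) from congrArg Subtype.val h, ZModModule.add_self]
      · rintro ⟨v, hv⟩
        obtain ⟨x, rfl⟩ := pr_surjective v
        exact ⟨QuotientGroup.mk ⟨x, hv⟩, rfl⟩
    rw [hbij] at h2
    rw [h2, pow_succ]

theorem plus_of_elementary {n : ℕ} (hn : 1 ≤ n) (hcard : Nat.card E = 2 ^ (2 * n + 1))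
    (A : Subgroup E) (hA : Cfsg.IsElementaryAbelian 2 A) (hAc : Nat.card A = 2 ^ (n + 1)) :
    ∃ e : (Fin n ⊕ Fin n → ZMod 2) ≃ₗ[ZMod 2] Vm E, ∀ v, qf E (e v) = Cfsg.quadFormPlus n (ZMod 2) v := by
  haveI : Fact (Nat.Prime 2) := ⟨Nat.prime_two⟩
  haveI := hA.1
  rcases Forms.zeros_iff_plus (qf E) qf_nondegenerate hn (finrank_Vm hcard) with ⟨h, -⟩ | ⟨⟨e, he⟩, -⟩
  · exact h
  exfalso
  obtain ⟨k, rfl⟩ : ∃ k, n = k + 1 := ⟨n - 1, by omega⟩
  obtain ⟨e, he⟩ : ∃ e' : ((Fin k ⊕ Fin k) ⊕ Fin 2 → ZMod 2) ≃ₗ[ZMod 2] Vm E,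
      ∀ v, qf E (e' v) = Cfsg.quadFormMinus k (ZMod 2) 1 1 v := ⟨e, he⟩
  -- the image of `A` is totally singular
  let W : Submodule (ZMod 2) (Vm E) := AddSubgroup.toZModSubmodule 2
    { carrier := {v | ∃ a ∈ A, pr a = v}
      zero_mem' := ⟨1, one_mem _, rfl⟩
      add_mem' := fun {u v} ⟨a, ha, hau⟩ ⟨b, hb, hbv⟩ => ⟨a * b, mul_mem ha hb, by rw [pr_mul, hau, hbv]⟩
      neg_mem' := fun {u} ⟨a, ha, hau⟩ => ⟨a, ha, by rw [ZModModule.neg_eq_self]; exact hau⟩ }
  have hW : ∀ w ∈ W, qf E w = 0 := by
    rintro _ ⟨a, ha, rfl⟩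
    rw [qf_apply, ← pow_two, hA.2 a ha, eps_one]
  let φ : A → W := fun a => ⟨pr (a : E), a, a.2, rfl⟩
  have hcardW : 2 ^ (k + 1) ≤ Nat.card W := by
    haveI : Fintype A := Fintype.ofFinite _
    haveI : Fintype W := Fintype.ofFinite _
    classical
    have : Fintype.card A ≤ Fintype.card W * 2 := by
      refine Finset.card_le_mul_card_image (s := (Finset.univ : Finset A)) 2 (f := φ) ?_ |>.trans ?_
      · intro w _
        obtain ⟨_, a, ha, rfl⟩ := w
        refine (Finset.card_le_card (t := (Finset.univ.filter fun b : A => (b : E) = a ∨ (b : E) = a * zeta E)) ?_).trans ?_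
        · intro b hb
          simp only [Finset.mem_filter, Finset.mem_univ, true_and] at hb ⊢
          obtain ⟨c, hc, he⟩ := eq_mul_center (congrArg Subtype.val hb)
          rcases zeta_cases hc with rfl | rfl
          · left; rw [he, mul_one]
          · right; exact he
        · refine (Finset.card_le_card_of_injOn (fun b : A => (b : E))
            (t := ({a, a * zeta E} : Finset E)) (fun b hb => by simpa using hb) (fun b _ b' _ h => Subtype.ext h)).trans ?_
          exact Finset.card_le_two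
      · rw [mul_comm]; exact Nat.mul_le_mul_right 2 (Finset.card_le_univ _)
    rw [← Nat.card_eq_fintype_card, ← Nat.card_eq_fintype_card, hAc, pow_succ] at this
    omega
  have hWr : k + 1 ≤ Module.finrank (ZMod 2) W := by
    rw [Module.natCard_eq_pow_finrank (K := ZMod 2), Nat.card_zmod] at hcardW
    exact (Nat.pow_le_pow_iff_right (by norm_num)).mp hcardW
  have hmaxle := fun (U : Submodule (ZMod 2) (Vm E)) (hU : ∀ u ∈ U, qf E u = 0) =>
    Forms.two_mul_finrank_singular_le (qf E) qf_nondegenerate U hU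
  -- the standard singular subspace
  let ι : (Fin k → ZMod 2) →ₗ[ZMod 2] Vm E :=
    { toFun := fun x => e (Sum.elim (Sum.elim x 0) 0)
      map_add' := fun x y => by
        rw [← map_add]; congr 1; funext i; rcases i with (i | i) | i <;> simp
      map_smul' := fun c x => by
        rw [RingHom.id_apply, ← map_smul]; congr 1; funext i; rcases i with (i | i) | i <;> simp }
  have hW0 : ∀ w ∈ LinearMap.range ι, qf E w = 0 := by
    rintro _ ⟨x, rfl⟩
    show qf E (e _) = 0
    rw [he]; simp [Cfsg.quadFormMinus]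
  have hmax0 : ∀ U : Submodule (ZMod 2) (Vm E), LinearMap.range ι ≤ U → (∀ u ∈ U, qf E u = 0) →
      U = LinearMap.range ι := by
    intro U hle hU
    refine le_antisymm (fun u hu => ?_) hle
    obtain ⟨v, rfl⟩ := e.surjective u
    have hv := hU _ hu
    rw [he] at hv
    have hy : ∀ i, v (.inl (.inr i)) = 0 := by
      intro i
      have h1 := hU _ (U.add_mem hu (hle ⟨Pi.single i 1, rfl⟩))
      rw [show ι (Pi.single i 1) = e (Sum.elim (Sum.elim (Pi.single i 1) 0) 0) from rfl,
        ← map_add, he] at h1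
      simp [Cfsg.quadFormMinus, add_mul, Finset.sum_add_distrib, Pi.single_apply] at h1
      simp [Cfsg.quadFormMinus] at hv
      linear_combination h1 - hv
    simp [Cfsg.quadFormMinus, hy] at hv
    obtain ⟨h0, h1⟩ := Forms.aniso_one_one _ _ (by simpa using hv)
    refine ⟨fun i => v (.inl (.inl i)), ?_⟩
    show e _ = e v
    congr 1
    funext i
    rcases i with (i | i) | i
    · rfl
    · simp [hy]
    · fin_cases i <;> simp [h0, h1]
  have heq := Forms.maximal_singular_finrank_eq (qf E) qf_nondegenerate W (LinearMap.range ι) hW hW0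
    (fun U hle hU => by
      refine (Submodule.eq_of_le_of_finrank_le hle ?_).symm
      have := hmaxle U hU
      rw [finrank_Vm hcard] at this
      omega) hmax0
  have h2 : Module.finrank (ZMod 2) (LinearMap.range ι) ≤ k :=
    (LinearMap.finrank_range_le ι).trans (by simp)
  omega

end Cfsg.Agent.LargeExtraspecial.OutForm
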