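import Cfsg.Agent.Lib.LargeExtraspecial.Basic

/-
Two conjugates of the centre of an extraspecial subgroup that is normal in the centralizer of its
centre: `Data Q z` packages the hypotheses, and `Data.mem_conj` proves z ∈ gQg⁻¹ when
gzg⁻¹ ∈ Q, gzg⁻¹ ≠ z and |Q| ≥ 32.
-/

set_option autoImplicit false
open scoped commutatorElement

namespace Cfsg.Agent.LargeExtraspecial

variable {G : Type*} [Group G]

/-- The conjugate `g Q g⁻¹`. -/
abbrev conjS (g : G) (Q : Subgroup G) : Subgroup G := Q.map (MulAut.conj g).toMonoidHom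

theorem mem_conjS {g x : G} {Q : Subgroup G} : x ∈ conjS g Q ↔ g⁻¹ * x * g ∈ Q := by
  constructor
  · rintro ⟨q, hq, rfl⟩; simpa [mul_assoc] using hq
  · intro h; exact ⟨g⁻¹ * x * g, h, by simp [mul_assoc]⟩

/-- `Q` is a subgroup with `Z(Q) = C_G(Q) = {1, z}`, commutators in `{1, z}`, and normal in the
centralizer of `z`. -/
structure Data (Q : Subgroup G) (z : G) : Prop where
  z_mem : z ∈ Q
  z_ne : z ≠ 1
  z_sq : z * z = 1
  z_central : ∀ q ∈ Q, q * z = z * q
  cent : ∀ x : G, (∀ q ∈ Q, q * x = x * q) → x = 1 ∨ x = z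
  comm : ∀ a ∈ Q, ∀ b ∈ Q, ⁅a, b⁆ = 1 ∨ ⁅a, b⁆ = z
  norm : ∀ c : G, c * z = z * c → ∀ q ∈ Q, c * q * c⁻¹ ∈ Q

theorem mem_zpowers_two {z x : G} (hz : z * z = 1) (hx : x ∈ Subgroup.zpowers z) : x = 1 ∨ x = z := by
  obtain ⟨n, rfl⟩ := Subgroup.mem_zpowers_iff.mp hx
  have hz2 : z ^ (2 : ℤ) = 1 := by rw [zpow_ofNat, sq, hz]
  rcases Int.even_or_odd n with ⟨m, rfl⟩ | ⟨m, rfl⟩
  · left; rw [← two_mul, zpow_mul, hz2, one_zpow]
  · right; rw [zpow_add, zpow_mul, hz2, one_zpow, one_mul, zpow_one]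

theorem Data.of_extraspecial {Q : Subgroup G} {z : G} (hQ : Cfsg.IsExtraspecial 2 ↥Q)
    (hL2 : Subgroup.centralizer (Q : Set G) = zc Q)
    (hL3 : Subgroup.centralizer (zc Q : Set G) ≤ Subgroup.normalizer (Q : Set G))
    (hz : zc Q = Subgroup.zpowers z) (hz2 : orderOf z = 2) : Data Q z := by
  have hzz : z * z = 1 := by rw [← sq, ← hz2, pow_orderOf_eq_one]
  have hzQ : z ∈ zc Q := hz ▸ Subgroup.mem_zpowers z
  refine ⟨zc_le Q hzQ, fun h => by simp [h] at hz2, hzz, fun q hq => (mem_zc.mp hzQ).2 q hq, ?_, ?_, ?_⟩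
  · intro x hx
    have : x ∈ zc Q := hL2 ▸ Subgroup.mem_centralizer_iff.mpr hx
    exact mem_zpowers_two hzz (hz ▸ this)
  · intro a ha b hb
    have hm : ⁅(⟨a, ha⟩ : Q), ⟨b, hb⟩⁆ ∈ Subgroup.center Q := by
      rw [← hQ.1.2.2]; exact Subgroup.commutator_mem_commutator (Subgroup.mem_top _) (Subgroup.mem_top _)
    have hm' : ⁅a, b⁆ ∈ zc Q := ⟨_, hm, by simp [commutatorElement_def]⟩
    exact mem_zpowers_two hzz (hz ▸ hm')
  · intro c hc q hq
    refine (Subgroup.mem_normalizer_iff.mp (hL3 (Subgroup.mem_centralizer_iff.mpr fun y hy => ?_)) q).mp hq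
    replace hy : y ∈ Subgroup.zpowers z := hz ▸ hy
    rcases mem_zpowers_two hzz hy with rfl | rfl
    · simp
    · exact hc.symm

namespace Data

variable {Q : Subgroup G} {z : G} (D : Data Q z)

include D

theorem norm_iff (c : G) (hc : c * z = z * c) (q : G) : c * q * c⁻¹ ∈ Q ↔ q ∈ Q := by
  refine ⟨fun h => ?_, D.norm c hc q⟩
  have hc' : c⁻¹ * z = z * c⁻¹ := (Commute.inv_left hc).eq
  simpa [mul_assoc] using D.norm c⁻¹ hc' _ h

theorem comm_mul_left {a b q : G} (ha : a ∈ Q) (hb : b ∈ Q) (hq : q ∈ Q) :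
    ⁅a * b, q⁆ = ⁅a, q⁆ * ⁅b, q⁆ := by
  have h1 : ⁅a * b, q⁆ = a * ⁅b, q⁆ * a⁻¹ * ⁅a, q⁆ := by simp only [commutatorElement_def]; group
  rcases D.comm b hb q hq with h | h <;> rw [h1, h]
  · simp
  · rw [D.z_central a ha, mul_inv_cancel_right, D.z_central _ ?_]
    rw [commutatorElement_def]
    exact mul_mem (mul_mem (mul_mem ha hq) (inv_mem ha)) (inv_mem hq)

theorem exists_conj_eq {s : G} (hs : s ∈ Q) (hs1 : s ≠ 1) (hsz : s ≠ z) :
    ∃ q ∈ Q, q * s * q⁻¹ = s * z := by
  by_contra! h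
  refine (D.cent s fun q hq => ?_).elim hs1 hsz
  rcases D.comm q hq s hs with e | e
  · exact commutatorElement_eq_one_iff_mul_comm.mp e
  · refine absurd ?_ (h q hq)
    calc q * s * q⁻¹ = ⁅q, s⁆ * s := by rw [commutatorElement_def]; group
      _ = s * z := by rw [e, ← D.z_central s hs]

theorem conjugate (g : G) : Data (conjS g Q) (g * z * g⁻¹) := by
  refine ⟨⟨z, D.z_mem, by simp⟩, fun h => D.z_ne (conj_eq_one_iff.mp h), ?_, ?_, ?_, ?_, ?_⟩
  · calc g * z * g⁻¹ * (g * z * g⁻¹) = g * (z * z) * g⁻¹ := by group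
      _ = 1 := by rw [D.z_sq]; group
  · rintro _ ⟨q, hq, rfl⟩
    calc g * q * g⁻¹ * (g * z * g⁻¹) = g * (q * z) * g⁻¹ := by group
      _ = _ := by rw [D.z_central q hq]; simp [mul_assoc]
  · intro x hx
    refine (D.cent (g⁻¹ * x * g) fun q hq => ?_).elim (fun h => ?_) (fun h => ?_)
    rotate_left
    · left
      calc x = g * (g⁻¹ * x * g) * g⁻¹ := by group
        _ = 1 := by rw [h]; group
    · right
      calc x = g * (g⁻¹ * x * g) * g⁻¹ := by group
        _ = g * z * g⁻¹ := by rw [h]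
    have := congrArg (fun a => g⁻¹ * a * g) (hx (g * q * g⁻¹) ⟨q, hq, by simp⟩)
    simpa [mul_assoc] using this
  · rintro _ ⟨a, ha, rfl⟩ _ ⟨b, hb, rfl⟩
    rw [← map_commutatorElement]
    rcases D.comm a ha b hb with h | h
    · left; rw [h, map_one]
    · right; rw [h]; rfl
  · intro c hc q hq
    rw [mem_conjS] at hq ⊢
    have := D.norm (g⁻¹ * c * g) (by
      have := congrArg (fun a => g⁻¹ * a * g) hc
      simpa [mul_assoc] using this) _ hq
    simpa [mul_assoc] using this

theorem sq {a : G} (ha : a ∈ Q) : a * a = 1 ∨ a * a = z := by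
  refine D.cent _ fun q hq => ?_
  symm
  rw [← commutatorElement_eq_one_iff_mul_comm, D.comm_mul_left ha ha hq]
  rcases D.comm a ha q hq with h | h <;> simp [h, D.z_sq]

theorem conjS_eq_of_conj_eq {a b : G} (h : a * z * a⁻¹ = b * z * b⁻¹) : conjS a Q = conjS b Q := by
  ext x
  rw [mem_conjS, mem_conjS]
  have hc : (b⁻¹ * a) * z = z * (b⁻¹ * a) := by
    calc b⁻¹ * a * z = b⁻¹ * (a * z * a⁻¹) * a := by group
      _ = b⁻¹ * (b * z * b⁻¹) * a := by rw [h]
      _ = _ := by group
  constructor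
  · intro hx; simpa [mul_assoc] using D.norm _ hc _ hx
  · intro hx
    exact (D.norm_iff _ hc _).mp (by simpa [mul_assoc] using hx)

/-- With |Q| ≥ 32 the centralizer in `Q` of a non-central element is non-abelian. -/
theorem exists_noncomm [Finite G] {s : G} (hs : s ∈ Q) (hs1 : s ≠ 1) (hsz : s ≠ z)
    (hcard : 32 ≤ Nat.card Q) :
    ∃ a ∈ Q, a * s = s * a ∧ ∃ b ∈ Q, b * s = s * b ∧ ⁅a, b⁆ = z := by
  by_contra! h
  obtain ⟨x, hx, hxs⟩ := D.exists_conj_eq hs hs1 hsz
  have hxs' : ⁅x, s⁆ = z := by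
    rw [commutatorElement_def, hxs]
    calc s * z * s⁻¹ = z * (s * s⁻¹) := by rw [D.z_central s hs]; group
      _ = z := by simp
  -- every element is determined by its two commutators with x and s up to z
  have hA : ∀ a ∈ Q, a * s = s * a → ∀ b ∈ Q, b * s = s * b → a * b = b * a := fun a ha has b hb hbs =>
    commutatorElement_eq_one_iff_mul_comm.mp ((D.comm a ha b hb).resolve_right (h a ha has b hb hbs))
  have hz1 := D.z_ne
  classical
  let φ : Q → Bool × Bool := fun q => (decide (⁅(q : G), s⁆ = 1), decide (⁅(q : G), x⁆ = 1))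
  -- the fibre over (1,1) has at most two elements
  have hfib : ∀ c : G, c ∈ Q → ⁅c, s⁆ = 1 → ⁅c, x⁆ = 1 → c = 1 ∨ c = z := by
    intro c hc h1 h2
    refine D.cent c fun q hq => ?_
    rw [commutatorElement_eq_one_iff_mul_comm] at h1 h2
    rcases D.comm q hq s hs with e | e
    · exact hA q hq (commutatorElement_eq_one_iff_mul_comm.mp e) c hc h1
    · have hq' : (x⁻¹ * q) * s = s * (x⁻¹ * q) := by
        rw [← commutatorElement_eq_one_iff_mul_comm, D.comm_mul_left (inv_mem hx) hq hs, e]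
        have := D.comm_mul_left (inv_mem hx) hx hs
        rw [inv_mul_cancel, hxs', commutatorElement_one_left] at this
        rw [← this]
      have e1 := hA _ (mul_mem (inv_mem hx) hq) hq' c hc h1
      calc q * c = x * ((x⁻¹ * q) * c) := by group
        _ = x * (c * (x⁻¹ * q)) := by rw [e1]
        _ = (x * c) * x⁻¹ * q := by group
        _ = c * q := by rw [← h2]; group
  have hmul : ∀ u v : G, u ∈ Q → v ∈ Q → ∀ t ∈ Q,
      decide (⁅u, t⁆ = 1) = decide (⁅v, t⁆ = 1) → ⁅u⁻¹ * v, t⁆ = 1 := by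
    intro u v hu hv t ht hd
    have e0 := D.comm_mul_left (inv_mem hu) hu ht
    rw [inv_mul_cancel, commutatorElement_one_left] at e0
    rw [D.comm_mul_left (inv_mem hu) hv ht, eq_inv_of_mul_eq_one_left e0.symm]
    rcases D.comm u hu t ht with e | e <;> rcases D.comm v hv t ht with e' | e' <;>
      simp [e, e', hz1] at hd ⊢
  let ψ : Q → (Bool × Bool) × Bool := fun q =>
    (φ q, decide ((q : G) = (Function.invFun φ (φ q) : Q)))
  have hψ : Function.Injective ψ := by
    intro u v huv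
    simp only [ψ, Prod.mk.injEq] at huv
    obtain ⟨h1, h2⟩ := huv
    rw [← h1] at h2
    set r := Function.invFun φ (φ u)
    have hr : φ r = φ u := Function.invFun_eq ⟨u, rfl⟩
    have key : ∀ w : Q, φ w = φ u → (w : G) = r ∨ (w : G) = r * z := by
      intro w hw
      have e := hw.trans hr.symm
      simp only [φ, Prod.mk.injEq] at e
      rcases hfib ((r : G)⁻¹ * w) (mul_mem (inv_mem r.2) w.2) (hmul _ _ r.2 w.2 s hs e.1.symm)
          (hmul _ _ r.2 w.2 x hx e.2.symm) with h' | h'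
      · left; exact (inv_mul_eq_one.mp h').symm
      · right; rw [← h', mul_inv_cancel_left]
    apply Subtype.ext
    rcases key u rfl with hu | hu <;> rcases key v h1.symm with hv | hv <;>
      simp [hu, hv, hz1, hz1.symm] at h2 ⊢
  have := Nat.card_le_card_of_injective ψ hψ
  simp at this
  omega

theorem mem_conj [Finite G] {g : G} (hs : g * z * g⁻¹ ∈ Q) (hsz : g * z * g⁻¹ ≠ z)
    (hcard : 32 ≤ Nat.card Q) : z ∈ conjS g Q := by
  by_contra hz
  have DR := D.conjugate g
  set s := g * z * g⁻¹ with hsdef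
  set R := conjS g Q with hR
  have hs1 : s ≠ 1 := DR.z_ne
  have hzs : z * s = s * z := (D.z_central s hs).symm
  obtain ⟨q, hq, hqs⟩ := D.exists_conj_eq hs hs1 hsz
  -- case 1 cannot occur
  have hcase : ∀ r ∈ R, r * z * r⁻¹ ≠ s * z := by
    intro r hr hrz
    have heq : conjS r Q = conjS (q * g) Q := D.conjS_eq_of_conj_eq (by
      rw [hrz, ← hqs, hsdef]; group)
    have h1 : s ∈ conjS (q * g) Q := heq ▸ ⟨s, hs, by
      show r * s * r⁻¹ = s
      rw [DR.z_central r hr]; group⟩
    have h2 : s * z ∈ conjS (q * g) Q := ⟨z, D.z_mem, by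
      show q * g * z * (q * g)⁻¹ = s * z
      rw [← hqs, hsdef]; group⟩
    have h3 := mul_mem (inv_mem h1) h2
    rw [inv_mul_cancel_left, mem_conjS] at h3
    apply hz
    rw [hR, mem_conjS]
    have e : q⁻¹ * z * q = z := by rw [mul_assoc, ← D.z_central q hq]; group
    rwa [show g⁻¹ * z * g = g⁻¹ * (q⁻¹ * z * q) * g by rw [e],
      show g⁻¹ * (q⁻¹ * z * q) * g = (q * g)⁻¹ * z * (q * g) by group]
  -- an element of R moved by z inside {1, s} is fixed
  have hfix : ∀ r ∈ R, (z * r * z⁻¹ * r⁻¹ = 1 ∨ z * r * z⁻¹ * r⁻¹ = s) → r * z = z * r := by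
    intro r hr h
    rcases h with h | h
    · exact (commutatorElement_eq_one_iff_mul_comm.mp h).symm
    · refine absurd ?_ (hcase r hr)
      have e : z * r * z⁻¹ = s * r := by rw [← h]; group
      calc r * z * r⁻¹ = r * z⁻¹ * r⁻¹ := by rw [inv_eq_of_mul_eq_one_right D.z_sq]
        _ = z⁻¹ * (z * r * z⁻¹) * r⁻¹ := by group
        _ = z⁻¹ * s := by rw [e]; group
        _ = z * s := by rw [inv_eq_of_mul_eq_one_right D.z_sq]
        _ = s * z := hzs
  -- Q meets R in {1, s}
  have hI : ∀ u ∈ Q, u ∈ R → u = 1 ∨ u = s := by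
    intro u hu huR
    have hus : u * s = s * u := DR.z_central u huR
    have hcomm : ∀ a ∈ Q, a * s = s * a → a * u = u * a := by
      intro a ha has
      rcases D.comm a ha u hu with e | e
      · exact commutatorElement_eq_one_iff_mul_comm.mp e
      · exfalso; apply hz
        rw [← e, commutatorElement_def]
        exact mul_mem (DR.norm a has u huR) (inv_mem huR)
    have hcases : (∀ a ∈ Q, a * u = u * a) ∨ (∀ a ∈ Q, a * (u * s) = (u * s) * a) := by
      rcases D.comm q hq u hu with e | e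
      · left
        intro a ha
        rcases D.comm a ha s hs with e' | e'
        · exact hcomm a ha (commutatorElement_eq_one_iff_mul_comm.mp e')
        · have h1 := hcomm (q * a) (mul_mem hq ha) (commutatorElement_eq_one_iff_mul_comm.mp (by
            have hqs' : ⁅q, s⁆ = z := by
              rw [commutatorElement_def, hqs]
              calc s * z * s⁻¹ = z * (s * s⁻¹) := by rw [← hzs]; group
                _ = z := by simp
            rw [D.comm_mul_left hq ha hs, hqs', e', D.z_sq]))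
          have h2 := commutatorElement_eq_one_iff_mul_comm.mp e
          calc a * u = q⁻¹ * (q * a * u) := by group
            _ = q⁻¹ * (u * (q * a)) := by rw [h1]
            _ = q⁻¹ * (q * u) * a := by rw [h2]; group
            _ = u * a := by group
      · right
        have hqu : q * u * q⁻¹ = z * u := by rw [← e, commutatorElement_def]; group
        have hq' : q * (u * s) = (u * s) * q := by
          calc q * (u * s) = (q * u * q⁻¹) * (q * s * q⁻¹) * q := by group
            _ = (z * u) * (s * z) * q := by rw [hqu, hqs]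
            _ = z * ((u * s) * z) * q := by group
            _ = z * (z * (u * s)) * q := by rw [D.z_central _ (mul_mem hu hs)]
            _ = (z * z) * (u * s) * q := by group
            _ = u * s * q := by rw [D.z_sq, one_mul]
        intro a ha
        have hA : ∀ b ∈ Q, b * s = s * b → b * (u * s) = (u * s) * b := fun b hb hbs => by
          rw [← mul_assoc, hcomm b hb hbs, mul_assoc, hbs, ← mul_assoc]
        rcases D.comm a ha s hs with e' | e'
        · exact hA a ha (commutatorElement_eq_one_iff_mul_comm.mp e')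
        · have h1 := hA (q * a) (mul_mem hq ha) (commutatorElement_eq_one_iff_mul_comm.mp (by
            have hqs' : ⁅q, s⁆ = z := by
              rw [commutatorElement_def, hqs]
              calc s * z * s⁻¹ = z * (s * s⁻¹) := by rw [← hzs]; group
                _ = z := by simp
            rw [D.comm_mul_left hq ha hs, hqs', e', D.z_sq]))
          calc a * (u * s) = q⁻¹ * (q * a * (u * s)) := by group
            _ = q⁻¹ * ((u * s) * q) * a := by rw [h1]; group
            _ = q⁻¹ * (q * (u * s)) * a := by rw [hq']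
            _ = u * s * a := by group
    rcases hcases with h | h <;> rcases D.cent _ h with h' | h'
    · exact Or.inl h'
    · exact absurd (h' ▸ huR) hz
    · right
      rw [eq_inv_of_mul_eq_one_left h', inv_eq_of_mul_eq_one_right DR.z_sq]
    · exact absurd (h' ▸ mul_mem huR DR.z_mem) hz
  obtain ⟨a, ha, has, b, hb, hbs, hab⟩ := D.exists_noncomm hs hs1 hsz hcard
  -- elements of Q centralizing s fix C_R(z) modulo {1, s}
  have hD : ∀ c ∈ Q, c * s = s * c → ∀ d ∈ R, d * z = z * d →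
      c * d * c⁻¹ = d ∨ c * d * c⁻¹ = s * d := by
    intro c hc hcs d hd hdz
    have h1 : c * d * c⁻¹ * d⁻¹ ∈ Q := by
      have := mul_mem hc (D.norm d hdz _ (inv_mem hc))
      simpa [mul_assoc] using this
    rcases hI _ h1 (mul_mem (DR.norm c hcs d hd) (inv_mem hd)) with e | e
    · left; exact mul_inv_eq_one.mp e
    · right; rw [← e]; group
  have hscomm : ∀ r ∈ R, s * r = r * s := fun r hr => (DR.z_central r hr).symm
  -- C_R(D) ⊆ D
  have hCD : ∀ c ∈ R, (∀ d ∈ R, d * z = z * d → c * d = d * c) → c * z = z * c := by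
    intro c hc hcd
    have hzR : ∀ r ∈ R, z * r * z⁻¹ ∈ R := fun r hr => DR.norm z hzs r hr
    refine hfix c hc (DR.cent _ fun r hr => ?_)
    set e := z * r * z⁻¹ * r⁻¹ with he
    have heR : e ∈ R := mul_mem (hzR r hr) (inv_mem hr)
    have hez : e * z = z * e := by
      refine hfix e heR ?_
      have h1 : z * e * z⁻¹ = e⁻¹ := by
        rw [he]
        calc z * (z * r * z⁻¹ * r⁻¹) * z⁻¹ = (z * z) * r * z⁻¹ * r⁻¹ * z⁻¹ := by group
          _ = _ := by rw [D.z_sq]; rw [inv_eq_of_mul_eq_one_right D.z_sq]; simp [mul_assoc, inv_eq_of_mul_eq_one_right D.z_sq]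
      rw [h1]
      -- e² = [z r z⁻¹, r⁻¹] …, squares of R lie in {1, s}
      have h2 : e * e = 1 ∨ e * e = s := DR.sq heR
      rcases h2 with h2 | h2
      · left; rw [← mul_inv_rev, h2, inv_one]
      · right; rw [← mul_inv_rev, h2, inv_eq_of_mul_eq_one_right DR.z_sq]
    have hce := hcd e heR hez
    -- [z c z⁻¹ c⁻¹, r] = 1
    have B := DR.comm
    have h3 : ⁅z * c * z⁻¹, r⁆ = ⁅c, r⁆ := by
      have h4 : ⁅c, z * r * z⁻¹⁆ = ⁅c, r⁆ := by
        have : z * r * z⁻¹ = e * r := by rw [he]; group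
        rw [this]
        simp only [commutatorElement_def]
        calc c * (e * r) * c⁻¹ * (e * r)⁻¹ = (c * e) * (r * c⁻¹ * r⁻¹) * e⁻¹ := by group
          _ = e * (c * r * c⁻¹ * r⁻¹) * e⁻¹ := by rw [hce]; group
          _ = c * r * c⁻¹ * r⁻¹ := by
            rcases B c hc r hr with h | h <;> rw [commutatorElement_def] at h <;> rw [h]
            · simp
            · rw [DR.z_central e heR, mul_inv_cancel_right]
      have h5 : ⁅z * c * z⁻¹, r⁆ = z * ⁅c, z * r * z⁻¹⁆ * z⁻¹ := by
        have : r = z * (z * r * z⁻¹) * z⁻¹ := by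
          calc r = (z * z) * r * (z * z)⁻¹ := by rw [D.z_sq]; simp
            _ = _ := by group
        conv_lhs => rw [this]
        simp only [commutatorElement_def]; group
      rw [h5, h4]
      rcases B c hc r hr with h | h <;> rw [h]
      · simp
      · rw [hzs, mul_inv_cancel_right]
    have h6 : ⁅z * c * z⁻¹ * c⁻¹, r⁆ = 1 := by
      rw [DR.comm_mul_left (hzR c hc) (inv_mem hc) hr, h3]
      have := DR.comm_mul_left hc (inv_mem hc) hr
      rw [mul_inv_cancel, commutatorElement_one_left] at this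
      exact this.symm
    exact (commutatorElement_eq_one_iff_mul_comm.mp h6).symm
  have hmove : ∀ c ∈ Q, c * s = s * c → ∀ r ∈ R, (c * r * c⁻¹ * r⁻¹) * z = z * (c * r * c⁻¹ * r⁻¹) := by
    intro c hc hcs r hr
    refine hCD _ (mul_mem (DR.norm c hcs r hr) (inv_mem hr)) fun d hd hdz => ?_
    rw [← commutatorElement_eq_one_iff_mul_comm, DR.comm_mul_left (DR.norm c hcs r hr) (inv_mem hr) hd]
    have e0 := DR.comm_mul_left hr (inv_mem hr) hd
    rw [mul_inv_cancel, commutatorElement_one_left] at e0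
    suffices ⁅c * r * c⁻¹, d⁆ = ⁅r, d⁆ by rw [this, ← e0]
    have hcs' : c⁻¹ * s = s * c⁻¹ := (Commute.inv_left hcs).eq
    have hrd : ⁅r, c⁻¹ * d * c⁆ = ⁅r, d⁆ := by
      have hdd := hD c⁻¹ (inv_mem hc) hcs' d hd hdz
      rw [inv_inv] at hdd
      rcases hdd with h | h <;> rw [h]
      simp only [commutatorElement_def]
      calc r * (s * d) * r⁻¹ * (s * d)⁻¹ = (r * s) * d * r⁻¹ * d⁻¹ * s⁻¹ := by group
        _ = s * (r * d * r⁻¹ * d⁻¹) * s⁻¹ := by rw [← hscomm r hr]; group
        _ = r * d * r⁻¹ * d⁻¹ := by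
          rw [hscomm _ (mul_mem (mul_mem (mul_mem hr hd) (inv_mem hr)) (inv_mem hd)), mul_inv_cancel_right]
    have h5 : ⁅c * r * c⁻¹, d⁆ = c * ⁅r, c⁻¹ * d * c⁆ * c⁻¹ := by
      simp only [commutatorElement_def]; group
    rw [h5, hrd]
    rcases DR.comm r hr d hd with h | h <;> rw [h]
    · simp
    · rw [hcs, mul_inv_cancel_right]
  have hzall : ∀ r ∈ R, r * z = z * r := by
    intro r hr
    refine hfix r hr ?_
    set e := a * r * a⁻¹ * r⁻¹ with he
    set f := b * r * b⁻¹ * r⁻¹ with hf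
    have heR : e ∈ R := mul_mem (DR.norm a has r hr) (inv_mem hr)
    have hfR : f ∈ R := mul_mem (DR.norm b hbs r hr) (inv_mem hr)
    have hSc : ∀ c, c * s = s * c → ∀ t, t = 1 ∨ t = s → c * t * c⁻¹ = t := fun c hcs t ht => by
      rcases ht with rfl | rfl
      · simp
      · rw [hcs, mul_inv_cancel_right]
    obtain ⟨t1, ht1, hbe⟩ : ∃ t, (t = 1 ∨ t = s) ∧ b * e * b⁻¹ = t * e := by
      rcases hD b hb hbs e heR (hmove a ha has r hr) with h | h
      · exact ⟨1, Or.inl rfl, by rw [h, one_mul]⟩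
      · exact ⟨s, Or.inr rfl, h⟩
    obtain ⟨t2, ht2, haf⟩ : ∃ t, (t = 1 ∨ t = s) ∧ a * f * a⁻¹ = t * f := by
      rcases hD a ha has f hfR (hmove b hb hbs r hr) with h | h
      · exact ⟨1, Or.inl rfl, by rw [h, one_mul]⟩
      · exact ⟨s, Or.inr rfl, h⟩
    have h1 : a * b * r * (a * b)⁻¹ = t2 * (f * e) * r := by
      calc a * b * r * (a * b)⁻¹ = (a * f * a⁻¹) * (a * r * a⁻¹) := by rw [hf]; group
        _ = t2 * f * (a * r * a⁻¹) := by rw [haf]
        _ = t2 * (f * e) * r := by rw [he]; group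
    have h2 : b * a * r * (b * a)⁻¹ = t1 * (e * f) * r := by
      calc b * a * r * (b * a)⁻¹ = (b * e * b⁻¹) * (b * r * b⁻¹) := by rw [he]; group
        _ = t1 * e * (b * r * b⁻¹) := by rw [hbe]
        _ = t1 * (e * f) * r := by rw [hf]; group
    obtain ⟨t, ht, hef⟩ : ∃ t, (t = 1 ∨ t = s) ∧ e * f = t * (f * e) :=
      ⟨⁅e, f⁆, DR.comm e heR f hfR, by rw [commutatorElement_def]; group⟩
    have hab' : a * b = z * (b * a) := by rw [← hab, commutatorElement_def]; group
    have h3 : z * (b * a * r * (b * a)⁻¹) * z⁻¹ = a * b * r * (a * b)⁻¹ := by rw [hab']; group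
    rw [h1, h2, hef] at h3
    have hzt : ∀ t, t = 1 ∨ t = s → z * t = t * z := fun t ht => by
      rcases ht with rfl | rfl
      · simp
      · exact hzs
    have key : ∃ w, (w = 1 ∨ w = s) ∧ z * (f * e * r) * z⁻¹ = w * (f * e * r) := by
      refine ⟨t⁻¹ * t1⁻¹ * t2, ?_, ?_⟩
      · rcases ht with rfl | rfl <;> rcases ht1 with rfl | rfl <;> rcases ht2 with rfl | rfl <;>
          simp [inv_eq_of_mul_eq_one_right DR.z_sq, DR.z_sq]
      · calc z * (f * e * r) * z⁻¹ = t⁻¹ * t1⁻¹ * ((t1 * z) * t * (f * e * r) * z⁻¹) := by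
              rw [mul_assoc t1 z t, hzt t ht]; group
          _ = t⁻¹ * t1⁻¹ * (z * (t1 * (t * (f * e)) * r) * z⁻¹) := by rw [← hzt t1 ht1]; group
          _ = t⁻¹ * t1⁻¹ * t2 * (f * e * r) := by rw [h3]; group
    obtain ⟨w, hw, hwe⟩ := key
    have hez : (f * e) * z = z * (f * e) := by
      rw [mul_assoc, hmove a ha has r hr, ← mul_assoc, hmove b hb hbs r hr, mul_assoc]
    have : z * r * z⁻¹ * r⁻¹ = (f * e)⁻¹ * w * (f * e) := by
      calc z * r * z⁻¹ * r⁻¹ = (f * e)⁻¹ * ((f * e) * z) * r * z⁻¹ * r⁻¹ := by group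
        _ = (f * e)⁻¹ * (z * (f * e * r) * z⁻¹) * r⁻¹ := by rw [hez]; group
        _ = _ := by rw [hwe]; group
    rw [this]
    rcases hw with rfl | rfl
    · left; simp
    · right; rw [mul_assoc, hscomm _ (mul_mem hfR heR)]; group
  rcases DR.cent z hzall with h | h
  · exact D.z_ne h
  · exact hsz h.symm

end Data

end Cfsg.Agent.LargeExtraspecial
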