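import Cfsg.Agent.Lib.LargeExtraspecial.MonsterSetup
import Cfsg.Agent.Lib.LargeExtraspecial.Central
import Cfsg.Agent.Lib.Components.GenFitting
import Cfsg.Agent.Lib.Components.Quasisimple

/-!
# The centraliser of a non-central involution of Q in a group of Monster type

* `genFitting_eq_of` : recognition of `F*(G) = R` for a self-centralising normal 2-subgroup
* `Setting.comm_iff` : commutation of lifts is the inner product modulo 2
* `Setting.exists_move` : an element of `C(t)` moving z inside Q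
* `baby` : `C(t)/⟨t⟩` is of Baby Monster type
-/

set_option autoImplicit false
open scoped commutatorElement
open Cfsg

namespace Cfsg.Agent.Monster

open LargeExtraspecial MonsterLattice

variable {G : Type*} [Group G]

theorem genFitting_eq_of [Finite G] {R : Subgroup G} [R.Normal] (hp : IsPGroup 2 R)
    (hc : Subgroup.centralizer (R : Set G) ≤ R)
    (hO : ∀ N : Subgroup G, N.Normal → IsPGroup 2 N → N ≤ R) :
    Cfsg.generalizedFittingSubgroup G = R := by
  haveI : Fact (Nat.Prime 2) := ⟨Nat.prime_two⟩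
  have hcore : Cfsg.pCore 2 G = R :=
    le_antisymm (sSup_le fun N hN => hO N hN.1 hN.2) (le_sSup ⟨inferInstance, hp⟩)
  have hlay : Cfsg.layer G = ⊥ := by
    refine le_bot_iff.1 (sSup_le fun K hK => ?_)
    exfalso
    have h1 : K ≤ R := by
      refine le_trans ?_ hc
      refine ((le_sSup hK : K ≤ Cfsg.layer G).trans Components.layer_le_centralizer_fitting).trans ?_
      exact Subgroup.centralizer_le (SetLike.coe_subset_coe.2
        (Cores.le_fittingSubgroup inferInstance hp.isNilpotent))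
    exact Components.IsQuasisimple.not_isNilpotent hK.2 (hp.to_le h1).isNilpotent
  refine (Components.genFitting_eq_pCore_of hlay ?_).trans hcore
  refine le_bot_iff.1 (sSup_le fun N hN => ?_)
  obtain ⟨hNn, hNc⟩ := hN
  haveI := hNn
  have hodd : Disjoint N R := by
    obtain ⟨n, hn⟩ := IsPGroup.iff_card.mp hp
    exact disjoint_iff.2 (Subgroup.inf_eq_bot_of_coprime (by rw [hn]; exact Nat.Coprime.pow_right n hNc))
  have hNR : N ≤ R := le_trans (fun x hx => Subgroup.mem_centralizer_iff.2 fun y hy =>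
    (Subgroup.commute_of_normal_of_disjoint N R inferInstance inferInstance hodd x y hx hy).symm) hc
  exact le_of_eq (hodd.eq_bot_of_le hNR)

namespace Setting

variable {Q : Subgroup G} {z : G} (M : Setting Q z)

include M

theorem f_eq_norm [Finite G] (v : leechLattice) :
    M.f v = ((sqNorm (v : GolayPt → ℤ) / 16 : ℤ) : ZMod 2) := by
  obtain ⟨w, hc, hw⟩ := MonsterLattice.classify v
  obtain ⟨a, ha⟩ := Leech.dvd_sqNorm v.2
  obtain ⟨b, hb⟩ := Leech.dvd_sqNorm w.2
  obtain ⟨c, hcc⟩ := sqNorm_mod hc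
  have hab : ((sqNorm (v : GolayPt → ℤ) / 16 : ℤ) : ZMod 2) = (b : ZMod 2) := by
    rw [show sqNorm (v : GolayPt → ℤ) / 16 = b + 2 * c by omega, Int.cast_add, Int.cast_mul,
      show ((2 : ℤ) : ZMod 2) = 0 from rfl, zero_mul, add_zero]
  rw [M.f_cg hc, hab]
  rcases hw with rfl | h | h | h
  · obtain ⟨x, hx⟩ := M.exists_rel 0
    rw [show b = 0 by rw [ZeroMemClass.coe_zero, Leech.sqNorm_zero] at hb; omega, M.f_eq hx,
      if_pos (by rcases M.rel_zero hx with e | e <;> simp [e, M.D.z_sq]), Int.cast_zero]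
  · rw [M.f_eq_zero (Or.inl h), show b = 2 by omega]; rfl
  · rw [show b = 3 by omega]
    have h1 := M.f_ne_zero h
    revert h1
    generalize M.f w = p
    revert p
    decide
  · rw [M.f_eq_zero (Or.inr h), show b = 4 by omega]; rfl

theorem comm_iff [Finite G] {v w : leechLattice} {x y : G} (hx : M.rel v x) (hy : M.rel w y) :
    x * y = y * x ↔ (16 : ℤ) ∣ dotInt (v : GolayPt → ℤ) (w : GolayPt → ℤ) := by
  obtain ⟨a, ha⟩ := Leech.dvd_sqNorm v.2
  obtain ⟨b, hb⟩ := Leech.dvd_sqNorm w.2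
  obtain ⟨c, hc⟩ := Leech.dvd_dotInt v.2 w.2
  have hp : LeechQuad.pol M.f v w = (c : ZMod 2) := by
    rw [LeechQuad.pol, M.f_eq_norm, M.f_eq_norm, M.f_eq_norm, AddSubgroup.coe_add, Leech.sqNorm_add, ha, hb,
      hc, show (16 * a + 16 * b + 2 * (8 * c)) / 16 = a + b + c by omega,
      show 16 * a / 16 = a by omega, show 16 * b / 16 = b by omega, Int.cast_add, Int.cast_add]
    linear_combination LeechQuad.two_add (a : ZMod 2) + LeechQuad.two_add (b : ZMod 2)
  rw [M.pol_f hx hy] at hp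
  have h1 : ⁅x⁻¹, y⁆ = 1 ↔ x * y = y * x := by
    rw [commutatorElement_eq_one_iff_mul_comm]
    exact ⟨fun h => (Commute.inv_left_iff.1 h).eq, fun h => (Commute.inv_left h).eq⟩
  have hd : (16 : ℤ) ∣ dotInt (v : GolayPt → ℤ) (w : GolayPt → ℤ) ↔ (c : ZMod 2) = 0 := by
    rw [hc, ZMod.intCast_zmod_eq_zero_iff_dvd]
    push_cast
    omega
  rw [hd, ← hp, ← h1]
  by_cases h : ⁅x⁻¹, y⁆ = 1 <;> simp [h]

theorem signEl_mem_signs (c : Finset GolayPt) (hc : c ∈ supports (golayCode : Set (GolayPt → ZMod 2))) :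
    Leech.signEl c hc ∈ signs := by
  intro i
  by_cases h : i ∈ c
  · right
    refine Subtype.ext ?_
    rw [Leech.signEl, Leech.vec_mono, Leech.coe_eightVec, Leech.signedPerm_single, AddSubgroup.coe_neg,
      Leech.coe_eightVec]
    simp [h, Pi.single_neg]
  · left
    refine Subtype.ext ?_
    rw [Leech.signEl, Leech.vec_mono, Leech.coe_eightVec, Leech.signedPerm_single]
    simp [h]

/-- An element of `C(t)` moving `z` inside `Q`. -/
theorem exists_move [Finite G] {v : leechLattice} {t : G} (ht : M.rel v t)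
    (hv : sqNorm (v : GolayPt → ℤ) = 32) :
    ∃ g : G, g * t = t * g ∧ g * z * g⁻¹ ∈ Q ∧ g * z * g⁻¹ ≠ z := by
  haveI : Fact (Nat.Prime 2) := ⟨Nat.prime_two⟩
  obtain ⟨s0, hs0⟩ := M.exists_rel (Leech.eightVec none)
  obtain ⟨hc0, hne0⟩ := M.conj64 hs0 (Leech.sqNorm_eightVec none)
  obtain ⟨g0, rfl⟩ := isConj_iff.1 hc0
  have hsQ := M.rel_mem hs0
  have DP := M.D.conjugate g0
  set P := conjS g0 Q
  have h64 : sqNorm (Leech.eightVec none : GolayPt → ℤ) = 32 ∨ sqNorm (Leech.eightVec none : GolayPt → ℤ) = 48 ∨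
      sqNorm (Leech.eightVec none : GolayPt → ℤ) = 64 := Or.inr (Or.inr (Leech.sqNorm_eightVec none))
  obtain ⟨hle, hn⟩ := M.E0_le g0 hs0 h64
  obtain ⟨hI, hE0, -⟩ := M.card_inter g0 hsQ hne0
  rw [clsStab_eightVec] at hle hn
  have hES : M.Epre g0 = signs := Subgroup.eq_of_le_of_card_ge
    (two_group_le_signs (M.isPGroup_Epre g0) hle hn) (by rw [natCard_signs, M.natCard_Epre, hE0]; norm_num)
  obtain ⟨x, hx⟩ := M.exists_rel Leech.baseU
  have hxQ := M.rel_mem hx
  have hxI : ∀ y ∈ Q ⊓ P, x * y = y * x := by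
    rintro y ⟨hyQ, hyP⟩
    obtain ⟨w, hw⟩ := M.rel_surj y hyQ
    refine (M.comm_iff hx hw).2 (perp_of_signs_fix fun c hc => ?_)
    obtain ⟨r, hr, hre⟩ := Subgroup.mem_comap.1 (hES ▸ signEl_mem_signs M c hc : Leech.signEl c hc ∈ M.Epre g0)
    have h1 := M.rel_equiv (Leech.signEl c hc) r hre.symm hw
    rcases DP.comm r hr y hyP with h | h
    · left
      rw [commutatorElement_eq_one_iff_mul_comm.mp h, mul_inv_cancel_right] at h1
      exact (M.rel_cg h1 hw).2 (Or.inl rfl)
    · right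
      rw [show (r : G) * y * (r : G)⁻¹ = g0 * z * g0⁻¹ * y by rw [← h, commutatorElement_def]; group] at h1
      exact (M.rel_cg h1 (M.rel_add hs0 hw)).2 (Or.inl rfl)
  have hxP : x ∈ P := by
    have hab : ∀ a ∈ (Q ⊓ P).subgroupOf Q, ∀ b ∈ (Q ⊓ P).subgroupOf Q, a * b = b * a := by
      intro a ha b hb
      refine Subtype.ext (commutatorElement_eq_one_iff_mul_comm.mp ?_)
      rcases M.D.comm _ ha.1 _ hb.1 with h | h
      · exact h
      rcases DP.comm _ ha.2 _ hb.2 with h' | h'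
      · exact h'
      · exact absurd (h'.symm.trans h) hne0
    obtain ⟨A, hA, hAc⟩ := Extraspecial.exists_maximal_abelian ((Q ⊓ P).subgroupOf Q) hab
    have hcard := Extraspecial.card_mul_of_maximal (p := 2) M.extra hAc
    rw [M.card_Q] at hcard
    have hA' : (Q ⊓ P).subgroupOf Q = A := Subgroup.eq_of_le_of_card_ge hA (by
      rw [Nat.card_congr (Subgroup.subgroupOfEquivOfLe (inf_le_left : Q ⊓ P ≤ Q)).toEquiv, hI]
      by_contra hlt
      have := Nat.mul_self_lt_mul_self (not_le.1 hlt)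
      omega)
    have : (⟨x, hxQ⟩ : Q) ∈ (Q ⊓ P).subgroupOf Q := by
      rw [hA', ← hAc, ← hA']
      exact Subgroup.mem_centralizer_iff.2 fun y hy => Subtype.ext (hxI _ hy).symm
    exact this.2
  have hu32 := Leech.sqNorm_baseU
  have hxx : x * x = 1 := by
    by_contra h
    have h0 := M.f_baseU
    rw [M.f_eq hx, if_neg h] at h0
    exact one_ne_zero h0
  obtain ⟨hx1, hxz⟩ := M.ne_of_rel hx (Or.inl hu32)
  have hxc : ¬ IsConj z x := by
    intro hc
    obtain ⟨w, hw, hwn⟩ := M.rep64 hxQ hc hxz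
    rcases Leech.congr_short w.2 ((M.rel_cg hw hx).2 (Or.inl rfl)) (by omega) (by omega) with e | e | ⟨-, e, -⟩
    · rw [e] at hwn; omega
    · rw [e, Leech.sqNorm_neg] at hwn; omega
    · omega
  set y := g0⁻¹ * x * g0 with hy
  have hyc : ¬ IsConj z y := fun h => hxc (h.trans (isConj_iff.2 ⟨g0, by rw [hy]; group⟩))
  have hyy : y * y = 1 := by
    rw [hy, show g0⁻¹ * x * g0 * (g0⁻¹ * x * g0) = g0⁻¹ * (x * x) * g0 by group, hxx]; group
  have hy1 : y ≠ 1 := fun h => hx1 (by rw [show x = g0 * y * g0⁻¹ by rw [hy]; group, h]; group)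
  obtain ⟨w, hw, hwn | hwn⟩ := M.classify_sq_one (mem_conjS.1 hxP) hyy hy1 (fun h => hyc (h ▸ IsConj.refl z))
  · obtain ⟨h, hhC, hh⟩ := M.conj_of_norm ht hw (Or.inl hv) (hwn.trans hv.symm)
    obtain ⟨k, hkC, hk⟩ := M.conj_of_norm hx ht (Or.inl hu32) (hv.trans hu32.symm)
    have hhz : h * z * h⁻¹ = z := mul_inv_eq_iff_eq_mul.2 (Subgroup.mem_centralizer_singleton_iff.1 hhC)
    have hkz : k * z * k⁻¹ = z := mul_inv_eq_iff_eq_mul.2 (Subgroup.mem_centralizer_singleton_iff.1 hkC)
    have hgz : k * g0 * h * z * (k * g0 * h)⁻¹ = k * (g0 * z * g0⁻¹) * k⁻¹ := by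
      calc k * g0 * h * z * (k * g0 * h)⁻¹ = k * g0 * (h * z * h⁻¹) * g0⁻¹ * k⁻¹ := by group
        _ = _ := by rw [hhz]; group
    refine ⟨k * g0 * h, mul_inv_eq_iff_eq_mul.1 ?_, ?_, ?_⟩
    · calc k * g0 * h * t * (k * g0 * h)⁻¹ = k * g0 * (h * t * h⁻¹) * g0⁻¹ * k⁻¹ := by group
        _ = k * x * k⁻¹ := by rw [hh]; group
        _ = t := hk
    · rw [hgz]
      exact M.D.norm k (Subgroup.mem_centralizer_singleton_iff.1 hkC) _ hsQ
    · rw [hgz]
      intro e
      exact hne0 (mul_left_cancel (mul_right_cancel (e.trans hkz.symm)))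
  · exact absurd (M.conj64 hw hwn).1 hyc

end Setting

/-- `C(t)/⟨t⟩` is of Baby Monster type. -/
theorem baby [Finite G] {Q : Subgroup G} {z t : G} (M : Setting Q z) {v : leechLattice}
    (ht : M.rel v t) (hv : sqNorm (v : GolayPt → ℤ) = 32) (htc : ¬ IsConj z t)
    {H : Type*} [Group H] [Finite H] (π : Subgroup.centralizer ({t} : Set G) →* H)
    (hπ : Function.Surjective π)
    (hπk : ∀ c, π c = 1 ↔ ((c : G) = 1 ∨ (c : G) = t)) : Cfsg.IsOfBabyMonsterType H := by
  classical
  haveI : Fact (Nat.Prime 2) := ⟨Nat.prime_two⟩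
  have D := M.D
  have htQ := M.rel_mem ht
  obtain ⟨ht1, htz⟩ := M.ne_of_rel ht (Or.inl hv)
  have htt : t * t = 1 := by
    by_contra h
    have h0 := M.f_eq_zero (v := v) (Or.inl hv)
    rw [M.f_eq ht, if_neg h] at h0
    exact one_ne_zero h0
  have hzt : z * t = t * z := (D.z_central t htQ).symm
  obtain ⟨qt, hqt, hqtt⟩ := D.exists_conj_eq htQ ht1 htz
  have htzc : ¬ IsConj z (t * z) := fun h => htc (h.trans (isConj_iff.2 ⟨qt, hqtt⟩).symm)
  let zC : Subgroup.centralizer ({t} : Set G) := ⟨z, Subgroup.mem_centralizer_singleton_iff.2 hzt⟩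
  let zb : H := π zC
  let K : Subgroup G := Subgroup.centralizer ({z} : Set G) ⊓ Subgroup.centralizer ({t} : Set G)
  let Dg : Subgroup H := Subgroup.centralizer ({zb} : Set H)
  let ι : K →* Dg :=
    (π.comp (Subgroup.inclusion inf_le_right)).codRestrict Dg fun k =>
      Subgroup.mem_centralizer_singleton_iff.2 (by
        rw [MonoidHom.comp_apply, ← map_mul, ← map_mul]
        exact congrArg π (Subtype.ext (Subgroup.mem_centralizer_singleton_iff.1 k.2.1)))
  have hιcoe : ∀ k : K, (ι k : H) = π ⟨k, k.2.2⟩ := fun k => rfl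
  have hιk : ∀ k : K, ι k = 1 ↔ ((k : G) = 1 ∨ (k : G) = t) := fun k => by
    rw [← hπk ⟨k, k.2.2⟩, ← hιcoe k]
    exact ⟨fun h => by rw [h]; rfl, fun h => Subtype.ext h⟩
  have hιs : Function.Surjective ι := by
    rintro ⟨y, hy⟩
    obtain ⟨c, rfl⟩ := hπ y
    have h1 : π (c * zC * c⁻¹ * zC⁻¹) = 1 := by
      rw [map_mul, map_mul, map_mul, map_inv, map_inv, Subgroup.mem_centralizer_singleton_iff.1 hy]
      simp [zb]
    refine ⟨⟨c, Subgroup.mem_centralizer_singleton_iff.2 ?_, c.2⟩, Subtype.ext rfl⟩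
    rcases (hπk _).1 h1 with h | h
    · exact mul_inv_eq_iff_eq_mul.1 (mul_inv_eq_one.1 h)
    · refine absurd (isConj_iff.2 ⟨(c : G), ?_⟩) htzc
      exact mul_inv_eq_iff_eq_mul.1 h
  have hιeq : ∀ a b : K, ι a = ι b → (b : G) = a ∨ (b : G) = a * t := fun a b h => by
    have h1 : ι (a⁻¹ * b) = 1 := by rw [map_mul, map_inv, h, inv_mul_cancel]
    rcases (hιk _).1 h1 with e | e
    · exact Or.inl (inv_mul_eq_one.1 e).symm
    · exact Or.inr (inv_mul_eq_iff_eq_mul.1 e)
  -- the map onto the second Conway group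
  obtain ⟨k0, hk0⟩ := Leech.transitive32 Leech.golayUnique hv Leech.sqNorm_baseU
  have hU : Spor.leechU = Leech.baseU := Subtype.ext (by decide +kernel)
  let incl : Spor.Co2 →* Co0 := Subgroup.inclusion inf_le_left
  have hincl : ∀ g : Spor.Co2, incl g • Leech.baseU = Leech.baseU := fun g => by
    rw [← hU]; exact g.2.2
  have hincl' : ∀ a : Co0, a • Leech.baseU = Leech.baseU → ∃ g, incl g = a := fun a h =>
    ⟨⟨a.1, a.2, by rw [← hU] at h; exact h⟩, rfl⟩
  let ρ : Spor.Co2 →* Spor.Co1 :=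
    (QuotientGroup.mk' (Subgroup.center Co0)).comp ((MulAut.conj k0⁻¹).toMonoidHom.comp incl)
  have hρi : Function.Injective ρ := by
    refine (injective_iff_map_eq_one ρ).2 fun g hg => ?_
    have h1 : k0⁻¹ * incl g * k0 ∈ Subgroup.center Co0 := by
      have := (QuotientGroup.eq_one_iff _).1 hg
      simpa using this
    rcases Leech.center_eq h1 with e | e
    · refine Subgroup.inclusion_injective inf_le_left (?_ : incl g = incl 1)
      rw [map_one]
      calc incl g = k0 * (k0⁻¹ * incl g * k0) * k0⁻¹ := by group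
        _ = 1 := by rw [e]; group
    · exfalso
      have h2 : incl g = Leech.negOne := by
        calc incl g = k0 * (k0⁻¹ * incl g * k0) * k0⁻¹ := by group
          _ = _ := by rw [e, Subgroup.mem_center_iff.1 Leech.negOne_mem_center k0, mul_inv_cancel_right]
      have h3 := hincl g
      rw [h2, Leech.negOne_smul] at h3
      have h4 := congrFun (congrArg Subtype.val h3) none
      rw [AddSubgroup.coe_neg, Pi.neg_apply, baseU_apply, if_pos (Or.inl rfl)] at h4
      omega
  let κK : K →* Spor.Co1 := M.κ.comp (Subgroup.inclusion inf_le_left)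
  have hmap := M.map_centralizer ht (Or.inl hv)
  have hρv : ∀ g, k0⁻¹ * incl g * k0 ∈ clsStab v := fun g => by
    rw [mem_clsStab, mul_smul, mul_smul, hk0, hincl, inv_smul_eq_iff.2 hk0.symm]
    exact cg_refl v
  have hκρ : ∀ k : K, κK k ∈ ρ.range := by
    intro k
    obtain ⟨a, ha, hae⟩ : M.κ ⟨k, k.2.1⟩ ∈ (clsStab v).map (QuotientGroup.mk' (Subgroup.center Co0)) :=
      hmap ▸ ⟨⟨k, k.2.1⟩, k.2.2, rfl⟩
    obtain ⟨c, hc, hac⟩ : ∃ c ∈ Subgroup.center Co0, (a * c) • v = v := by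
      rcases eq_or_neg_of_mem_clsStab hv ha with h | h
      · exact ⟨1, one_mem _, by rw [mul_one, h]⟩
      · exact ⟨_, Leech.negOne_mem_center, by rw [mul_smul, Leech.negOne_smul, Leech.smul_vneg, h, neg_neg]⟩
    obtain ⟨g, hg⟩ := hincl' (k0 * (a * c) * k0⁻¹) (by
      rw [mul_smul, mul_smul, inv_smul_eq_iff.2 hk0.symm, hac, hk0])
    refine ⟨g, ?_⟩
    show QuotientGroup.mk' _ (MulAut.conj k0⁻¹ (incl g)) = M.κ ⟨k, k.2.1⟩
    rw [← hae, QuotientGroup.mk'_eq_mk']
    exact ⟨c⁻¹, inv_mem hc, by rw [hg]; simp [mul_assoc]⟩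
  let θ : K →* Spor.Co2 := (MonoidHom.ofInjective hρi).symm.toMonoidHom.comp (κK.codRestrict ρ.range hκρ)
  have hθ : ∀ k, ρ (θ k) = κK k := fun k =>
    MonoidHom.apply_ofInjective_symm hρi (⟨κK k, hκρ k⟩ : ρ.range)
  have hθs : Function.Surjective θ := by
    intro g
    obtain ⟨h, hh, hhe⟩ : ρ g ∈ ((Subgroup.centralizer ({t} : Set G)).subgroupOf
        (Subgroup.centralizer ({z} : Set G))).map M.κ := hmap ▸ ⟨_, hρv g, by simp [ρ]⟩
    exact ⟨⟨h, h.2, hh⟩, hρi ((hθ _).trans hhe)⟩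
  have hθk : ∀ k, k ∈ θ.ker ↔ (k : G) ∈ Q := fun k => by
    rw [MonoidHom.mem_ker, ← M.κ_ker ⟨k, k.2.1⟩]
    constructor
    · intro h
      have := hθ k
      rw [h, map_one] at this
      exact this.symm
    · intro h
      exact hρi (by rw [hθ, map_one]; exact h)
  have hkerι : ι.ker ≤ θ.ker := fun k hk => (hθk k).2 (by
    rcases (hιk k).1 hk with h | h <;> rw [h]
    exacts [one_mem _, htQ])
  let R : Subgroup Dg := θ.ker.map ι
  haveI hRn : R.Normal := Subgroup.Normal.map inferInstance ι hιs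
  have hRmem : ∀ k, ι k ∈ R ↔ k ∈ θ.ker := fun k => by
    refine ⟨fun ⟨a, ha, hak⟩ => ?_, fun h => ⟨k, h, rfl⟩⟩
    have : a⁻¹ * k ∈ ι.ker := by rw [MonoidHom.mem_ker, map_mul, map_inv, hak, inv_mul_cancel]
    simpa using mul_mem ha (hkerι this)
  have memK : ∀ q ∈ Q, q * t = t * q → q ∈ K := fun q hq hqt' =>
    ⟨M.mem_centralizer hq, Subgroup.mem_centralizer_singleton_iff.2 hqt'⟩
  -- orders
  have hQt : Nat.card (θ.ker) = 2 ^ 24 := by
    have hbij : Function.Bijective (fun p : θ.ker × Bool =>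
        (if p.2 then ⟨qt * ((p.1 : K) : G), mul_mem hqt ((hθk _).1 p.1.2)⟩
          else ⟨((p.1 : K) : G), (hθk _).1 p.1.2⟩ : Q)) := by
      have hne : ∀ a : K, ¬ (qt * (a : G)) * t = t * (qt * (a : G)) := fun a h => by
        have h2 : qt * t = t * qt := by
          have ha := Subgroup.mem_centralizer_singleton_iff.1 a.2.2
          refine mul_right_cancel (b := (a : G)) ?_
          rw [mul_assoc, ← ha, ← mul_assoc, h, mul_assoc]
        rw [h2, mul_inv_cancel_right] at hqtt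
        exact D.z_ne (mul_eq_left.1 hqtt.symm)
      constructor
      · rintro ⟨a, b⟩ ⟨c, d⟩ h
        have h' := congrArg (fun q : Q => (q : G)) h
        cases b <;> cases d <;> simp at h'
        · rw [h']
        · exact absurd (Subgroup.mem_centralizer_singleton_iff.1 (h' ▸ (a : K).2.2)) (hne c)
        · exact absurd (Subgroup.mem_centralizer_singleton_iff.1 (h'.symm ▸ (c : K).2.2)) (hne a)
        · rw [h']
      · rintro ⟨q, hq⟩
        rcases D.comm q hq t htQ with h | h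
        · exact ⟨(⟨⟨q, memK q hq (commutatorElement_eq_one_iff_mul_comm.mp h)⟩, (hθk _).2 hq⟩, false), rfl⟩
        · have hm : (qt⁻¹ * q) * t = t * (qt⁻¹ * q) := by
            rw [← commutatorElement_eq_one_iff_mul_comm, D.comm_mul_left (inv_mem hqt) hq htQ, h]
            have h3 := D.comm_mul_left (inv_mem hqt) hqt htQ
            rw [inv_mul_cancel, commutatorElement_one_left] at h3
            have h4 : ⁅qt, t⁆ = z := by
              rw [commutatorElement_def, hqtt, ← hzt, mul_inv_cancel_right]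
            rw [h4] at h3
            exact h3.symm
          exact ⟨(⟨⟨_, memK _ (mul_mem (inv_mem hqt) hq) hm⟩, (hθk _).2 (mul_mem (inv_mem hqt) hq)⟩, true),
            Subtype.ext (mul_inv_cancel_left qt q)⟩
    have h := Nat.card_congr (Equiv.ofBijective _ hbij)
    rw [Nat.card_prod, M.card_Q, show Nat.card Bool = 2 by simp, pow_succ] at h
    exact Nat.eq_of_mul_eq_mul_right two_pos h
  have hRcard : Nat.card R = 2 ^ 23 := by
    have h := natCard_map_mul ι θ.ker
    rw [inf_eq_right.2 hkerι, hQt] at h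
    have h2 : Nat.card ι.ker = 2 := by
      rw [Nat.card_eq_two_iff' (1 : ι.ker)]
      have htK : t ∈ K := memK t htQ rfl
      refine ⟨⟨⟨t, htK⟩, (hιk _).2 (Or.inr rfl)⟩, fun e => ht1 (congrArg (fun a : ι.ker => ((a : K) : G)) e),
        fun y hy => ?_⟩
      rcases (hιk _).1 y.2 with e | e
      · exact absurd (Subtype.ext (Subtype.ext e)) hy
      · exact Subtype.ext (Subtype.ext e)
    rw [h2, show 2 ^ 24 = 2 ^ 23 * 2 from pow_succ 2 23] at h
    exact Nat.eq_of_mul_eq_mul_right two_pos h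
  have hRp : IsPGroup 2 R := IsPGroup.of_card hRcard
  let zK : K := ⟨z, memK z D.z_mem hzt⟩
  let zd : Dg := ι zK
  have hcomm_t : ∀ a b : G, a ∈ Q → b ∈ Q → (⁅a, b⁆ = 1 ∨ ⁅a, b⁆ = t) → a * b = b * a := by
    intro a b ha hb h
    refine commutatorElement_eq_one_iff_mul_comm.mp (h.resolve_right fun e => ?_)
    rcases D.comm a ha b hb with e' | e'
    · exact ht1 (e.symm.trans e')
    · exact htz (e.symm.trans e')
  -- the centre of R
  have hcen : ∀ r ∈ R, (∀ q ∈ R, q * r = r * q) → r = 1 ∨ r = zd := by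
    rintro _ ⟨k, hk, rfl⟩ hq
    have hkQ := (hθk k).1 hk
    have hc : ∀ q ∈ Q, q * t = t * q → q * (k : G) = k * q := by
      intro q hqQ hqt'
      have h1 : ι ⁅(⟨q, memK q hqQ hqt'⟩ : K), k⁆ = 1 := by
        rw [map_commutatorElement, commutatorElement_eq_one_iff_mul_comm]
        exact hq _ ⟨_, (hθk _).2 hqQ, rfl⟩
      exact hcomm_t _ _ hqQ hkQ ((hιk _).1 h1)
    have hdec : ∀ q ∈ Q, q * t = t * q ∨ ⁅q, t⁆ = z := fun q hq' =>
      (D.comm q hq' t htQ).imp_left commutatorElement_eq_one_iff_mul_comm.mp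
    have hqt' : ⁅qt, t⁆ = z := by rw [commutatorElement_def, hqtt, ← hzt, mul_inv_cancel_right]
    have hkt : (k : G) * t = t * k := Subgroup.mem_centralizer_singleton_iff.1 k.2.2
    have key : ∀ u : G, u ∈ Q → u * t = t * u → (∀ q ∈ Q, q * t = t * q → q * u = u * q) →
        ⁅qt, u⁆ = 1 → u = 1 ∨ u = z := by
      intro u hu hut huc he
      refine D.cent u fun q hq' => ?_
      rcases hdec q hq' with e | e
      · exact huc q hq' e
      · have e2 := huc (qt * q) (mul_mem hqt hq') (by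
          rw [← commutatorElement_eq_one_iff_mul_comm, D.comm_mul_left hqt hq' htQ, hqt', e, D.z_sq])
        rw [commutatorElement_eq_one_iff_mul_comm] at he
        calc q * u = qt⁻¹ * (qt * q * u) := by group
          _ = qt⁻¹ * (u * qt) * q := by rw [e2]; group
          _ = qt⁻¹ * (qt * u) * q := by rw [he]
          _ = u * q := by group
    rcases D.comm qt hqt k hkQ with e | e
    · rcases key k hkQ hkt hc e with e' | e'
      · exact Or.inl ((hιk k).2 (Or.inl e'))
      · exact Or.inr (congrArg ι (Subtype.ext e' : k = zK))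
    · have e2 : ⁅qt, (k : G) * t⁆ = 1 := by
        have hqk : qt * k * qt⁻¹ = z * k := by rw [← e, commutatorElement_def]; group
        rw [commutatorElement_eq_one_iff_mul_comm]
        calc qt * (k * t) = (qt * k * qt⁻¹) * (qt * t * qt⁻¹) * qt := by group
          _ = (z * k) * (t * z) * qt := by rw [hqk, hqtt]
          _ = (z * ((k * t) * z)) * qt := by group
          _ = (z * (z * (k * t))) * qt := by rw [D.z_central _ (mul_mem hkQ htQ)]
          _ = (z * z) * (k * t) * qt := by group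
          _ = k * t * qt := by rw [D.z_sq, one_mul]
      have hkt2 : ι k = ι (k * ⟨t, memK t htQ rfl⟩) := by
        rw [map_mul, (hιk ⟨t, memK t htQ rfl⟩).2 (Or.inr rfl), mul_one]
      rcases key _ (mul_mem hkQ htQ) (by rw [mul_assoc, ← mul_assoc t, ← hkt, mul_assoc]) (fun q a b =>
        (Commute.mul_right (hc q a b) b).eq) e2 with e' | e'
      · exact Or.inl (hkt2.trans ((hιk _).2 (Or.inl e')))
      · exact Or.inr (hkt2.trans (congrArg ι (Subtype.ext e' : k * ⟨t, memK t htQ rfl⟩ = zK)))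
  have hzR : zd ∈ R := (hRmem _).2 ((hθk _).2 D.z_mem)
  have hz1 : zd ≠ 1 := fun h => ((hιk _).1 h).elim D.z_ne (fun e => htz e.symm)
  have hzcent : ∀ y : Dg, y * zd = zd * y := fun y =>
    Subtype.ext (Subgroup.mem_centralizer_singleton_iff.1 y.2)
  have hRc : ∀ a ∈ R, ∀ b ∈ R, ⁅a, b⁆ = 1 ∨ ⁅a, b⁆ = zd := by
    rintro _ ⟨a, ha, rfl⟩ _ ⟨b, hb, rfl⟩
    rw [← map_commutatorElement]
    rcases D.comm _ ((hθk a).1 ha) _ ((hθk b).1 hb) with h | h
    · exact Or.inl ((hιk _).2 (Or.inl h))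
    · exact Or.inr (congrArg ι (Subtype.ext h : ⁅a, b⁆ = zK))
  have hRsq : ∀ a ∈ R, a * a = 1 ∨ a * a = zd := by
    rintro _ ⟨a, ha, rfl⟩
    rw [← map_mul]
    rcases D.sq ((hθk a).1 ha) with h | h
    · exact Or.inl ((hιk _).2 (Or.inl h))
    · exact Or.inr (congrArg ι (Subtype.ext h : a * a = zK))
  obtain ⟨hRex, -⟩ := isExtraspecial_of_gen hRp hzR hz1 (fun q _ => hzcent q) hcen hRc hRsq (by
    obtain ⟨a, ha, hat, b, hb, hbt, hab⟩ := D.exists_noncomm htQ ht1 htz (by rw [M.card_Q]; norm_num)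
    refine ⟨_, (hRmem ⟨a, memK a ha hat⟩).2 ((hθk _).2 ha), _, (hRmem ⟨b, memK b hb hbt⟩).2 ((hθk _).2 hb), ?_⟩
    rw [← map_commutatorElement]
    exact fun h => ((hιk _).1 h).elim (fun e => D.z_ne (hab.symm.trans e)) (fun e => htz (e.symm.trans hab)))
  have hcenter : ∀ r : R, r ∈ Subgroup.center R ↔ ((r : Dg) = 1 ∨ (r : Dg) = zd) := fun r => by
    refine ⟨fun h => hcen r r.2 fun q hq => congrArg Subtype.val (Subgroup.mem_center_iff.1 h ⟨q, hq⟩), ?_⟩
    rintro (h | h) <;> refine Subgroup.mem_center_iff.2 fun q => Subtype.ext ?_ <;>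
      rw [Subgroup.coe_mul, Subgroup.coe_mul, h]
    · rw [one_mul, mul_one]
    · exact hzcent q
  -- the module
  have hperp : ∀ x : leechLattice,
      dotInt ((k0⁻¹ • x : leechLattice) : GolayPt → ℤ) (v : GolayPt → ℤ) = dotInt (x : GolayPt → ℤ) Spor.vecU := by
    intro x
    rw [← Leech.dotInt_smul k0 (k0⁻¹ • x) v, smul_inv_smul, hk0, ← hU]
    rfl
  -- C(R) ≤ R
  have hCR : Subgroup.centralizer (R : Set Dg) ≤ R := by
    intro x hx
    obtain ⟨k, rfl⟩ := hιs x
    refine (hRmem k).2 ?_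
    rw [MonoidHom.mem_ker]
    have hg1 : incl (θ k) = 1 := by
      refine eq_one_of_perp (hincl _) fun w hw => ?_
      have hgk : (QuotientGroup.mk (k0⁻¹ * incl (θ k) * k0) : Spor.Co1) = M.κ ⟨k, k.2.1⟩ := by
        have h := hθ k
        simp only [ρ, κK, MonoidHom.comp_apply, MulEquiv.coe_toMonoidHom, MulAut.conj_apply, inv_inv] at h
        exact h
      obtain ⟨q, hq⟩ := M.exists_rel (k0⁻¹ • w)
      have hqQ := M.rel_mem hq
      have hqc : q * t = t * q := (M.comm_iff hq ht).2 (by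
        rw [hperp, show Spor.vecU = (Leech.baseU : GolayPt → ℤ) from congrArg Subtype.val hU,
          Leech.dotInt_comm]
        exact hw)
      have h1 := M.rel_equiv _ ⟨k, k.2.1⟩ hgk hq
      rw [mul_smul, mul_smul, smul_inv_smul] at h1
      have h2 : ι ⁅k, (⟨q, memK q hqQ hqc⟩ : K)⁆ = 1 := by
        rw [map_commutatorElement, commutatorElement_eq_one_iff_mul_comm]
        exact (Subgroup.mem_centralizer_iff.1 hx _ ((hRmem _).2 ((hθk _).2 hqQ))).symm
      have key : ∀ u, Cg (k0⁻¹ • incl (θ k) • w) u → Cg (incl (θ k) • w) (k0 • u) := fun u h => by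
        have := h.smul k0
        rwa [smul_inv_smul] at this
      rcases (hιk _).1 h2 with e | e
      · left
        have e' : (k : G) * q * (k : G)⁻¹ = q := mul_inv_eq_one.1 e
        simp only [e'] at h1
        have := key _ ((M.rel_cg h1 hq).2 (Or.inl rfl))
        rwa [smul_inv_smul] at this
      · right
        have e' : (k : G) * q * (k : G)⁻¹ = t * q := mul_inv_eq_iff_eq_mul.1 e
        simp only [e'] at h1
        have := key _ ((M.rel_cg h1 (M.rel_add ht hq)).2 (Or.inl rfl))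
        rwa [Leech.smul_vadd, smul_inv_smul, hk0, add_comm] at this
    exact Subgroup.inclusion_injective inf_le_left (hg1.trans incl.map_one.symm)
  -- the quotient
  let η : K →* Dg ⧸ R := (QuotientGroup.mk' R).comp ι
  have hηs : Function.Surjective η := (QuotientGroup.mk'_surjective R).comp hιs
  have hηk : η.ker = θ.ker := by
    ext k
    rw [MonoidHom.mem_ker, ← hRmem k]
    exact QuotientGroup.eq_one_iff _
  let e : Dg ⧸ R ≃* Spor.Co2 := (QuotientGroup.quotientKerEquivOfSurjective η hηs).symm.trans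
    ((QuotientGroup.quotientMulEquivOfEq hηk).trans (QuotientGroup.quotientKerEquivOfSurjective θ hθs))
  have he : ∀ k : K, e (QuotientGroup.mk (ι k)) = θ k := fun k => by
    have h1 : (QuotientGroup.quotientKerEquivOfSurjective η hηs).symm (η k) = QuotientGroup.mk k :=
      (MulEquiv.symm_apply_eq _).2 rfl
    show (QuotientGroup.quotientKerEquivOfSurjective θ hθs) (QuotientGroup.quotientMulEquivOfEq hηk
      ((QuotientGroup.quotientKerEquivOfSurjective η hηs).symm (η k))) = θ k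
    rw [h1]
    rfl
  have hO : ∀ N : Subgroup Dg, N.Normal → IsPGroup 2 N → N ≤ R := by
    intro N hN hNp x hx
    let φ : Dg →* Co0 := incl.comp (e.toMonoidHom.comp (QuotientGroup.mk' R))
    have hφ1 : ∀ y, φ y • Leech.baseU = Leech.baseU := fun y => hincl _
    have h := eq_one_of_normal_stab_baseU (E := N.map φ) (hNp.map φ)
      (by rintro _ ⟨y, -, rfl⟩; exact hφ1 y)
      (fun a ha y hy => by
        obtain ⟨y, hy, rfl⟩ := hy
        obtain ⟨g, rfl⟩ := hincl' a ha
        obtain ⟨d, hd⟩ := (e.surjective.comp (QuotientGroup.mk'_surjective R)) g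
        exact ⟨d * y * d⁻¹, hN.conj_mem y hy d, by simp [φ, ← hd]⟩)
      (e := φ x) ⟨x, hx, rfl⟩
    have h1 : e (QuotientGroup.mk x) = 1 :=
      Subgroup.inclusion_injective inf_le_left (h.trans incl.map_one.symm)
    exact (QuotientGroup.eq_one_iff x).1 (e.map_eq_one_iff.1 h1)
  -- lifts of the perpendicular lattice
  let rel' : leechPerpU → R → Prop := fun x r =>
    ∃ k : K, M.rel (k0⁻¹ • (x : leechLattice)) k ∧ ι k = r
  have hrex : ∀ x, ∃ r, rel' x r := by
    intro x
    obtain ⟨q, hq⟩ := M.exists_rel (k0⁻¹ • (x : leechLattice))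
    have hqc : q * t = t * q := (M.comm_iff hq ht).2 (by rw [hperp]; exact x.2)
    exact ⟨⟨_, (hRmem ⟨q, memK q (M.rel_mem hq) hqc⟩).2 ((hθk _).2 (M.rel_mem hq))⟩, _, hq, rfl⟩
  choose r hr using hrex
  let ψ : leechPerpU → R ⧸ Subgroup.center R := fun x => QuotientGroup.mk (r x)
  have hψ : ∀ x a, rel' x a → ψ x = QuotientGroup.mk a := by
    rintro x a ⟨k', hk', hka⟩
    obtain ⟨k, hk, hkr⟩ := hr x
    refine QuotientGroup.eq.2 ((hcenter _).2 ?_)
    rw [Subgroup.coe_mul, Subgroup.coe_inv, ← hka, ← hkr, ← map_inv, ← map_mul]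
    rcases (M.rel_cg hk hk').1 (cg_refl _) with e | e
    · exact Or.inl ((hιk _).2 (Or.inl (inv_mul_eq_one.2 e.symm)))
    · exact Or.inr (congrArg ι (Subtype.ext (inv_mul_eq_iff_eq_mul.2 e) : k⁻¹ * k' = zK))
  obtain ⟨g, hgt, hgQ, hgne⟩ := M.exists_move ht hv
  let gC : Subgroup.centralizer ({t} : Set G) := ⟨g, Subgroup.mem_centralizer_singleton_iff.2 hgt⟩
  have hgzt : g * z * g⁻¹ * t = t * (g * z * g⁻¹) := by
    have h1 : Commute g t := hgt
    have h2 : Commute z t := hzt
    exact ((h1.mul_left h2).mul_left h1.inv_left).eq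
  refine ⟨zb, R, hRn, ⟨?_, genFitting_eq_of hRp hCR hO, hRex, hRcard, π gC, ?_, ?_⟩, e, ψ, ?_, ?_, ?_, ?_⟩
  · refine orderOf_eq_prime ?_ fun h => hz1 (Subtype.ext h)
    rw [pow_two, ← map_mul, show zC * zC = 1 from Subtype.ext D.z_sq, map_one]
  · have hc : π gC * zb * (π gC)⁻¹ = (ι ⟨_, memK _ hgQ hgzt⟩ : H) := by
      rw [← map_inv, ← map_mul, ← map_mul, hιcoe]
      rfl
    refine ⟨?_, ?_⟩
    · rw [hc]; exact (ι _).2
    · exact Set.mem_of_eq_of_mem (Subtype.ext hc) ((hRmem _).2 ((hθk _).2 hgQ))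
  · intro h
    have h1 : π (gC * zC * gC⁻¹ * zC⁻¹) = 1 := by
      rw [map_mul, map_mul, map_mul, map_inv, map_inv, h, mul_inv_cancel]
    rcases (hπk _).1 h1 with e' | e'
    · exact hgne (mul_inv_eq_one.1 e')
    · exact htzc (isConj_iff.2 ⟨g, mul_inv_eq_iff_eq_mul.1 e'⟩)
  · intro x y
    obtain ⟨a, ha, hax⟩ := hr x
    obtain ⟨b, hb, hby⟩ := hr y
    rw [hψ (x + y) (r x * r y) ⟨a * b, by rw [AddSubgroup.coe_add, Leech.smul_vadd]; exact M.rel_add ha hb,
      by rw [map_mul, hax, hby]; rfl⟩, QuotientGroup.mk_mul]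
  · intro y
    obtain ⟨⟨_, k, hk, rfl⟩, rfl⟩ := QuotientGroup.mk_surjective y
    obtain ⟨w, hw⟩ := M.rel_surj _ ((hθk k).1 hk)
    have hp : (16 : ℤ) ∣ dotInt ((k0 • w : leechLattice) : GolayPt → ℤ) Spor.vecU := by
      rw [← hperp, inv_smul_smul]
      exact (M.comm_iff hw ht).1 (Subgroup.mem_centralizer_singleton_iff.1 k.2.2)
    exact ⟨⟨k0 • w, hp⟩, hψ _ _ ⟨k, by rw [inv_smul_smul]; exact hw, rfl⟩⟩
  · intro x
    obtain ⟨k, hk, hkr⟩ := hr x
    obtain ⟨o, ho⟩ := M.exists_rel 0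
    show QuotientGroup.mk (r x) = 1 ↔ _
    rw [QuotientGroup.eq_one_iff, hcenter, ← hkr]
    have hx0 : ∀ u : leechLattice, Cg (k0⁻¹ • (x : leechLattice)) u ↔ Cg (x : leechLattice) (k0 • u) :=
      fun u => ⟨fun h => by have := h.smul k0; rwa [smul_inv_smul] at this,
        fun h => by have := h.smul k0⁻¹; rwa [inv_smul_smul] at this⟩
    have a0 : ((k : G) = 1 ∨ (k : G) = z) ↔ ∃ w : leechLattice, (x : leechLattice) = w + w := by
      have := (hx0 0).symm.trans (M.rel_cg hk ho)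
      rw [Leech.smul_vzero, cg_iff] at this
      simp only [zero_add] at this
      rw [this]
      rcases M.rel_zero ho with rfl | rfl
      · constructor <;> rintro (h | h)
        · exact Or.inl h.symm
        · exact Or.inr (by rw [h, D.z_sq])
        · exact Or.inl h.symm
        · exact Or.inr (by rw [eq_inv_of_mul_eq_one_left h.symm, inv_eq_of_mul_eq_one_right D.z_sq])
      · constructor <;> rintro (h | h)
        · exact Or.inr (by rw [h, one_mul])
        · exact Or.inl h.symm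
        · exact Or.inr h.symm
        · exact Or.inl (mul_eq_right.1 h.symm)
    have a1 : ((k : G) = t ∨ (k : G) = t * z) ↔
        ∃ w : leechLattice, (x : leechLattice) = Spor.leechU + (w + w) := by
      have := (hx0 v).symm.trans (M.rel_cg hk ht)
      rw [hk0, cg_iff, ← hU] at this
      rw [this]
      constructor <;> rintro (h | h)
      · exact Or.inl h.symm
      · exact Or.inr (by rw [h, mul_assoc, D.z_sq, mul_one])
      · exact Or.inl h.symm
      · exact Or.inr (by rw [h, mul_assoc, D.z_sq, mul_one])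
    rw [← a0, ← a1]
    constructor
    · rintro (h | h)
      · rcases (hιk k).1 h with e | e
        · exact Or.inl (Or.inl e)
        · exact Or.inr (Or.inl e)
      · rcases hιeq zK k h.symm with e | e
        · exact Or.inl (Or.inr e)
        · exact Or.inr (Or.inr (e.trans hzt))
    · rintro ((e | e) | (e | e))
      · exact Or.inl ((hιk k).2 (Or.inl e))
      · exact Or.inr (congrArg ι (Subtype.ext e : k = zK))
      · exact Or.inl ((hιk k).2 (Or.inr e))
      · refine Or.inr ?_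
        have : k = zK * ⟨t, memK t htQ rfl⟩ := Subtype.ext (e.trans hzt.symm)
        rw [this, map_mul, (hιk ⟨t, memK t htQ rfl⟩).2 (Or.inr rfl), mul_one]
  · intro h g' hg x y hxy q hq
    obtain ⟨k, rfl⟩ := hιs h
    rw [he] at hg
    obtain ⟨a, ha, har⟩ := hr x
    have hgk : (QuotientGroup.mk (k0⁻¹ * incl g' * k0) : Spor.Co1) = M.κ ⟨k, k.2.1⟩ := by
      have h' := hθ k
      rw [hg] at h'
      simp only [ρ, κK, MonoidHom.comp_apply, MulEquiv.coe_toMonoidHom, MulAut.conj_apply, inv_inv] at h'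
      exact h'
    have h1 := M.rel_equiv _ ⟨k, k.2.1⟩ hgk ha
    rw [mul_smul, mul_smul, smul_inv_smul, show incl g' • (x : leechLattice) = y from hxy] at h1
    have h2 : ψ y = QuotientGroup.mk ⟨ι k * r x * (ι k)⁻¹, hRn.conj_mem _ (r x).2 _⟩ :=
      hψ y _ ⟨k * a * k⁻¹, h1, by rw [map_mul, map_mul, map_inv, har]⟩
    rw [h2]
    refine QuotientGroup.eq.2 ((hcenter _).2 ?_)
    have hq' := (hcenter _).1 (QuotientGroup.eq.1 (show (QuotientGroup.mk (r x) : R ⧸ Subgroup.center R) = QuotientGroup.mk q from hq))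
    rw [Subgroup.coe_mul, Subgroup.coe_inv] at hq' ⊢
    have e1 : (ι k * (r x : Dg) * (ι k)⁻¹)⁻¹ * (ι k * q * (ι k)⁻¹) = ι k * ((r x : Dg)⁻¹ * q) * (ι k)⁻¹ := by
      group
    show (ι k * (r x : Dg) * (ι k)⁻¹)⁻¹ * (ι k * q * (ι k)⁻¹) = 1 ∨ _
    rw [e1]
    rcases hq' with e2 | e2
    · left; rw [e2]; group
    · right; show ι k * ((r x : Dg)⁻¹ * q) * (ι k)⁻¹ = zd; rw [e2, hzcent, mul_inv_cancel_right]

end Cfsg.Agent.Monster
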