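import Cfsg.Agent.Lib.LargeExtraspecial.OrderEight
import Mathlib.GroupTheory.Abelianization.Defs
import Mathlib.GroupTheory.Sylow

/-! Sign homomorphisms of `H` and the two consequences of the transfer computation. -/

set_option autoImplicit false

namespace Cfsg.Agent.LargeExtraspecial.IndexTwo

open Subgroup LargeExtraspecial.TransferFixed

section general

variable {S : Type*} [Group S]

open Classical in
/-- The sign homomorphism of a subgroup of index two. -/
noncomputable def signHom (M : Subgroup S) (h : M.index = 2) : S →* ℤˣ where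
  toFun x := if x ∈ M then 1 else -1
  map_one' := if_pos M.one_mem
  map_mul' x y := by
    have := mul_mem_iff_of_index_two h (a := x) (b := y)
    by_cases hx : x ∈ M <;> by_cases hy : y ∈ M <;> simp_all

theorem signHom_eq_one {M : Subgroup S} {h : M.index = 2} {x : S} : signHom M h x = 1 ↔ x ∈ M := by
  classical
  show (if x ∈ M then (1 : ℤˣ) else -1) = 1 ↔ _
  by_cases hx : x ∈ M <;> simp [hx]

theorem exists_signHom {A : Type*} [CommGroup A] [Finite A] (q : A) (k : ℕ) (hq : orderOf q = 2 ^ k)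
    (hne : q ^ 2 ≠ 1) : ∃ f : A →* ℤˣ, (∃ x, f x ≠ 1) ∧ ∀ x, x * x = 1 → f x = 1 := by
  haveI : Fact (Nat.Prime 2) := ⟨Nat.prime_two⟩
  let T : Subgroup A := (powMonoidHom 2 : A →* A).ker
  let S' : Subgroup A := (powMonoidHom 2 : A →* A).range
  have hTS : T ⊔ S' ≠ ⊤ := by
    intro htop
    have hsurj : ∀ s : S', ∃ t : S', t ^ 2 = s := by
      rintro ⟨_, x, rfl⟩
      obtain ⟨t, ht, w, hw, rfl⟩ := mem_sup.mp (htop ▸ mem_top x : x ∈ T ⊔ S')
      refine ⟨⟨w, hw⟩, Subtype.ext ?_⟩
      have ht' : t ^ 2 = 1 := ht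
      simp [mul_pow, ht']
    have hinj : Function.Injective (fun t : S' => t ^ 2) :=
      Finite.injective_iff_surjective.mpr hsurj
    have hk : 2 ≤ k := by
      by_contra hk
      apply hne
      have : orderOf q ∣ 2 := by
        rw [hq]
        interval_cases k <;> norm_num
      exact orderOf_dvd_iff_pow_eq_one.mp this
    have hu : (⟨(q ^ 2 ^ (k - 2)) ^ 2, ⟨_, rfl⟩⟩ : S') = 1 := by
      apply hinj
      apply Subtype.ext
      show ((q ^ 2 ^ (k - 2)) ^ 2) ^ 2 = (1 : A) ^ 2
      rw [one_pow, ← pow_mul, ← pow_mul, show 2 ^ (k - 2) * (2 * 2) = 2 ^ k by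
        rw [show 2 * 2 = 2 ^ 2 by norm_num, ← pow_add]; congr 1; omega, ← hq, pow_orderOf_eq_one]
    have h1 : q ^ 2 ^ (k - 1) = 1 := by
      have := congrArg Subtype.val hu
      rw [show 2 ^ (k - 1) = 2 ^ (k - 2) * 2 by rw [← pow_succ]; congr 1; omega, pow_mul]
      exact this
    have := Nat.le_of_dvd (by positivity) (hq ▸ orderOf_dvd_of_pow_eq_one h1)
    have := (Nat.pow_le_pow_iff_right (by norm_num : 1 < 2)).mp this
    omega
  have hP : IsPGroup 2 (A ⧸ (T ⊔ S')) := by
    intro x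
    induction x using QuotientGroup.induction_on with
    | _ x =>
      refine ⟨1, ?_⟩
      rw [← QuotientGroup.mk_pow, QuotientGroup.eq_one_iff, pow_one]
      exact mem_sup_right ⟨x, rfl⟩
  obtain ⟨m, hm⟩ := IsPGroup.iff_card.mp hP
  rcases m with - | m
  · exfalso
    apply hTS
    rw [pow_zero, ← index_eq_card, index_eq_one] at hm
    exact hm
  obtain ⟨K, hK⟩ := Sylow.exists_subgroup_card_pow_prime (G := A ⧸ (T ⊔ S')) 2 (n := m)
    (by rw [hm]; exact pow_dvd_pow 2 (Nat.le_succ m))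
  have hKi : K.index = 2 := by
    have := K.card_mul_index
    rw [hK, hm, pow_succ] at this
    exact Nat.eq_of_mul_eq_mul_left (by positivity) this
  refine ⟨(signHom K hKi).comp (QuotientGroup.mk' _), ?_, fun x hx => ?_⟩
  · by_contra hcon
    push Not at hcon
    have : K = ⊤ := by
      rw [eq_top_iff]
      intro y _
      obtain ⟨x, rfl⟩ := QuotientGroup.mk'_surjective _ y
      exact (signHom_eq_one (h := hKi)).mp (hcon x)
    rw [this, index_top] at hKi
    norm_num at hKi
  · rw [MonoidHom.comp_apply, signHom_eq_one]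
    have : QuotientGroup.mk' (T ⊔ S') x = 1 :=
      (QuotientGroup.eq_one_iff x).mpr (mem_sup_left (show x ^ 2 = 1 by rw [pow_two, hx]))
    rw [this]
    exact one_mem K

end general

variable {G : Type*} [Group G] [Finite G] {H E : Subgroup G} {z : G}

/-- `E` lies in the kernel of every sign homomorphism of `H`. -/
theorem lam_eq_one_of_mem (hres : Cfsg.pResidual 2 G = ⊤) (hS : Setting H E z) (hB : Big E z)
    (μ : H →* ℤˣ) : ∀ e ∈ E, lam μ e = 1 := by
  classical
  have hzc : ∀ e ∈ E, e * z = z * e := fun e he => (hS.hH e).mp (hS.hEH he)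
  have hzH := hS.hEH hS.zE
  have hlz : lam μ z = 1 := by
    obtain ⟨a, ha, b, hb, hab⟩ := hB E le_rfl (fun a ha b hb h _ => absurd ha h)
    have := congrArg (lam μ) hab
    rw [lam_mul (hS.hEH ha) (hS.hEH hb), lam_mul (hS.hEH (mul_mem hb ha)) hzH,
      lam_mul (hS.hEH hb) (hS.hEH ha), mul_comm (lam μ b)] at this
    exact (mul_eq_left.mp this.symm)
  intro e0 he0
  by_contra hne0
  -- a subgroup of index two of `E`
  have hC : ∀ e ∈ E, ∀ a ∈ E, ∀ b ∈ E, a * e ≠ e * a → b * e ≠ e * b → (a * b) * e = e * (a * b) := by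
    intro e he a ha b hb hna hnb
    have h1 := (hS.comm a ha e he).resolve_left hna
    have h2 := (hS.comm b hb e he).resolve_left hnb
    calc (a * b) * e = a * (b * e) := mul_assoc _ _ _
      _ = (a * e) * (b * z) := by rw [h2]; group
      _ = e * a * z * (b * z) := by rw [h1]
      _ = e * a * (z * b) * z := by group
      _ = e * a * b * (z * z) := by rw [← hzc b hb]; group
      _ = _ := by rw [hS.z2]; group
  obtain ⟨e, he, he2, hne⟩ : ∃ e ∈ E, e * e = 1 ∧ lam μ e ≠ 1 := by
    rcases hS.sq e0 he0 with h2 | h2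
    · exact ⟨e0, he0, h2, hne0⟩
    by_cases hex : ∃ y ∈ E, y * y = 1 ∧ y * e0 ≠ e0 * y
    · obtain ⟨y, hy, hy2, hny⟩ := hex
      by_cases hly : lam μ y = 1
      · refine ⟨e0 * y, mul_mem he0 hy, ?_, by rw [lam_mul (hS.hEH he0) (hS.hEH hy), hly, mul_one]; exact hne0⟩
        have h1 := (hS.comm y hy e0 he0).resolve_left hny
        calc e0 * y * (e0 * y) = e0 * (y * e0) * y := by group
          _ = e0 * e0 * y * (z * y) := by rw [h1]; group
          _ = e0 * e0 * (y * y) * z := by rw [← hzc y hy]; group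
          _ = 1 := by rw [h2, hy2, mul_one, hS.z2]
      · exact ⟨y, hy, hy2, hly⟩
    exfalso
    push Not at hex
    have hnc : ∃ y ∈ E, y * e0 ≠ e0 * y := by
      by_contra hcon
      push Not at hcon
      rcases hS.cen e0 he0 (fun y hy => (hcon y hy).symm) with h | h
      · apply hne0; rw [h, lam_of_mem (one_mem H)]; exact map_one μ
      · exact hne0 (h ▸ hlz)
    obtain ⟨y, hy, hny⟩ := hnc
    have hyy : ∀ c ∈ E, c * e0 = e0 * c → (y * c) * (y * c) = z := by
      intro c hc hce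
      refine (hS.sq _ (mul_mem hy hc)).resolve_left fun h => hny ?_
      have := hex _ (mul_mem hy hc) h
      rw [mul_assoc, hce, ← mul_assoc, ← mul_assoc] at this
      exact mul_right_cancel this
    have hy2 : y * y = z := by simpa using hyy 1 (one_mem E) (by simp)
    let C : Subgroup G :=
      { carrier := {x | x ∈ E ∧ x * e0 = e0 * x}
        one_mem' := ⟨one_mem E, by simp⟩
        mul_mem' := fun {a b} ha hb => ⟨mul_mem ha.1 hb.1, by rw [mul_assoc, hb.2, ← mul_assoc, ha.2, mul_assoc]⟩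
        inv_mem' := fun {a} ha => ⟨inv_mem ha.1, (Commute.inv_left (ha.2 : Commute a e0)).eq⟩ }
    obtain ⟨a, ha, b, hb, hab⟩ := hB C (fun x hx => hx.1) (fun a ha b hb hna hnb =>
      ⟨mul_mem ha hb, hC e0 he0 a ha b hb (fun h => hna ⟨ha, h⟩) (fun h => hnb ⟨hb, h⟩)⟩)
    -- `y` acts on `C` as squaring
    have hact : ∀ c ∈ C, y * c = c * y * (c * c) := by
      intro c hc
      have h1 := hyy c hc.1 hc.2
      have hcc : (c * c) * (c * c) = 1 := by
        rcases hS.sq c hc.1 with h | h <;> rw [h]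
        · rw [mul_one]
        · exact hS.z2
      calc y * c = y * c * (y * c) * (c⁻¹ * y⁻¹) := by group
        _ = y * y * (c⁻¹ * y⁻¹) := by rw [h1, hy2]
        _ = y * y * (c * (c * c)) * y⁻¹ := by
            rw [show c⁻¹ = c * (c * c) from inv_eq_of_mul_eq_one_right (by rw [← mul_assoc]; exact hcc)]
            group
        _ = c * (c * c) * (y * y) * y⁻¹ := by rw [hy2, ← hzc _ (mul_mem hc.1 (mul_mem hc.1 hc.1))]
        _ = c * ((c * c) * y) := by group
        _ = _ := by
            have : (c * c) * y = y * (c * c) := by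
              rcases hS.sq c hc.1 with h | h <;> rw [h]
              · simp
              · exact (hzc y hy).symm
            rw [this]; group
    have hcen2 : ∀ c ∈ E, ∀ x ∈ E, (c * c) * x = x * (c * c) := by
      intro c hc x hx
      rcases hS.sq c hc with h | h <;> rw [h]
      · simp
      · exact (hzc x hx).symm
    have e1 : y * (a * b) = a * b * y * ((a * a) * (b * b)) := by
      calc y * (a * b) = y * a * b := (mul_assoc _ _ _).symm
        _ = a * y * ((a * a) * b) := by rw [hact a ha]; group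
        _ = a * (y * b) * (a * a) := by rw [hcen2 a ha.1 b hb.1]; group
        _ = a * b * y * ((b * b) * (a * a)) := by rw [hact b hb]; group
        _ = _ := by rw [hcen2 b hb.1 (a * a) (mul_mem ha.1 ha.1)]
    rw [hact _ (mul_mem ha hb), mul_right_inj] at e1
    apply hS.z1
    have e2 : b * a = a * b := by
      have : a * (b * a) * b = a * (a * b) * b := by
        calc a * (b * a) * b = a * b * (a * b) := by group
          _ = _ := by rw [e1]; group
      exact mul_left_cancel (mul_right_cancel this)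
    rw [hab] at e2
    exact (mul_eq_left.mp e2.symm)
  have hord : orderOf e ∣ 2 := orderOf_dvd_of_pow_eq_one (by rw [pow_two, he2])
  refine no_element hres hS μ e (hS.hEH he) hne (fun g r hr hrd _ => ?_) (fun g hgz hge hmv => ?_)
  · obtain rfl : r = 2 := le_antisymm (Nat.le_of_dvd (by norm_num) (hrd.trans hord)) hr
    rw [pow_two, he2, mul_one, inv_mul_cancel, lam_of_mem (one_mem H)]
    exact map_one μ
  by_cases hA : ∃ y ∈ E, y * e = e * y ∧ g⁻¹ * y * g ∉ H
  · obtain ⟨y, hy, hye, hyH⟩ := hA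
    refine ⟨y, hy, hyH, fun x _ hx => ?_⟩
    rw [show y⁻¹ * e * y = e by rw [mul_assoc, ← hye, inv_mul_cancel_left]]
    exact ⟨hx, rfl⟩
  push Not at hA
  let D : Subgroup G :=
    { carrier := {x | x ∈ E ∧ g⁻¹ * x * g ∈ H}
      one_mem' := ⟨one_mem E, by simp⟩
      mul_mem' := fun {a b} ha hb => ⟨mul_mem ha.1 hb.1, by
        have := mul_mem ha.2 hb.2
        convert this using 1; group⟩
      inv_mem' := fun {a} ha => ⟨inv_mem ha.1, by
        have := inv_mem ha.2
        convert this using 1; group⟩ }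
  obtain ⟨a, ha, b, hb, hab⟩ := hB D (fun x hx => hx.1) (fun a ha b hb hna hnb =>
    ⟨mul_mem ha hb, hA _ (mul_mem ha hb) (hC e he a ha b hb (fun h => hna ⟨ha, hA a ha h⟩)
      (fun h => hnb ⟨hb, hA b hb h⟩))⟩)
  have hψz : lam μ (g⁻¹ * z * g) = 1 := by
    have h1 : (g⁻¹ * a * g) * (g⁻¹ * b * g) = (g⁻¹ * b * g) * (g⁻¹ * a * g) * (g⁻¹ * z * g) := by
      calc (g⁻¹ * a * g) * (g⁻¹ * b * g) = g⁻¹ * (a * b) * g := by group
        _ = _ := by rw [hab]; group
    have := congrArg (lam μ) h1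
    rw [lam_mul ha.2 hb.2, lam_mul (mul_mem hb.2 ha.2) hgz, lam_mul hb.2 ha.2, mul_comm (lam μ (g⁻¹ * b * g))] at this
    exact (mul_eq_left.mp this.symm)
  obtain ⟨y, hy, hyH⟩ := hmv
  refine ⟨y, hy, hyH, fun x hx hxH => ?_⟩
  rcases hS.comm e he y hy with h | h
  · rw [show y⁻¹ * e * y = e by rw [mul_assoc, h, inv_mul_cancel_left]]
    exact ⟨hxH, rfl⟩
  · have e1 : g⁻¹ * (x⁻¹ * (y⁻¹ * e * y) * x) * g = g⁻¹ * (x⁻¹ * e * x) * g * (g⁻¹ * z * g) := by
      rw [show y⁻¹ * e * y = e * z by rw [mul_assoc, h, mul_assoc, inv_mul_cancel_left]]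
      calc g⁻¹ * (x⁻¹ * (e * z) * x) * g = g⁻¹ * (x⁻¹ * e * (z * x)) * g := by group
        _ = _ := by rw [← hzc x hx]; group
    rw [e1]
    exact ⟨mul_mem hxH hgz, by rw [lam_mul hxH hgz, hψz, mul_one]⟩

/-- A homomorphism to `ℤˣ` killing everything with square in the derived group is trivial. -/
theorem hom_trivial (hres : Cfsg.pResidual 2 G = ⊤) (hS : Setting H E z)
    (hbig : Big E z ∨ Nat.card E = 8) (hnc : ∃ a ∈ E, ∃ b ∈ E, a * b = b * a * z)
    (hcore : IsPGroup 2 H → H ≤ E)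
    (μ : H →* ℤˣ) (hkill : ∀ v : H, Abelianization.of v * Abelianization.of v = 1 → μ v = 1) :
    ∀ x, μ x = 1 := by
  classical
  have hsq : ∀ a ∈ H, a * a = 1 → lam μ a = 1 := by
    intro a ha h
    rw [lam_of_mem ha]
    refine hkill _ ?_
    rw [← map_mul, show (⟨a, ha⟩ : H) * ⟨a, ha⟩ = 1 from Subtype.ext h, map_one]
  have hder : ∀ a b u, a ∈ H → b ∈ H → u ∈ H → a * b = b * a * (u * u) → lam μ u = 1 := by
    intro a b u ha hb hu h
    rw [lam_of_mem hu]
    refine hkill _ ?_
    have h' : (⟨a, ha⟩ : H) * ⟨b, hb⟩ = ⟨b, hb⟩ * ⟨a, ha⟩ * (⟨u, hu⟩ * ⟨u, hu⟩) := Subtype.ext h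
    have := congrArg Abelianization.of h'
    simp only [map_mul] at this
    rw [mul_comm (Abelianization.of (⟨b, hb⟩ : H))] at this
    exact (mul_eq_left.mp this.symm)
  by_contra hcon
  push Not at hcon
  obtain ⟨x, hx⟩ := hcon
  -- a `2`-element of least order
  have hex : ∃ m : ℕ, ∃ h ∈ H, orderOf h = 2 ^ m ∧ lam μ h ≠ 1 := by
    obtain ⟨m, o, ho, hmo⟩ := Nat.exists_eq_two_pow_mul_odd (orderOf_pos (x : G)).ne'
    refine ⟨m, (x : G) ^ o, pow_mem x.2 o, ?_, ?_⟩
    · rw [orderOf_pow' _ (Nat.ne_of_gt ho.pos), hmo, Nat.gcd_eq_right (dvd_mul_left _ _),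
        Nat.mul_div_cancel _ ho.pos]
    · rw [lam_of_mem (pow_mem x.2 o), show (⟨(x : G) ^ o, pow_mem x.2 o⟩ : H) = x ^ o from Subtype.ext rfl,
        map_pow, (Int.units_eq_one_or (μ x)).resolve_left hx, ho.neg_one_pow]
      decide
  obtain ⟨h, hh, hord, hne⟩ := Nat.find_spec hex
  set m := Nat.find hex with hm
  have hmin : ∀ u, ∀ i < m, u ∈ H → orderOf u = 2 ^ i → lam μ u = 1 := by
    intro u i hi hu hui
    by_contra hc
    exact Nat.find_min hex hi ⟨u, hu, hui, hc⟩
  have hm2 : 2 ≤ m := by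
    by_contra hm2
    apply hne
    refine hsq h hh ?_
    rw [← pow_two]
    apply orderOf_dvd_iff_pow_eq_one.mp
    rw [hord]
    interval_cases m <;> norm_num
  have hred : ∀ g : G, ∀ r, 2 ≤ r → r ∣ orderOf h → g⁻¹ * h ^ r * g ∈ H → lam μ (g⁻¹ * h ^ r * g) = 1 := by
    intro g r hr hrd hmem
    rw [hord] at hrd
    obtain ⟨j, hj, rfl⟩ := (Nat.dvd_prime_pow Nat.prime_two).mp hrd
    have hj1 : 1 ≤ j := by
      by_contra hj1
      rw [show j = 0 by omega] at hr
      norm_num at hr
    refine hmin _ (m - j) (by omega) hmem ?_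
    rw [show g⁻¹ * h ^ 2 ^ j * g = (MulAut.conj g⁻¹).toMonoidHom (h ^ 2 ^ j) by simp,
      orderOf_injective _ (MulAut.conj g⁻¹).injective, orderOf_pow' _ (by positivity), hord,
      Nat.gcd_eq_right (pow_dvd_pow 2 hj), Nat.pow_div hj (by norm_num)]
  rcases hbig with hB | h8
  · have hsmall : ∀ g : G, g⁻¹ * h ^ 2 * g ∈ H → lam μ (g⁻¹ * h ^ 2 * g) = 1 := fun g hg =>
      hred g 2 le_rfl (by rw [hord]; exact dvd_pow_self 2 (by omega)) hg
    exact no_element hres hS μ h hh hne hred (fun g hgz hgh hmv =>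
      exists_translation hS hB μ hsq hder h hh m hord hsmall g hgz hgh hmv)
  · obtain ⟨a, ha, b, hb, hab⟩ := hnc
    obtain ⟨h1, h2⟩ := OrderEight.order_eight hS h8 ha hb hab
    apply hne
    by_cases hc : ∀ c ∈ H, c * c ∈ E
    · have hH2 : IsPGroup 2 H := by
        intro y
        obtain ⟨i, hi⟩ := hS.isP ⟨_, hc y y.2⟩
        refine ⟨i + 1, Subtype.ext ?_⟩
        have := congrArg Subtype.val hi
        rw [SubgroupClass.coe_pow, OneMemClass.coe_one] at this
        rw [SubgroupClass.coe_pow, OneMemClass.coe_one, pow_succ', pow_mul, pow_two]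
        exact this
      -- `H = E`
      have hE := hcore hH2 hh
      rcases hS.sq h hE with h3 | h3
      · exact hsq h hh h3
      · exact hder a b h (hS.hEH ha) (hS.hEH hb) hh (by rw [h3, hab])
    push Not at hc
    obtain ⟨c, hc, hcc⟩ := hc
    rw [lam_of_mem hh]
    refine hkill _ ?_
    rw [← map_mul]
    exact h2 c hc hcc _ Abelianization.of (fun hzH => by
      have h' : (⟨a, hS.hEH ha⟩ : H) * ⟨b, hS.hEH hb⟩ = ⟨b, hS.hEH hb⟩ * ⟨a, hS.hEH ha⟩ * ⟨z, hzH⟩ := Subtype.ext hab
      have := congrArg Abelianization.of h'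
      simp only [map_mul] at this
      rw [mul_comm (Abelianization.of (⟨b, _⟩ : H))] at this
      exact (mul_eq_left.mp this.symm)) _ (h1 h hh m hord)

end Cfsg.Agent.LargeExtraspecial.IndexTwo
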