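import Cfsg.Agent.Lib.OrderJTwo.Quaternionic
import Cfsg.Agent.Lib.Extraspecial.Basic
import Cfsg.Agent.Lib.LargeExtraspecial.Basic
import Mathlib.GroupTheory.Transfer
import Mathlib.Algebra.Ring.Int.Units

/-! Transfer into the centralizer of a central involution of a large extraspecial subgroup,
evaluated on an element all of whose proper powers are killed. -/

set_option autoImplicit false

namespace Cfsg.Agent.LargeExtraspecial.TransferFixed

open Subgroup MulAction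
open scoped commutatorElement

variable {G : Type*} [Group G]

/-- What is used about `E`, `z` and `H`. -/
structure Setting (H E : Subgroup G) (z : G) : Prop where
  hEH : E ≤ H
  hH : ∀ g, g ∈ H ↔ g * z = z * g
  hnorm : ∀ g ∈ H, ∀ e ∈ E, g * e * g⁻¹ ∈ E
  zE : z ∈ E
  z2 : z * z = 1
  z1 : z ≠ 1
  comm : ∀ a ∈ E, ∀ b ∈ E, a * b = b * a ∨ a * b = b * a * z
  sq : ∀ a ∈ E, a * a = 1 ∨ a * a = z
  self : Subgroup.centralizer (E : Set G) ≤ E
  cen : ∀ x ∈ E, (∀ y ∈ E, x * y = y * x) → x = 1 ∨ x = z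
  isP : IsPGroup 2 E

/-- Subgroups of index two are nonabelian. -/
def Big (E : Subgroup G) (z : G) : Prop :=
  ∀ D ≤ E, (∀ a ∈ E, ∀ b ∈ E, a ∉ D → b ∉ D → a * b ∈ D) → ∃ a ∈ D, ∃ b ∈ D, a * b = b * a * z

theorem big_of_card [Finite G] {H E : Subgroup G} {z : G} (hS : Setting H E z)
    (hex : Cfsg.IsExtraspecial 2 ↥E) (n : ℕ) (hn : 2 ≤ n) (hcard : Nat.card E = 2 ^ (2 * n + 1)) : Big E z := by
  haveI : Fact (Nat.Prime 2) := ⟨Nat.prime_two⟩
  intro D hDE hidx
  by_contra hcon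
  push Not at hcon
  have h1 := OrderJTwo.card_le_two_mul E D hDE hidx
  have hab : ∀ a ∈ D.subgroupOf E, ∀ b ∈ D.subgroupOf E, a * b = b * a := fun a ha b hb =>
    Subtype.ext ((hS.comm a a.2 b b.2).resolve_right (hcon a ha b hb))
  have h2 := Extraspecial.card_abelian_sq_le hex hab
  rw [Nat.card_congr (Subgroup.subgroupOfEquivOfLe hDE).toEquiv, hcard] at h2
  rw [hcard] at h1
  have h3 : 2 ^ (2 * n + 1) * 2 ^ (2 * n + 1) ≤ 2 ^ (2 * n + 4) := by
    calc 2 ^ (2 * n + 1) * 2 ^ (2 * n + 1) ≤ (2 * Nat.card D) * (2 * Nat.card D) := Nat.mul_le_mul h1 h1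
      _ = 4 * (Nat.card D * Nat.card D) := by ring
      _ ≤ 4 * (2 * 2 ^ (2 * n + 1)) := Nat.mul_le_mul_left _ h2
      _ = _ := by ring
  rw [← pow_add] at h3
  have := (Nat.pow_le_pow_iff_right (by norm_num : 1 < 2)).mp h3
  omega

theorem setting_of_extraspecial [Finite G] (z : G) (hz : orderOf z = 2) (E : Subgroup G)
    (hE : E = (Cfsg.pCore 2 ↥(Subgroup.centralizer ({z} : Set G))).map (Subgroup.centralizer ({z} : Set G)).subtype)
    (hext : Cfsg.IsExtraspecial 2 ↥E) (hcent : Subgroup.centralizer (E : Set G) ≤ E) :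
    Setting (Subgroup.centralizer ({z} : Set G)) E z := by
  haveI : Fact (Nat.Prime 2) := ⟨Nat.prime_two⟩
  set H := Subgroup.centralizer ({z} : Set G)
  have hH : ∀ g, g ∈ H ↔ g * z = z * g := fun g => mem_centralizer_singleton_iff
  have hEH : E ≤ H := hE ▸ map_subtype_le _
  have hnorm : ∀ g ∈ H, ∀ e ∈ E, g * e * g⁻¹ ∈ E := by
    intro g hg e he
    rw [hE] at he ⊢
    obtain ⟨q, hq, rfl⟩ := he
    exact ⟨⟨g, hg⟩ * q * ⟨g, hg⟩⁻¹, pCore_conj_mem 2 hq _, rfl⟩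
  have hzE : z ∈ E := hcent (mem_centralizer_iff.mpr fun e he => (hH e).mp (hEH he))
  have hz2 : z * z = 1 := by rw [← pow_two, ← hz, pow_orderOf_eq_one]
  have hz1 : z ≠ 1 := fun h => by simp [h] at hz
  have hzc : (⟨z, hzE⟩ : E) ∈ center E :=
    mem_center_iff.mpr fun g => Subtype.ext ((hH g).mp (hEH g.2))
  have hne : (⟨⟨z, hzE⟩, hzc⟩ : center E) ≠ 1 := fun h => hz1 (congrArg (fun w : center E => ((w : E) : G)) h)
  have huniq := (Nat.card_eq_two_iff' (1 : center E)).mp hext.2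
  have hcen : ∀ w : E, w ∈ center E → (w : G) = 1 ∨ (w : G) = z := by
    intro w hw
    by_cases h : (⟨w, hw⟩ : center E) = 1
    · exact Or.inl (congrArg (fun w : center E => ((w : E) : G)) h)
    · exact Or.inr (congrArg (fun w : center E => ((w : E) : G)) (huniq.unique h hne))
  refine ⟨hEH, hH, hnorm, hzE, hz2, hz1, ?_, ?_, hcent, ?_, hext.1.1⟩
  · intro a ha b hb
    have h := hcen _ (Extraspecial.commutatorElement_mem_center hext ⟨a, ha⟩ ⟨b, hb⟩)
    have h' : ((⁅(⟨a, ha⟩ : E), ⟨b, hb⟩⁆ : E) : G) = a * b * a⁻¹ * b⁻¹ := rfl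
    rw [h'] at h
    rcases h with h | h
    · left
      calc a * b = a * b * a⁻¹ * b⁻¹ * (b * a) := by group
        _ = _ := by rw [h, one_mul]
    · right
      calc a * b = a * b * a⁻¹ * b⁻¹ * (b * a) := by group
        _ = b * a * z := by rw [h, ← (hH _).mp (hEH (mul_mem hb ha))]
  · intro a ha
    have h := hcen _ (Extraspecial.pow_mem_center hext ⟨a, ha⟩)
    rwa [Subgroup.coe_pow, pow_two] at h
  · intro x hx hc
    exact hcen ⟨x, hx⟩ (mem_center_iff.mpr fun g => Subtype.ext (hc g g.2).symm)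

section lam

open Classical in
/-- The extension of `μ` by `1` outside `H`. -/
noncomputable def lam {H : Subgroup G} (μ : H →* ℤˣ) (x : G) : ℤˣ :=
  if h : x ∈ H then μ ⟨x, h⟩ else 1

variable {H : Subgroup G} {μ : H →* ℤˣ}

theorem lam_of_mem {x : G} (h : x ∈ H) : lam μ x = μ ⟨x, h⟩ := by rw [lam, dif_pos h]

theorem lam_of_not_mem {x : G} (h : x ∉ H) : lam μ x = 1 := by rw [lam, dif_neg h]

theorem lam_mul {x y : G} (hx : x ∈ H) (hy : y ∈ H) : lam μ (x * y) = lam μ x * lam μ y := by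
  rw [lam_of_mem hx, lam_of_mem hy, lam_of_mem (mul_mem hx hy), ← map_mul]
  rfl

theorem lam_inv {x : G} (hx : x ∈ H) : lam μ x⁻¹ = lam μ x := by
  rw [lam_of_mem hx, lam_of_mem (inv_mem hx), ← Int.units_inv_eq_self (μ ⟨x, hx⟩), ← map_inv]
  rfl

theorem lam_conj {k : G} (hk : k ∈ H) (x : G) : lam μ (k⁻¹ * x * k) = lam μ x := by
  by_cases hx : x ∈ H
  · rw [lam_mul (mul_mem (inv_mem hk) hx) hk, lam_mul (inv_mem hk) hx, lam_inv hk, mul_comm (lam μ k), mul_assoc,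
      ← pow_two, Int.units_sq, mul_one]
  · rw [lam_of_not_mem hx, lam_of_not_mem]
    intro h
    have := mul_mem (mul_mem hk h) (inv_mem hk)
    exact hx (by simpa [mul_assoc] using this)

end lam

theorem mk_fixed_iff {H : Subgroup G} (a g : G) :
    a • (g : G ⧸ H) = (g : G ⧸ H) ↔ g⁻¹ * a * g ∈ H := by
  rw [MulAction.Quotient.smul_mk, QuotientGroup.eq, ← inv_mem_iff (x := g⁻¹ * a * g), smul_eq_mul,
    mul_inv_rev, mul_inv_rev, mul_inv_rev, inv_inv, mul_assoc]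

theorem transfer_eq_prod_fixed [Finite G] {H : Subgroup G} [Fintype (G ⧸ H)] (μ : H →* ℤˣ) (h : G)
    (f : G ⧸ H → ℤˣ) (hf : ∀ g : G, f (g : G ⧸ H) = lam μ (g⁻¹ * h * g))
    (hbig : ∀ g : G, ∀ r, 2 ≤ r → r ∣ orderOf h → g⁻¹ * h ^ r * g ∈ H → lam μ (g⁻¹ * h ^ r * g) = 1) :
    MonoidHom.transfer μ h = ∏ x, f x := by
  classical
  haveI : Fintype (Quotient (orbitRel (zpowers h) (G ⧸ H))) := Fintype.ofFinite _
  rw [MonoidHom.transfer_eq_prod_quotient_orbitRel_zpowers_quot,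
    ← Finset.prod_fiberwise_of_maps_to (s := Finset.univ)
      (g := fun x => (⟦x⟧ : Quotient (orbitRel (zpowers h) (G ⧸ H)))) (t := Finset.univ)
      (fun x _ => Finset.mem_univ _) f]
  refine Finset.prod_congr rfl fun q _ => ?_
  have hfib : ∀ x : G ⧸ H, (⟦x⟧ : Quotient (orbitRel (zpowers h) (G ⧸ H))) = q →
      ∃ s ∈ zpowers h, s • q.out = x := by
    intro x hx
    rw [← q.out_eq] at hx
    obtain ⟨s, hs⟩ := Quotient.exact hx
    exact ⟨s, s.2, hs⟩
  have hout : ((q.out.out : G) : G ⧸ H) = q.out := Quotient.out_eq q.out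
  set r := Function.minimalPeriod (h • ·) q.out with hr
  have hd : r ∣ orderOf h := by
    rw [hr, ← MulAction.pow_smul_eq_iff_minimalPeriod_dvd, pow_orderOf_eq_one, one_smul]
  have hmem : q.out.out⁻¹ * h ^ r * q.out.out ∈ H := QuotientGroup.out_conj_pow_minimalPeriod_mem H h q.out
  rw [← lam_of_mem hmem]
  rcases Nat.lt_or_ge r 2 with h1 | h2
  · have hr1 : r = 1 := by
      have := Nat.pos_of_dvd_of_pos hd (orderOf_pos h)
      omega
    have hfix : h • q.out = q.out := Function.minimalPeriod_eq_one_iff_isFixedPt.mp hr1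
    have hall : ∀ s ∈ zpowers h, s • q.out = q.out := fun s hs =>
      MulAction.mem_stabilizer_iff.mp (zpowers_le.mpr (MulAction.mem_stabilizer_iff.mpr hfix) hs)
    rw [Finset.prod_eq_single_of_mem q.out (by simp) (fun x hx hne => absurd (by
      obtain ⟨s, hs, hsx⟩ := hfib x (Finset.mem_filter.mp hx).2
      rw [← hsx, hall s hs]) hne)]
    conv_rhs => rw [← hout, hf]
    rw [hr1, pow_one]
  · rw [hbig _ r h2 hd hmem]
    refine (Finset.prod_eq_one fun x hx => ?_).symm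
    obtain ⟨s, hs, hsx⟩ := hfib x (Finset.mem_filter.mp hx).2
    obtain ⟨g, rfl⟩ := QuotientGroup.mk_surjective x
    rw [hf, lam_of_not_mem]
    intro hg
    have hfix := (mk_fixed_iff h g).mpr hg
    obtain ⟨k, rfl⟩ := mem_zpowers_iff.mp hs
    rw [← hsx, smul_smul, ← ((Commute.refl h).zpow_left k).eq, ← smul_smul] at hfix
    have h1 : h • q.out = q.out := smul_left_cancel _ hfix
    rw [hr, Function.minimalPeriod_eq_one_iff_isFixedPt.mpr h1] at h2
    omega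

theorem hom_eq_one [Finite G] (hres : Cfsg.pResidual 2 G = ⊤) (f : G →* ℤˣ) (g : G) : f g = 1 := by
  have hle : Cfsg.pResidual 2 G ≤ f.ker := by
    rw [Cfsg.pResidual, closure_le]
    intro x hx
    have h1 : orderOf (f x) ∣ orderOf x := orderOf_map_dvd f x
    have h2 : orderOf (f x) ∣ 2 := orderOf_dvd_of_pow_eq_one (Int.units_sq _)
    exact orderOf_eq_one_iff.mp (Nat.eq_one_of_dvd_coprimes hx h1 h2)
  exact hle (hres ▸ mem_top g)

/-- The main computation: no such element exists. -/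
theorem no_element [Finite G] (hres : Cfsg.pResidual 2 G = ⊤) {H E : Subgroup G} {z : G} (hS : Setting H E z)
    (μ : H →* ℤˣ) (h : G) (hh : h ∈ H) (hμ : lam μ h ≠ 1)
    (hbig : ∀ g : G, ∀ r, 2 ≤ r → r ∣ orderOf h → g⁻¹ * h ^ r * g ∈ H → lam μ (g⁻¹ * h ^ r * g) = 1)
    (hy : ∀ g : G, g⁻¹ * z * g ∈ H → g⁻¹ * h * g ∈ H → (∃ e ∈ E, g⁻¹ * e * g ∉ H) →
      ∃ y ∈ E, g⁻¹ * y * g ∉ H ∧ ∀ e ∈ E, g⁻¹ * (e⁻¹ * h * e) * g ∈ H →
        g⁻¹ * (e⁻¹ * (y⁻¹ * h * y) * e) * g ∈ H ∧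
          lam μ (g⁻¹ * (e⁻¹ * (y⁻¹ * h * y) * e) * g) = lam μ (g⁻¹ * (e⁻¹ * h * e) * g)) : False := by
  classical
  haveI : Fintype (G ⧸ H) := Fintype.ofFinite _
  have hzc : ∀ e ∈ E, e * z = z * e := fun e he => (hS.hH e).mp (hS.hEH he)
  let f : G ⧸ H → ℤˣ := fun q => Quotient.liftOn' q (fun g => lam μ (g⁻¹ * h * g)) fun a b hab => by
    rw [QuotientGroup.leftRel_apply] at hab
    rw [← lam_conj hab (a⁻¹ * h * a)]
    congr 1
    group
  have hf : ∀ g : G, f (g : G ⧸ H) = lam μ (g⁻¹ * h * g) := fun g => rfl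
  have hff : ∀ q, f q ≠ 1 → h • q = q := by
    intro q
    induction q using QuotientGroup.induction_on with
    | _ g =>
      intro hne
      rw [mk_fixed_iff]
      by_contra hc
      exact hne (lam_of_not_mem hc)
  set q1 : G ⧸ H := ((1 : G) : G ⧸ H)
  have hEq1 : ∀ e ∈ E, e • q1 = q1 := fun e he => by
    rw [mk_fixed_iff]; simpa using hS.hEH he
  -- only the base coset is fixed by `E`
  have honly : ∀ q : G ⧸ H, q ≠ q1 → ∃ e ∈ E, e • q ≠ q := by
    intro q hq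
    by_contra hcon
    push Not at hcon
    obtain ⟨g, rfl⟩ := QuotientGroup.mk_surjective q
    apply hq
    have hw : g * z * g⁻¹ ∈ Subgroup.centralizer (E : Set G) := by
      rw [mem_centralizer_iff]
      intro e he
      have := (hS.hH _).mp ((mk_fixed_iff e g).mp (hcon e he))
      calc e * (g * z * g⁻¹) = g * (g⁻¹ * e * g * z) * g⁻¹ := by group
        _ = g * (z * (g⁻¹ * e * g)) * g⁻¹ := by rw [this]
        _ = _ := by group
    have hwE := hS.self hw
    rcases hS.cen _ hwE (fun e he => (mem_centralizer_iff.mp hw e he).symm) with h1 | h1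
    · exact absurd (conj_eq_one_iff.mp h1) hS.z1
    · rw [QuotientGroup.eq, mul_one, inv_mem_iff, hS.hH]
      exact mul_inv_eq_iff_eq_mul.mp h1
  -- the translation attached to an orbit
  have hY : ∀ g : G, ∃ y ∈ E, ∀ q : G ⧸ H, q ≠ q1 → (∃ e ∈ E, e • (g : G ⧸ H) = q) → z • q = q →
      y • q ≠ q ∧ f (y • q) = f q := by
    intro g
    by_cases hg1 : (g : G ⧸ H) = q1
    · refine ⟨1, one_mem E, fun q hq hex => ?_⟩
      obtain ⟨e, he, rfl⟩ := hex
      rw [hg1, hEq1 e he] at hq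
      exact absurd rfl hq
    obtain ⟨e₀, he₀, hmove⟩ := honly _ hg1
    have hz_iff : ∀ e ∈ E, z • (e • (g : G ⧸ H)) = e • (g : G ⧸ H) ↔ z • (g : G ⧸ H) = (g : G ⧸ H) := by
      intro e he
      rw [smul_smul, ← hzc e he, ← smul_smul, smul_left_cancel_iff]
    by_cases hzg : z • (g : G ⧸ H) = (g : G ⧸ H)
    swap
    · refine ⟨1, one_mem E, fun q _ hex hzq => ?_⟩
      obtain ⟨e, he, rfl⟩ := hex
      exact absurd ((hz_iff e he).mp hzq) hzg
    have hzG := (mk_fixed_iff z g).mp hzg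
    -- moving is constant along the orbit
    have hmoves : ∀ y ∈ E, ∀ e ∈ E, y • (e • (g : G ⧸ H)) = e • (g : G ⧸ H) → y • (g : G ⧸ H) = (g : G ⧸ H) := by
      intro y hy e he heq
      rcases hS.comm y hy e he with hc | hc
      · rw [smul_smul, hc, ← smul_smul, smul_left_cancel_iff] at heq
        exact heq
      · rw [smul_smul, hc, ← smul_smul, ← smul_smul, hzg, smul_left_cancel_iff] at heq
        exact heq
    by_cases hex : ∃ e ∈ E, h • (e • (g : G ⧸ H)) = e • (g : G ⧸ H)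
    swap
    · refine ⟨e₀, he₀, fun q _ hq hzq => ?_⟩
      obtain ⟨e, he, rfl⟩ := hq
      refine ⟨fun heq => hmove (hmoves e₀ he₀ e he heq), ?_⟩
      have h1 : f (e • (g : G ⧸ H)) = 1 := by
        by_contra hne
        exact hex ⟨e, he, hff _ hne⟩
      have h2 : f (e₀ • e • (g : G ⧸ H)) = 1 := by
        by_contra hne
        exact hex ⟨e₀ * e, mul_mem he₀ he, by rw [← smul_smul]; exact hff _ hne⟩
      rw [h1, h2]
    obtain ⟨e₁, he₁, hfix⟩ := hex
    have hzG₁ : (e₁ * g)⁻¹ * z * (e₁ * g) ∈ H := (mk_fixed_iff z _).mp ((hz_iff e₁ he₁).mpr hzg)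
    have hhG₁ : (e₁ * g)⁻¹ * h * (e₁ * g) ∈ H := (mk_fixed_iff h _).mp hfix
    have hmv₁ : ∃ e ∈ E, (e₁ * g)⁻¹ * e * (e₁ * g) ∉ H :=
      ⟨e₀, he₀, fun hh => hmove (hmoves e₀ he₀ e₁ he₁ ((mk_fixed_iff e₀ _).mpr hh))⟩
    obtain ⟨y, hyE, hyH, hcond⟩ := hy (e₁ * g) hzG₁ hhG₁ hmv₁
    refine ⟨y, hyE, fun q _ hq hzq => ?_⟩
    obtain ⟨e, he, rfl⟩ := hq
    have hmv : ∀ d ∈ E, y • (d • (g : G ⧸ H)) ≠ d • (g : G ⧸ H) := by
      intro d hd heq
      apply hyH
      apply (mk_fixed_iff y _).mp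
      show y • (e₁ • (g : G ⧸ H)) = e₁ • (g : G ⧸ H)
      have hg' := hmoves y hyE d hd heq
      rcases hS.comm y hyE e₁ he₁ with hc | hc
      · rw [smul_smul, hc, ← smul_smul, hg']
      · rw [smul_smul, hc, ← smul_smul, ← smul_smul, hzg, hg']
    have hone : ∀ d ∈ E, h • (d • (g : G ⧸ H)) = d • (g : G ⧸ H) →
        f (y • (d • (g : G ⧸ H))) = f (d • (g : G ⧸ H)) := by
      intro d hd hdfix
      have h1 := (mk_fixed_iff h _).mp hdfix
      simp only [smul_eq_mul] at h1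
      obtain ⟨-, h2⟩ := hcond (d * e₁⁻¹) (mul_mem hd (inv_mem he₁)) (by
        convert h1 using 1; group)
      show lam μ ((y * (d * g))⁻¹ * h * (y * (d * g))) = lam μ ((d * g)⁻¹ * h * (d * g))
      convert h2 using 2 <;> group
    refine ⟨hmv e he, ?_⟩
    by_cases hfx : h • (e • (g : G ⧸ H)) = e • (g : G ⧸ H)
    · exact hone e he hfx
    by_cases hfy : h • (y • e • (g : G ⧸ H)) = y • e • (g : G ⧸ H)
    · have := hone (y * e) (mul_mem hyE he) (by rwa [← smul_smul])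
      rw [← smul_smul] at this
      have hyy : y • y • e • (g : G ⧸ H) = e • (g : G ⧸ H) := by
        rw [smul_smul y y]
        rcases hS.sq y hyE with h2 | h2 <;> rw [h2]
        · rw [one_smul]
        · exact hzq
      rw [hyy] at this
      exact this.symm
    · rw [show f (e • (g : G ⧸ H)) = 1 from by by_contra hne; exact hfx (hff _ hne),
        show f (y • e • (g : G ⧸ H)) = 1 from by by_contra hne; exact hfy (hff _ hne)]
  choose Y hYE hYp using hY
  let O : G ⧸ H → Quotient (orbitRel E (G ⧸ H)) := fun q => ⟦q⟧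
  let R : G ⧸ H → G := fun q => (O q).out.out
  have hRin : ∀ q, ∃ e ∈ E, e • ((R q : G) : G ⧸ H) = q := by
    intro q
    obtain ⟨⟨e, he⟩, hes⟩ := orbitRel_apply.mp (Quotient.mk_out q : orbitRel E (G ⧸ H) (O q).out q)
    have hR : ((R q : G) : G ⧸ H) = (O q).out := Quotient.out_eq _
    refine ⟨e⁻¹, inv_mem he, ?_⟩
    rw [hR, ← hes]
    exact inv_smul_smul e q
  have hOsmul : ∀ y ∈ E, ∀ q, O (y • q) = O q := fun y hy q =>
    Quotient.sound (orbitRel_apply.mpr ⟨⟨y, hy⟩, rfl⟩)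
  have hstab : ∀ q, q ≠ q1 → ∀ e ∈ E, e • q ≠ q1 := by
    intro q hq e he heq
    apply hq
    have := congrArg (e⁻¹ • ·) heq
    simp only [inv_smul_smul, hEq1 _ (inv_mem he)] at this
    exact this
  let σ : G ⧸ H → G ⧸ H := fun q => if z • q = q then Y (R q) • q else z • q
  have hprod : ∏ x ∈ Finset.univ.erase q1, f x = 1 := by
    refine Finset.prod_involution (fun q _ => σ q) ?_ ?_ ?_ ?_
    · intro q hq
      have hq1 := (Finset.mem_erase.mp hq).1
      simp only [σ]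
      split_ifs with hzq
      · rw [(hYp _ q hq1 (hRin q) hzq).2, ← pow_two, Int.units_sq]
      · have : f (z • q) = f q := by
          induction q using QuotientGroup.induction_on with
          | _ g =>
            show lam μ ((z * g)⁻¹ * h * (z * g)) = lam μ (g⁻¹ * h * g)
            congr 1
            calc (z * g)⁻¹ * h * (z * g) = g⁻¹ * z⁻¹ * (h * z) * g := by group
              _ = g⁻¹ * z⁻¹ * (z * h) * g := by rw [(hS.hH h).mp hh]
              _ = _ := by group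
        rw [this, ← pow_two, Int.units_sq]
    · intro q hq _
      have hq1 := (Finset.mem_erase.mp hq).1
      simp only [σ]
      split_ifs with hzq
      · exact (hYp _ q hq1 (hRin q) hzq).1
      · exact hzq
    · intro q hq
      have hq1 := (Finset.mem_erase.mp hq).1
      refine Finset.mem_erase.mpr ⟨?_, Finset.mem_univ _⟩
      simp only [σ]
      split_ifs with hzq
      · exact hstab q hq1 _ (hYE _)
      · exact hstab q hq1 z hS.zE
    · intro q hq
      simp only [σ]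
      by_cases hzq : z • q = q
      · rw [if_pos hzq]
        have hz' : z • (Y (R q) • q) = Y (R q) • q := by
          rw [smul_smul, ← hzc _ (hYE _), ← smul_smul, hzq]
        have hRy : R (Y (R q) • q) = R q := by simp only [R]; rw [hOsmul _ (hYE _)]
        rw [if_pos hz', hRy, smul_smul]
        rcases hS.sq _ (hYE (R q)) with h2 | h2 <;> rw [h2]
        · rw [one_smul]
        · exact hzq
      · rw [if_neg hzq]
        have hz' : ¬ z • (z • q) = z • q := fun e => hzq (smul_left_cancel z e)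
        rw [if_neg hz', smul_smul, hS.z2, one_smul]
  have h1 := transfer_eq_prod_fixed μ h f hf hbig
  rw [hom_eq_one hres, ← Finset.mul_prod_erase Finset.univ f (Finset.mem_univ q1), hprod, mul_one] at h1
  apply hμ
  rw [show f q1 = lam μ (1⁻¹ * h * 1) from rfl, inv_one, one_mul, mul_one] at h1
  exact h1.symm

/-- `h⁻¹ y⁻¹ h y`. -/
def eps (h y : G) : G := h⁻¹ * y⁻¹ * h * y

/-- The translation needed for an element `h` with killed proper powers. -/
theorem exists_translation [Finite G] {H E : Subgroup G} {z : G} (hS : Setting H E z) (hB : Big E z)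
    (μ : H →* ℤˣ) (hsq : ∀ a ∈ H, a * a = 1 → lam μ a = 1)
    (hder : ∀ a b u, a ∈ H → b ∈ H → u ∈ H → a * b = b * a * (u * u) → lam μ u = 1)
    (h : G) (hh : h ∈ H) (k : ℕ) (hord : orderOf h = 2 ^ k)
    (hsmall : ∀ g : G, g⁻¹ * h ^ 2 * g ∈ H → lam μ (g⁻¹ * h ^ 2 * g) = 1)
    (g : G) (hgz : g⁻¹ * z * g ∈ H) (hgh : g⁻¹ * h * g ∈ H) (hmv : ∃ e ∈ E, g⁻¹ * e * g ∉ H) :
    ∃ y ∈ E, g⁻¹ * y * g ∉ H ∧ ∀ e ∈ E, g⁻¹ * (e⁻¹ * h * e) * g ∈ H →
        g⁻¹ * (e⁻¹ * (y⁻¹ * h * y) * e) * g ∈ H ∧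
          lam μ (g⁻¹ * (e⁻¹ * (y⁻¹ * h * y) * e) * g) = lam μ (g⁻¹ * (e⁻¹ * h * e) * g) := by
  haveI : Fact (Nat.Prime 2) := ⟨Nat.prime_two⟩
  have hzc : ∀ e ∈ E, e * z = z * e := fun e he => (hS.hH e).mp (hS.hEH he)
  let c : G → G := fun a => g⁻¹ * a * g
  have cmul : ∀ a b, c (a * b) = c a * c b := fun a b => by simp only [c]; group
  have cinv : ∀ a, c a⁻¹ = (c a)⁻¹ := fun a => by simp only [c]; group
  let D : Subgroup G :=
    { carrier := {e | e ∈ E ∧ c e ∈ H}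
      one_mem' := ⟨one_mem E, by simp [c]⟩
      mul_mem' := fun ha hb => ⟨mul_mem ha.1 hb.1, by rw [cmul]; exact mul_mem ha.2 hb.2⟩
      inv_mem' := fun ha => ⟨inv_mem ha.1, by rw [cinv]; exact inv_mem ha.2⟩ }
  have hzD : z ∈ D := ⟨hS.zE, hgz⟩
  let ψ : G → ℤˣ := fun a => lam μ (c a)
  have ψmul : ∀ a b, c a ∈ H → c b ∈ H → ψ (a * b) = ψ a * ψ b := fun a b ha hb => by
    simp only [ψ, cmul]; exact lam_mul ha hb
  have ψz : ψ z = 1 := hsq _ hgz (by rw [← cmul, hS.z2]; simp [c])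
  have ψsq : ∀ a ∈ E, ψ (a * a) = 1 := by
    intro a ha
    rcases hS.sq a ha with h2 | h2 <;> rw [h2]
    · simp only [ψ, c, mul_one, inv_mul_cancel]; rw [lam_of_mem (one_mem H)]; exact map_one μ
    · exact ψz
  have heps : ∀ y ∈ E, eps h y ∈ E := by
    intro y hy
    have := hS.hnorm h⁻¹ (inv_mem hh) y⁻¹ (inv_mem hy)
    rw [inv_inv] at this
    exact mul_mem this hy
  -- conjugation inside `E` changes only by `z`
  have hconjE : ∀ y ∈ E, ∀ w ∈ E, ∃ d, (d = 1 ∨ d = z) ∧ y⁻¹ * w * y = w * d := by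
    intro y hy w hw
    rcases hS.comm w hw y hy with h2 | h2
    · exact ⟨1, Or.inl rfl, by rw [mul_assoc, h2, inv_mul_cancel_left, mul_one]⟩
    · exact ⟨z, Or.inr rfl, by rw [mul_assoc, h2, mul_assoc y w, inv_mul_cancel_left]⟩
  have hdD : ∀ d, (d = 1 ∨ d = z) → d ∈ D ∧ ψ d = 1 := by
    rintro d (rfl | rfl)
    · exact ⟨one_mem D, by simp only [ψ, c, mul_one, inv_mul_cancel]; rw [lam_of_mem (one_mem H)]; exact map_one μ⟩
    · exact ⟨hzD, ψz⟩
  have hepsmul : ∀ a ∈ E, ∀ b ∈ E, ∃ d, (d = 1 ∨ d = z) ∧ eps h (a * b) = eps h b * (eps h a * d) := by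
    intro a ha b hb
    obtain ⟨d, hd, e⟩ := hconjE b hb (eps h a) (heps a ha)
    exact ⟨d, hd, by rw [← e]; simp only [eps]; group⟩
  have hDH : ∀ a ∈ D, c a ∈ H := fun a ha => ha.2
  -- the preimage of the fixed points
  let N : Subgroup G :=
    { carrier := {y | y ∈ E ∧ eps h y ∈ D}
      one_mem' := ⟨one_mem E, by simp [eps]⟩
      mul_mem' := fun {a b} ha hb => ⟨mul_mem ha.1 hb.1, by
        obtain ⟨d, hd, e⟩ := hepsmul a ha.1 b hb.1
        rw [e]
        exact mul_mem hb.2 (mul_mem ha.2 (hdD d hd).1)⟩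
      inv_mem' := fun {a} ha => ⟨inv_mem ha.1, by
        obtain ⟨d, hd, e⟩ := hepsmul a ha.1 a⁻¹ (inv_mem ha.1)
        rw [mul_inv_cancel, show eps h (1 : G) = 1 by simp [eps]] at e
        rw [eq_inv_of_mul_eq_one_left e.symm]
        exact inv_mem (mul_mem ha.2 (hdD d hd).1)⟩ }
  have hDN : D ≤ N := by
    intro a ha
    refine ⟨ha.1, heps a ha.1, ?_⟩
    simp only [eps, cmul, cinv]
    exact mul_mem (mul_mem (mul_mem (inv_mem hgh) (inv_mem ha.2)) hgh) ha.2
  let φ : G → ℤˣ := fun y => ψ (eps h y)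
  have φmul : ∀ a ∈ N, ∀ b ∈ N, φ (a * b) = φ a * φ b := by
    intro a ha b hb
    obtain ⟨d, hd, e⟩ := hepsmul a ha.1 b hb.1
    simp only [φ]
    rw [e, ψmul _ _ (hDH _ hb.2) (hDH _ (mul_mem ha.2 (hdD d hd).1)),
      ψmul _ _ (hDH _ ha.2) (hDH _ (hdD d hd).1), (hdD d hd).2, mul_one, mul_comm]
  suffices hkey : ∃ y ∈ N, y ∉ D ∧ φ y = 1 by
    obtain ⟨y, hyN, hyD, hφy⟩ := hkey
    refine ⟨y, hyN.1, fun hh' => hyD ⟨hyN.1, hh'⟩, fun e he hef => ?_⟩
    have e1 : e⁻¹ * h * e = h * eps h e := by simp only [eps]; group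
    rw [e1] at hef ⊢
    have heN : e ∈ N := by
      refine ⟨he, heps e he, ?_⟩
      have := mul_mem (inv_mem hgh) hef
      show c (eps h e) ∈ H
      simp only [c] at this ⊢
      convert this using 1; group
    have hye : y * e ∈ N := mul_mem hyN heN
    have e2 : e⁻¹ * (y⁻¹ * h * y) * e = h * eps h (y * e) := by simp only [eps]; group
    rw [e2]
    refine ⟨?_, ?_⟩
    · show c (h * eps h (y * e)) ∈ H
      rw [cmul]; exact mul_mem hgh (hDH _ hye.2)
    · show ψ (h * eps h (y * e)) = ψ (h * eps h e)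
      rw [ψmul _ _ hgh (hDH _ hye.2), ψmul _ _ hgh (hDH _ heN.2)]
      show _ * φ (y * e) = _
      rw [φmul y hyN e heN, hφy, one_mul]
  by_cases hpair : ∃ a ∈ N, ∃ b ∈ N, a ∉ D ∧ b ∉ D ∧ a * b ∉ D
  · obtain ⟨a, ha, b, hb, haD, hbD, habD⟩ := hpair
    rcases Int.units_eq_one_or (φ a) with h1 | h1
    · exact ⟨a, ha, haD, h1⟩
    rcases Int.units_eq_one_or (φ b) with h2 | h2
    · exact ⟨b, hb, hbD, h2⟩
    exact ⟨a * b, mul_mem ha hb, habD, by rw [φmul a ha b hb, h1, h2]; rfl⟩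
  push Not at hpair
  by_cases hNE : ∀ y ∈ E, y ∈ N
  · -- index two
    obtain ⟨a, ha, b, hb, hab⟩ := hB D (fun x hx => hx.1) (fun a ha b hb haD hbD =>
      hpair a (hNE a ha) b (hNE b hb) haD hbD)
    have hψD : ∀ w ∈ D, ψ w = 1 := by
      intro w hw
      rcases hS.sq w hw.1 with h2 | h2
      · exact hsq _ hw.2 (by rw [← cmul, h2]; simp [c])
      · refine hder (c a) (c b) (c w) ha.2 hb.2 hw.2 ?_
        rw [← cmul, ← cmul, ← cmul, ← cmul, h2, ← hab]
    obtain ⟨y, hy, hyH⟩ := hmv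
    exact ⟨y, hNE y hy, fun h' => hyH h'.2, hψD _ (hNE y hy).2⟩
  push Not at hNE
  obtain ⟨v, hvE, hvN⟩ := hNE
  -- an element moved into `N` by `h`
  obtain ⟨y2, hy2E, hy2N, hy2eps⟩ : ∃ y ∈ E, y ∉ N ∧ eps h y ∈ N := by
    have hP : IsPGroup 2 ↥(E ⊔ zpowers h : Subgroup G) := by
      have hh2 : IsPGroup 2 (zpowers h) := IsPGroup.iff_card.mpr ⟨k, by rw [Nat.card_zpowers, hord]⟩
      exact hS.isP.to_sup_of_normal_left' hh2 (zpowers_le.mpr (Subgroup.mem_normalizer_fintype fun e he =>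
        hS.hnorm h hh e he))
    set P := E ⊔ zpowers h
    have hNh : ∀ y ∈ N, h * y * h⁻¹ ∈ N := by
      intro y hy
      refine ⟨hS.hnorm h hh y hy.1, heps _ (hS.hnorm h hh y hy.1), ?_⟩
      have e : eps h (h * y * h⁻¹) = h * eps h y * h⁻¹ := by simp only [eps]; group
      rw [e, cmul, cmul, cinv]
      exact mul_mem (mul_mem hgh hy.2.2) (inv_mem hgh)
    set R := N ⊔ zpowers h
    have hnorm : zpowers h ≤ Subgroup.normalizer (N : Set G) :=
      zpowers_le.mpr (Subgroup.mem_normalizer_fintype hNh)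
    have hRmem : ∀ x ∈ R, ∃ y ∈ N, ∃ i : ℤ, x = y * h ^ i := by
      intro x hx
      rw [← SetLike.mem_coe, coe_mul_of_right_le_normalizer_left N (zpowers h) hnorm] at hx
      obtain ⟨y, hy, w, hw, rfl⟩ := hx
      obtain ⟨i, rfl⟩ := mem_zpowers_iff.mp hw
      exact ⟨y, hy, i, rfl⟩
    have hRP : R ≤ P := sup_le_sup_right (fun x hx => hx.1) _
    have hNR : ∀ x ∈ R, x ∈ E → x ∈ N := by
      intro x hx hxE
      obtain ⟨y, hy, i, rfl⟩ := hRmem x hx
      refine mul_mem hy (hDN ⟨(E.mul_mem_cancel_left hy.1).mp hxE, ?_⟩)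
      have e : c (h ^ i) = c h ^ i := by
        have := conj_zpow (a := g⁻¹) (b := h) (i := i)
        simp only [inv_inv] at this
        exact this.symm
      rw [e]
      exact zpow_mem hgh i
    have hPne : R.subgroupOf P < ⊤ := lt_top_iff_ne_top.mpr fun htop =>
      hvN (hNR v (Subgroup.subgroupOf_eq_top.mp htop (mem_sup_left hvE)) hvE)
    haveI := hP.isNilpotent
    obtain ⟨⟨x, hxP⟩, hxn, hxR⟩ := SetLike.exists_of_lt
      (Group.normalizerCondition_of_isNilpotent (G := P) _ hPne)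
    rw [← SetLike.mem_coe, coe_mul_of_right_le_normalizer_left E (zpowers h)
      (zpowers_le.mpr (Subgroup.mem_normalizer_fintype fun e he => hS.hnorm h hh e he))] at hxP
    have hxR' : x ∉ R := hxR
    obtain ⟨y, hy, w, hw, rfl⟩ := hxP
    refine ⟨y, hy, fun hyN => hxR' (mul_mem (mem_sup_left hyN) (mem_sup_right hw)), hNR _ ?_ (heps y hy)⟩
    have hwR : w ∈ R := mem_sup_right hw
    have hhR : h ∈ R := mem_sup_right (mem_zpowers h)
    have hcR : (y * w) * h * (y * w)⁻¹ ∈ R :=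
      (mem_normalizer_iff.mp hxn ⟨h, mem_sup_right (mem_zpowers h)⟩).mp hhR
    obtain ⟨i, rfl⟩ := mem_zpowers_iff.mp hw
    have e : (y * h ^ i) * h * (y * h ^ i)⁻¹ = y * h * y⁻¹ := by group
    rw [e] at hcR
    -- `y` normalises `R`, so does `y⁻¹`
    have hyn : ∀ r ∈ R, y⁻¹ * r * y ∈ R := by
      intro r hr
      have hxn' := inv_mem hxn
      have := (mem_normalizer_iff.mp hxn' ⟨r, hRP hr⟩).mp hr
      have h3 : (y * h ^ i)⁻¹ * r * ((y * h ^ i)⁻¹)⁻¹ ∈ R := this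
      have h4 := mul_mem (mul_mem hwR h3) (inv_mem hwR)
      convert h4 using 1; group
    have h6 := hyn h hhR
    have := mul_mem (inv_mem hhR) h6
    simpa [eps, mul_assoc] using this
  set y1 := eps h y2 with hy1
  have hy1D : y1 ∉ D := fun h' => hy2N ⟨hy2E, h'⟩
  refine ⟨y1, hy2eps, hy1D, ?_⟩
  have hy1E := hy2eps.1
  have hε1 := hy2eps.2
  have hc1 : y2⁻¹ * h ^ 2 * y2 = h ^ 2 * (y1 * (eps h y1)⁻¹ * y1) := by
    simp only [hy1, eps, pow_two]; group
  obtain ⟨d, hd, he⟩ := hconjE y1 hy1E (eps h y1)⁻¹ (inv_mem hε1.1)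
  have hc2 : y1 * (eps h y1)⁻¹ * y1 = (y1 * y1) * ((eps h y1)⁻¹ * d) := by rw [← he]; group
  have hh2 : c (h ^ 2) ∈ H := by rw [pow_two, cmul]; exact mul_mem hgh hgh
  have hy11 : c (y1 * y1) ∈ H ∧ ψ (y1 * y1) = 1 := by
    refine ⟨?_, ψsq y1 hy1E⟩
    rcases hS.sq y1 hy1E with h2 | h2 <;> rw [h2]
    · simp [c]
    · exact hgz
  have hrest : c ((y1 * y1) * ((eps h y1)⁻¹ * d)) ∈ H := by
    rw [cmul]
    exact mul_mem hy11.1 (hDH _ (mul_mem (inv_mem hε1) (hdD d hd).1))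
  have hLHS : c (y2⁻¹ * h ^ 2 * y2) ∈ H := by
    rw [hc1, hc2, cmul]; exact mul_mem hh2 hrest
  have hs1 : ψ (y2⁻¹ * h ^ 2 * y2) = 1 := by
    have e : c (y2⁻¹ * h ^ 2 * y2) = (y2 * g)⁻¹ * h ^ 2 * (y2 * g) := by simp only [c]; group
    show lam μ (c (y2⁻¹ * h ^ 2 * y2)) = 1
    rw [e] at hLHS ⊢
    exact hsmall _ hLHS
  have hs2 : ψ (h ^ 2) = 1 := hsmall g hh2
  rw [hc1, hc2, ψmul _ _ hh2 hrest, hs2, one_mul,
    ψmul _ _ hy11.1 (hDH _ (mul_mem (inv_mem hε1) (hdD d hd).1)), hy11.2, one_mul,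
    ψmul _ _ (hDH _ (inv_mem hε1)) (hDH _ (hdD d hd).1), (hdD d hd).2, mul_one] at hs1
  show ψ (eps h y1) = 1
  simp only [ψ, cinv] at hs1 ⊢
  rw [lam_inv (hDH _ hε1)] at hs1
  exact hs1

end Cfsg.Agent.LargeExtraspecial.TransferFixed
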