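import Cfsg.Agent.Lib.LargeExtraspecial.AffineInst

/-
`Affine.Setup` from an elementary abelian U and a complement M inducing all of Aut U.
-/

set_option autoImplicit false

namespace Cfsg.Agent.LargeExtraspecial.Affine

theorem exists_setup_of_split {G : Type*} [Group G] [Finite G] {n : ℕ} (U M : Subgroup G)
    (hU : Cfsg.IsElementaryAbelian 2 U) (hUcard : Nat.card U = 2 ^ (n + 1))
    (hMU : ∀ a ∈ M, ∀ u ∈ U, a * u * a⁻¹ ∈ U) (hUM : U ⊓ M = ⊥)
    (hfaith : ∀ a ∈ M, (∀ u ∈ U, a * u * a⁻¹ = u) → a = 1)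
    (hMcard : Nat.card (AutX n) ≤ Nat.card M) {z : G} (hzU : z ∈ U) (hz1 : z ≠ 1)
    (hcov : ∀ g : G, g * z = z * g → ∃ u ∈ U, ∃ a ∈ M, g = u * a) :
    ∃ (p : X n → G) (m : AutX n →* G), Setup p m ∧ p (e n) = z := by
  haveI : IsMulCommutative U := hU.1
  letI : CommGroup U := { (inferInstance : Group U) with mul_comm := mul_comm' }
  letI : Module (ZMod 2) (Additive U) := AddCommGroup.zmodModule (n := 2) fun x => by
    apply Additive.toMul.injective
    apply Subtype.ext
    simpa using hU.2 _ x.toMul.2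
  have hrank : Module.finrank (ZMod 2) (Additive U) = n + 1 := by
    have h := Module.natCard_eq_pow_finrank (K := ZMod 2) (V := Additive U)
    rw [Nat.card_congr Additive.toMul, hUcard, Nat.card_zmod] at h
    exact (Nat.pow_right_injective le_rfl h).symm
  obtain ⟨L, hLe⟩ : ∃ L : X n ≃ₗ[ZMod 2] Additive U, L (e n) = Additive.ofMul (⟨z, hzU⟩ : U) := by
    let L0 : V (n + 1) ≃ₗ[ZMod 2] Additive U :=
      LinearEquiv.ofFinrankEq _ _ (by rw [hrank, Module.finrank_pi, Fintype.card_fin])
    let c : X n ≃ₗ[ZMod 2] V (n + 1) := Fin.consLinearEquiv (ZMod 2) fun _ : Fin (n + 1) => ZMod 2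
    obtain ⟨g, hg⟩ := exists_map_eq
      (v := c (e n)) (w := L0.symm (Additive.ofMul (⟨z, hzU⟩ : U)))
      (fun h => by
        have := congrArg Prod.fst (c.injective (h.trans (map_zero c).symm))
        simp at this)
      (fun h => by
        have := congrArg L0 h
        rw [L0.apply_symm_apply, map_zero] at this
        exact hz1 (congrArg Subtype.val (congrArg Additive.toMul this)))
    exact ⟨(c.trans g).trans L0, by
      show L0 (g (c _)) = _
      rw [hg, L0.apply_symm_apply]⟩
  let p : X n → G := fun x => ((L x).toMul : U)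
  have hp_add : ∀ x y, p (x + y) = p x * p y := fun x y => by simp [p]
  have hp_inj : Function.Injective p := fun x y h =>
    L.injective (Additive.toMul.injective (Subtype.ext h))
  have hp_mem : ∀ x, p x ∈ U := fun x => ((L x).toMul : U).2
  have hp_surj : ∀ u ∈ U, ∃ x, p x = u := fun u hu =>
    ⟨L.symm (Additive.ofMul ⟨u, hu⟩), by simp [p]⟩
  have hst : ∀ (a : M) (x : X n), ∃ y, p y = (a : G) * p x * (a : G)⁻¹ := fun a x =>
    hp_surj _ (hMU a a.2 _ (hp_mem x))
  choose f hf using hst
  have hf1 : ∀ a : M, Function.Injective (f a) := fun a x y h => hp_inj (by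
    have := congrArg p h
    rw [hf, hf] at this
    simpa using this)
  let s : M → AutX n := fun a => LinearEquiv.ofBijective
    ((AddMonoidHom.mk' (f a) fun x y => hp_inj (by rw [hp_add, hf, hf, hf, hp_add]; group)).toZModLinearMap 2)
    ⟨hf1 a, Finite.injective_iff_surjective.mp (hf1 a)⟩
  have hs : ∀ a x, p (s a x) = (a : G) * p x * (a : G)⁻¹ := fun a x => hf a x
  let ψ : M →* AutX n :=
    { toFun := s
      map_one' := LinearEquiv.ext fun x => hp_inj (by
        rw [hs, OneMemClass.coe_one, one_mul, inv_one, mul_one]; rfl)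
      map_mul' := fun a b => LinearEquiv.ext fun x => hp_inj (by
        rw [LinearEquiv.mul_apply, hs, hs, hs, Subgroup.coe_mul]; group) }
  have hψ : Function.Injective ψ := by
    rw [injective_iff_map_eq_one]
    intro a ha
    refine Subtype.ext (hfaith a a.2 fun u hu => ?_)
    obtain ⟨x, rfl⟩ := hp_surj u hu
    rw [← hs, show s a = 1 from ha]; rfl
  haveI : Finite (AutX n) := Finite.of_injective _ DFunLike.coe_injective
  let e' := MulEquiv.ofBijective ψ (hψ.bijective_of_nat_card_le hMcard)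
  have hm : ∀ t x, p (t x) = (e'.symm t : G) * p x * (e'.symm t : G)⁻¹ := fun t x => by
    rw [← hs, show s (e'.symm t) = t from e'.apply_symm_apply t]
  refine ⟨p, M.subtype.comp e'.symm.toMonoidHom, ⟨hp_add, hp_inj, ?_, fun t x => (hm t x).symm,
    fun t x h => ?_, fun g hg => ?_⟩, by simp [p, hLe]⟩
  · exact M.subtype_injective.comp e'.symm.injective
  · have h' : p x ∈ U ⊓ M := ⟨hp_mem x, h ▸ (e'.symm t).2⟩
    rw [hUM, Subgroup.mem_bot] at h'
    apply hp_inj
    rw [h']
    simp [p]
  · have hg' : g * z = z * g := by simpa [p, hLe] using hg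
    obtain ⟨u, hu, a, ha, rfl⟩ := hcov g hg'
    obtain ⟨x, rfl⟩ := hp_surj u hu
    refine ⟨x, e' ⟨a, ha⟩, ?_⟩
    show p x * a = p x * (e'.symm (e' ⟨a, ha⟩) : G)
    rw [e'.symm_apply_apply]

theorem natCard_autX (n : ℕ) :
    Nat.card (AutX n) = Nat.card (Matrix.GeneralLinearGroup (Fin (n + 1)) (ZMod 2)) := by
  let c : X n ≃ₗ[ZMod 2] V (n + 1) := Fin.consLinearEquiv (ZMod 2) fun _ : Fin (n + 1) => ZMod 2
  rw [Nat.card_congr (glEquiv (n + 1)).toEquiv]
  refine Nat.card_congr
    { toFun := fun t => c.symm.trans (t.trans c)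
      invFun := fun t => c.trans (t.trans c.symm)
      left_inv := fun t => LinearEquiv.ext fun x => by simp
      right_inv := fun t => LinearEquiv.ext fun x => by simp }

end Cfsg.Agent.LargeExtraspecial.Affine
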