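import Cfsg.Agent.Lib.LargeExtraspecial.Quotient

/-
The centralizer of a translation in an affine group over GF(2), embedded in a bigger group
containing the whole centralizer: `Affine.main`.
-/

set_option autoImplicit false

namespace Cfsg.Agent.LargeExtraspecial.Affine

open scoped commutatorElement

variable (n : ℕ)

abbrev V := Fin n → ZMod 2
abbrev X := ZMod 2 × (Fin n → ZMod 2)

/-- The distinguished vector. -/
abbrev e : X n := (1, 0)

/-- Automorphisms of the translations. -/
abbrev AutX := X n ≃ₗ[ZMod 2] X n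
/-- Automorphisms of `V`. -/
abbrev AutV := V n ≃ₗ[ZMod 2] V n

variable {n}

theorem two_cases (a : ZMod 2) : a = 0 ∨ a = 1 := by revert a; decide

def tauMap (c : V n) : AutX n where
  toFun x := (x.1 + dotProduct c x.2, x.2)
  map_smul' a x := by rcases two_cases a with h | h <;> simp [h]
  invFun x := (x.1 + dotProduct c x.2, x.2)
  left_inv x := by ext <;> simp [add_assoc, ZModModule.add_self]
  right_inv x := by ext <;> simp [add_assoc, ZModModule.add_self]
  map_add' x y := by ext <;> simp [dotProduct_add, add_assoc, add_left_comm]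

/-- The automorphism fixing `e` induced by an automorphism of `V`. -/
def lift : AutV n →* AutX n where
  toFun g := (LinearEquiv.refl (ZMod 2) (ZMod 2)).prodCongr g
  map_one' := rfl
  map_mul' _ _ := rfl

theorem lift_apply (g : AutV n) (x : X n) : lift g x = (x.1, g x.2) := rfl

theorem tau_mul (c d : V n) : (tauMap c : AutX n) * tauMap d = tauMap (c + d) := by
  refine LinearEquiv.ext fun x => ?_
  show tauMap c (tauMap d x) = tauMap (c + d) x
  ext <;> simp [tauMap, add_dotProduct, add_assoc, add_left_comm, add_comm]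

theorem tau_zero : (tauMap 0 : AutX n) = 1 := by
  refine LinearEquiv.ext fun x => ?_
  show tauMap 0 x = x
  ext <;> simp [tauMap]

theorem exists_dot (f : V n →+ ZMod 2) : ∃ c : V n, ∀ v, f v = dotProduct c v := by
  refine ⟨fun j => f (Pi.single j 1), fun v => ?_⟩
  conv_lhs => rw [← Finset.univ_sum_single v]
  rw [map_sum]
  refine Finset.sum_congr rfl fun j _ => ?_
  rcases two_cases (v j) with h | h <;> simp [h]

/-- An automorphism fixing `e` is a transvection times a lift. -/
theorem decomp (s : AutX n) (hs : s (e n) = e n) :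
    ∃ (c : V n) (g : AutV n), s = tauMap c * lift g := by
  have hsplit : ∀ x : X n, s x = (x.1 + (s (0, x.2)).1, (s (0, x.2)).2) := by
    intro x
    have h1 : x = (x.1, 0) + (0, x.2) := by ext <;> simp
    have h2 : s (x.1, 0) = (x.1, 0) := by
      rcases two_cases x.1 with h | h <;> rw [h]
      · exact map_zero s
      · exact hs
    conv_lhs => rw [h1, map_add, h2]
    ext <;> simp
  let g0 : V n →+ V n :=
    { toFun := fun v => (s (0, v)).2
      map_zero' := by show (s 0).2 = 0; rw [map_zero]; rfl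
      map_add' := fun v w => by
        show (s (0, v + w)).2 = _
        rw [show ((0 : ZMod 2), v + w) = (0, v) + (0, w) by simp, map_add]; rfl }
  have hinj : Function.Injective g0 := by
    rw [injective_iff_map_eq_zero]
    intro v hv
    have : s (0, v) = s ((s (0, v)).1, 0) := by
      conv_rhs => rw [hsplit]
      simp [show (s (0, 0)) = 0 from map_zero s]
      exact Prod.ext (by simp) hv
    exact congrArg Prod.snd (s.injective this)
  let g : AutV n := LinearEquiv.ofBijective (g0.toZModLinearMap 2) ⟨hinj, Finite.injective_iff_surjective.mp hinj⟩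
  let f : V n →+ ZMod 2 :=
    { toFun := fun v => (s (0, g.symm v)).1
      map_zero' := by simp [show (s (0, 0)) = 0 from map_zero s]
      map_add' := fun v w => by
        rw [map_add, show ((0 : ZMod 2), g.symm v + g.symm w) = (0, g.symm v) + (0, g.symm w) by simp,
          map_add]
        rfl }
  obtain ⟨c, hc⟩ := exists_dot f
  refine ⟨c, g, LinearEquiv.ext fun x => ?_⟩
  show s x = tauMap c (lift g x)
  rw [hsplit]
  refine Prod.ext ?_ rfl
  show _ = x.1 + dotProduct c (g x.2)
  rw [← hc]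
  show _ = x.1 + (s (0, g.symm (g x.2))).1
  rw [g.symm_apply_apply]

theorem exists_map_eq {v w : V n} (hv : v ≠ 0) (hw : w ≠ 0) : ∃ g : AutV n, g v = w := by
  obtain ⟨i, hi⟩ := Function.ne_iff.mp hv
  obtain ⟨j, hj⟩ := Function.ne_iff.mp hw
  have hi' : v i = 1 := (two_cases (v i)).resolve_left hi
  have hj' : w j = 1 := (two_cases (w j)).resolve_left hj
  obtain ⟨f, hfv, hfw⟩ : ∃ f : V n →+ ZMod 2, f v = 1 ∧ f w = 1 := by
    rcases two_cases (w i) with h | h
    · rcases two_cases (v j) with h' | h'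
      · exact ⟨Pi.evalAddMonoidHom (fun _ => ZMod 2) i + Pi.evalAddMonoidHom (fun _ => ZMod 2) j, by show v i + v j = 1; rw [hi', h']; rfl, by show w i + w j = 1; rw [h, hj']; rfl⟩
      · exact ⟨Pi.evalAddMonoidHom _ j, by simp [h'], by simp [hj']⟩
    · exact ⟨Pi.evalAddMonoidHom _ i, by simp [hi'], by simp [h]⟩
  let h0 : V n →+ V n :=
    { toFun := fun x => x + f x • (w + v)
      map_zero' := by simp
      map_add' := fun x y => by simp [add_smul, add_assoc, add_left_comm] }
  have hinv : ∀ x, h0 (h0 x) = x := by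
    intro x
    show (x + f x • (w + v)) + f (x + f x • (w + v)) • (w + v) = x
    have : f (x + f x • (w + v)) = f x := by
      rw [map_add, ZMod.map_smul, map_add, hfv, hfw, ZModModule.add_self, smul_zero, add_zero]
    rw [this, add_assoc, ZModModule.add_self, add_zero]
  refine ⟨{ h0.toZModLinearMap 2 with invFun := h0, left_inv := hinv, right_inv := hinv }, ?_⟩
  show v + f v • (w + v) = w
  rw [hfv, one_smul, add_left_comm, ZModModule.add_self, add_zero]

/-- A normal 2-subgroup of `Aut V` is trivial. -/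
theorem normal_two_eq_bot (N : Subgroup (AutV n)) [N.Normal] (hN : IsPGroup 2 N) : N = ⊥ := by
  haveI : Fact (Nat.Prime 2) := ⟨Nat.prime_two⟩
  rw [Subgroup.eq_bot_iff_forall]
  intro a ha
  refine LinearEquiv.ext fun v => ?_
  show a v = v
  by_cases hv : v = 0
  · rw [hv, map_zero]
  have hdvd : 2 ∣ Nat.card (V n) := by
    obtain ⟨i, -⟩ := Function.ne_iff.mp hv
    rw [Nat.card_eq_fintype_card, Fintype.card_fun, ZMod.card, Fintype.card_fin]
    exact dvd_pow_self 2 (by have := i.isLt; omega)
  obtain ⟨w, hw, hw0⟩ := hN.exists_fixed_point_of_prime_dvd_card_of_fixed_point (V n) hdvd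
    (a := 0) (fun g => map_zero (g : AutV n))
  obtain ⟨g, rfl⟩ := exists_map_eq (Ne.symm hw0) hv
  have := hw ⟨g⁻¹ * a * g, by simpa using (inferInstance : N.Normal).conj_mem a ha g⁻¹⟩
  have h' : g.symm (a (g w)) = w := this
  simpa using congrArg g h'

variable {G : Type*} [Group G] (p : X n → G) (m : AutX n →* G)

/-- An embedded copy of the affine group containing the centralizer of a translation. -/
structure Setup : Prop where
  p_add : ∀ x y, p (x + y) = p x * p y
  p_inj : Function.Injective p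
  m_inj : Function.Injective m
  conj : ∀ s x, m s * p x * (m s)⁻¹ = p (s x)
  disj : ∀ s x, m s = p x → x = 0
  cover : ∀ g : G, g * p (e n) = p (e n) * g → ∃ x s, g = p x * m s

/-- The elements of `Q`. -/
def q (a : V n × X n) : G := p a.2 * m (tauMap a.1)

namespace Setup

variable {p m} (S : Setup p m)
include S

theorem p_zero : p 0 = 1 := by
  have := S.p_add 0 0
  rw [add_zero] at this
  exact left_eq_mul.mp this

theorem p_self (x : X n) : p x * p x = 1 := by rw [← S.p_add, ZModModule.add_self, S.p_zero]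

theorem p_comm (x y : X n) : p x * p y = p y * p x := by rw [← S.p_add, ← S.p_add, add_comm]

theorem move (s : AutX n) (x : X n) : m s * p x = p (s x) * m s := by
  rw [← S.conj]; group

theorem fix_e {s : AutX n} {x : X n}
    (h : p x * m s * p (e n) = p (e n) * (p x * m s)) : s (e n) = e n := by
  refine S.p_inj (mul_left_cancel (a := p x) (mul_right_cancel (b := m s) ?_))
  calc p x * p (s (e n)) * m s = p x * m s * p (e n) := by rw [mul_assoc, ← S.move, mul_assoc]
    _ = p (e n) * (p x * m s) := h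
    _ = p x * p (e n) * m s := by rw [← mul_assoc, S.p_comm]

theorem q_mul (a b : V n × X n) :
    q p m a * q p m b = q p m (a.1 + b.1, a.2 + b.2 + (dotProduct a.1 b.2.2, 0)) := by
  show p a.2 * m (tauMap a.1) * (p b.2 * m (tauMap b.1)) = _
  rw [mul_assoc (p a.2), ← mul_assoc (m (tauMap a.1)), S.move, mul_assoc (p _) (m _) (m _), ← map_mul,
    tau_mul, ← mul_assoc, ← S.p_add]
  show _ = p (a.2 + b.2 + (dotProduct a.1 b.2.2, 0)) * m (tauMap (a.1 + b.1))
  congr 2
  ext <;> simp [tauMap, add_assoc]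

theorem q_inj : Function.Injective (q p m) := by
  rintro ⟨c, x⟩ ⟨d, y⟩ h
  have h' : p x * m (tauMap c) = p y * m (tauMap d) := h
  have h1 : m (tauMap c * (tauMap d)⁻¹) = p (x + y) := by
    rw [map_mul, map_inv, S.p_add, mul_inv_eq_iff_eq_mul]
    calc m (tauMap c) = (p x * p x) * m (tauMap c) := by rw [S.p_self, one_mul]
      _ = p x * (p x * m (tauMap c)) := by group
      _ = p x * p y * m (tauMap d) := by rw [h', mul_assoc]
  have hxy : x = y :=
    (eq_neg_of_add_eq_zero_left (S.disj _ _ h1)).trans (ZModModule.neg_eq_self y)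
  subst hxy
  have h3 := S.m_inj (mul_left_cancel h')
  have hcd : c = d := funext fun j => by
    have := congrArg Prod.fst (DFunLike.congr_fun h3 ((0, Pi.single j 1) : X n))
    simpa [tauMap] using this
  rw [hcd]

/-- The subgroup `Q`. -/
def Qsub : Subgroup G where
  carrier := Set.range (q p m)
  one_mem' := ⟨0, by show p 0 * m (tauMap 0) = 1; rw [tau_zero, map_one, S.p_zero, mul_one]⟩
  mul_mem' := by
    rintro _ _ ⟨a, rfl⟩ ⟨b, rfl⟩
    exact ⟨_, (S.q_mul a b).symm⟩
  inv_mem' := by
    rintro _ ⟨a, rfl⟩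
    refine ⟨(a.1, a.2 + (dotProduct a.1 a.2.2, 0)), ?_⟩
    refine eq_inv_of_mul_eq_one_left ?_
    rw [S.q_mul]
    show p _ * m _ = 1
    simp only [ZModModule.add_self, tau_zero, map_one, mul_one]
    rw [← S.p_zero]
    congr 1
    rcases two_cases (dotProduct a.1 a.2.2) with h | h <;>
      ext <;> simp [h, add_assoc, add_left_comm, ZModModule.add_self]

theorem mem_Qsub {g : G} : g ∈ S.Qsub ↔ ∃ a, q p m a = g := Iff.rfl

theorem card_Qsub : Nat.card S.Qsub = 2 ^ (2 * n + 1) := by
  rw [show Nat.card S.Qsub = Nat.card (Set.range (q p m)) from rfl, Nat.card_range_of_injective S.q_inj]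
  simp [Nat.card_prod]
  ring

theorem isPGroup_Qsub : IsPGroup 2 S.Qsub := IsPGroup.of_card S.card_Qsub

/-- The translations. -/
def Usub : Subgroup G where
  carrier := Set.range p
  one_mem' := ⟨0, S.p_zero⟩
  mul_mem' := by rintro _ _ ⟨x, rfl⟩ ⟨y, rfl⟩; exact ⟨x + y, S.p_add x y⟩
  inv_mem' := by rintro _ ⟨x, rfl⟩; exact ⟨x, eq_inv_of_mul_eq_one_left (S.p_self x)⟩

theorem card_Usub : Nat.card S.Usub = 2 ^ (n + 1) := by
  rw [show Nat.card S.Usub = Nat.card (Set.range p) from rfl, Nat.card_range_of_injective S.p_inj]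
  simp [Nat.card_prod]
  ring

theorem p_mem (x : X n) : p x ∈ S.Qsub :=
  ⟨(0, x), by show p x * m (tauMap 0) = p x; rw [tau_zero, map_one, mul_one]⟩

theorem tau_mem (c : V n) : m (tauMap c) ∈ S.Qsub :=
  ⟨(c, 0), by show p 0 * m _ = _; rw [S.p_zero, one_mul]⟩

theorem data (hn : 1 ≤ n) : Data S.Qsub (p (e n)) := by
  refine ⟨S.p_mem _, fun h => by simpa using S.p_inj (h.trans S.p_zero.symm), S.p_self _, ?_, ?_, ?_, ?_⟩
  · rintro _ ⟨a, rfl⟩
    show p a.2 * m (tauMap a.1) * p (e n) = p (e n) * (p a.2 * m (tauMap a.1))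
    rw [mul_assoc, S.move, ← mul_assoc, S.p_comm, mul_assoc]
    congr 2
    ext <;> simp [tauMap]
  · intro g hg
    obtain ⟨x, s, rfl⟩ := S.cover g (hg _ (S.p_mem (e n))).symm
    have hs : s = 1 := LinearEquiv.ext fun y => by
      refine S.p_inj (mul_left_cancel (a := p x) (mul_right_cancel (b := m s) ?_))
      show p x * p (s y) * m s = p x * p y * m s
      rw [mul_assoc, ← S.move, ← mul_assoc, S.p_comm x y]
      exact (hg _ (S.p_mem y)).symm.trans (mul_assoc _ _ _).symm
    subst hs
    rw [map_one, mul_one] at hg ⊢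
    have hx2 : x.2 = 0 := by
      funext j
      have h := hg _ (S.tau_mem (Pi.single j 1))
      rw [S.move] at h
      have := congrArg Prod.fst (S.p_inj (mul_right_cancel h))
      simpa [tauMap] using this
    rcases two_cases x.1 with h | h
    · left; rw [show x = 0 from Prod.ext h hx2, S.p_zero]
    · right; rw [show x = e n from Prod.ext h hx2]
  · rintro _ ⟨a, rfl⟩ _ ⟨b, rfl⟩
    set d : ZMod 2 := dotProduct a.1 b.2.2 + dotProduct b.1 a.2.2 with hd
    have hz : ∀ t : ZMod 2, p (t, 0) = 1 ∨ p (t, 0) = p (e n) := fun t => by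
      rcases two_cases t with h | h
      · left; rw [h]; exact S.p_zero
      · right; rw [h]
    have hab : q p m a * q p m b = p (d, 0) * (q p m b * q p m a) := by
      rw [S.q_mul, S.q_mul]
      show p _ * m _ = p _ * (p _ * m _)
      rw [← mul_assoc, ← S.p_add, add_comm b.1 a.1]
      congr 2
      refine Prod.ext ?_ (by simp [add_comm])
      show a.2.1 + b.2.1 + dotProduct a.1 b.2.2 = d + (b.2.1 + a.2.1 + dotProduct b.1 a.2.2)
      rw [hd]
      generalize dotProduct a.1 b.2.2 = u
      generalize dotProduct b.1 a.2.2 = v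
      generalize a.2.1 = s
      generalize b.2.1 = t
      revert u v s t
      decide
    have hc : ⁅q p m a, q p m b⁆ = p (d, 0) := by
      rw [commutatorElement_def, hab]; group
    rw [hc]; exact hz d
  · rintro g hg _ ⟨⟨c, y⟩, rfl⟩
    obtain ⟨x, s, rfl⟩ := S.cover g hg
    have hs := S.fix_e hg
    have key : ∃ c', s * tauMap c * s⁻¹ = tauMap c' := by
      obtain ⟨c', g', hg'⟩ := decomp (s * tauMap c * s⁻¹) (by
        show s (tauMap c (s.symm (e n))) = e n
        rw [show s.symm (e n) = e n from (LinearEquiv.symm_apply_eq s).mpr hs.symm,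
          show tauMap c (e n) = e n by ext <;> simp [tauMap], hs])
      refine ⟨c', ?_⟩
      have hg1 : g' = 1 := LinearEquiv.ext fun v => by
        have h := congrArg Prod.snd (DFunLike.congr_fun hg' ((0, v) : X n))
        change (s (tauMap c (s.symm (0, v)))).2 = g' v at h
        have e1 : tauMap c (s.symm (0, v)) = s.symm (0, v) + (dotProduct c (s.symm (0, v)).2, 0) := by
          ext <;> simp [tauMap]
        rw [e1, map_add, s.apply_symm_apply] at h
        have e2 : (s ((dotProduct c (s.symm (0, v)).2, 0) : X n)).2 = 0 := by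
          rcases two_cases (dotProduct c (s.symm (0, v)).2) with h' | h' <;> rw [h']
          · rw [show s ((0, 0) : X n) = 0 from map_zero s]; rfl
          · rw [show s ((1, 0) : X n) = e n from hs]
        rw [Prod.snd_add, e2, add_zero] at h
        exact h.symm
      rw [hg', hg1, map_one, mul_one]
    obtain ⟨c', hc'⟩ := key
    have e1 : p x * m s * q p m (c, y) * (p x * m s)⁻¹
        = p x * (p (s y) * m (tauMap c')) * (p x)⁻¹ := by
      rw [← hc', map_mul, map_mul, map_inv, ← S.conj s y]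
      show p x * m s * (p y * m (tauMap c)) * (p x * m s)⁻¹ = _
      group
    rw [e1]
    exact mul_mem (mul_mem (S.p_mem x) (mul_mem (S.p_mem _) (S.tau_mem _))) (inv_mem (S.p_mem x))

theorem pCore_eq [Finite G] (hn : 1 ≤ n) :
    (Cfsg.pCore 2 (Subgroup.centralizer ({p (e n)} : Set G))).map
      (Subgroup.centralizer ({p (e n)} : Set G)).subtype = S.Qsub := by
  haveI : Fact (Nat.Prime 2) := ⟨Nat.prime_two⟩
  have D := S.data hn
  set C := Subgroup.centralizer ({p (e n)} : Set G) with hC
  have hQC : S.Qsub ≤ C := fun g hg => Subgroup.mem_centralizer_singleton_iff.mpr (D.z_central g hg)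
  haveI hQn : (S.Qsub.subgroupOf C).Normal :=
    ⟨fun a ha c => D.norm c (Subgroup.mem_centralizer_singleton_iff.mp c.2) a ha⟩
  have hle : S.Qsub.subgroupOf C ≤ Cfsg.pCore 2 C :=
    le_sSup (s := {N : Subgroup C | N.Normal ∧ IsPGroup 2 N}) ⟨hQn, S.isPGroup_Qsub.comap_subtype⟩
  refine le_antisymm ?_ (fun g hg => ⟨⟨g, hQC hg⟩, hle hg, rfl⟩)
  -- the elements of `Aut V` lifting into the core
  let j : AutV n →* C := (m.comp lift).codRestrict C fun g => by
    rw [Subgroup.mem_centralizer_singleton_iff]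
    show m (lift g) * p (e n) = p (e n) * m (lift g)
    rw [S.move, show lift g (e n) = e n by ext <;> simp [lift_apply]]
  have hN : (Cfsg.pCore 2 C).comap j = ⊥ := by
    haveI : ((Cfsg.pCore 2 C).comap j).Normal :=
      Subgroup.Normal.comap ⟨fun a ha c => pCore_conj_mem 2 ha c⟩ j
    refine normal_two_eq_bot _ ((isPGroup_pCore 2).comap_of_injective j ?_)
    intro a b h
    have h' := S.m_inj (congrArg Subtype.val h)
    exact LinearEquiv.ext fun v => congrArg Prod.snd (DFunLike.congr_fun h' ((0, v) : X n))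
  rintro _ ⟨c, hc, rfl⟩
  have hc' := Subgroup.mem_centralizer_singleton_iff.mp c.2
  obtain ⟨x, s, hxs⟩ := S.cover c hc'
  have hs := S.fix_e (hxs ▸ hc')
  obtain ⟨c', g', rfl⟩ := decomp s hs
  have hqm : p x * m (tauMap c') ∈ S.Qsub := mul_mem (S.p_mem x) (S.tau_mem c')
  have hcq : c = ⟨_, hQC hqm⟩ * j g' := Subtype.ext (by
    show (c : G) = p x * m (tauMap c') * m (lift g')
    rw [hxs, map_mul, mul_assoc])
  have hg : g' ∈ (Cfsg.pCore 2 C).comap j := by
    rw [Subgroup.mem_comap, show j g' = (⟨_, hQC hqm⟩ : C)⁻¹ * c by rw [hcq]; group]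
    exact mul_mem (inv_mem (hle hqm)) hc
  rw [hN, Subgroup.mem_bot] at hg
  rw [hcq, hg, map_one, mul_one]
  exact hqm

theorem main [Finite G] (hn : 1 ≤ n) (Q : Subgroup G)
    (hQ : Q = (Cfsg.pCore 2 (Subgroup.centralizer ({p (e n)} : Set G))).map
      (Subgroup.centralizer ({p (e n)} : Set G)).subtype) :
    Cfsg.IsExtraspecial 2 ↥Q ∧ Nat.card ↥Q = 2 ^ (2 * n + 1) ∧
      (∃ E : Subgroup G, E ≤ Q ∧ Cfsg.IsElementaryAbelian 2 E ∧ Nat.card ↥E = 2 ^ (n + 1)) ∧
      Cfsg.IsLargeExtraspecial Q ∧
      ∃ K : Subgroup G, K ≤ Subgroup.centralizer ({p (e n)} : Set G) ∧ Q ⊓ K = ⊥ ∧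
        Q ⊔ K = Subgroup.centralizer ({p (e n)} : Set G) ∧ Nonempty (↥K ≃* AutV n) := by
  haveI : Fact (Nat.Prime 2) := ⟨Nat.prime_two⟩
  rw [S.pCore_eq hn] at hQ
  subst hQ
  have D := S.data hn
  let j0 : Fin n := ⟨0, hn⟩
  let b : G := p (0, Pi.single j0 1)
  have hnab : ∃ x ∈ S.Qsub, ∃ y ∈ S.Qsub, ⁅x, y⁆ ≠ 1 := by
    refine ⟨_, S.tau_mem (Pi.single j0 1), b, S.p_mem _, fun h => ?_⟩
    rw [commutatorElement_eq_one_iff_mul_comm] at h
    change m _ * p _ = p _ * m _ at h
    rw [S.move] at h
    have := congrArg Prod.fst (S.p_inj (mul_right_cancel h))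
    simp [tauMap] at this
  obtain ⟨hE, -⟩ := isExtraspecial_of_gen S.isPGroup_Qsub D.z_mem D.z_ne D.z_central
    (fun x _ h => D.cent x h) D.comm (fun a ha => D.sq ha) hnab
  have hb1 : b ≠ 1 := fun h => by
    have := congrArg (fun x : X n => x.2 j0) (S.p_inj (h.trans S.p_zero.symm))
    simp at this
  have hbz : b ≠ p (e n) := fun h => by
    have := congrArg (fun x : X n => x.1) (S.p_inj h)
    simp at this
  -- an automorphism exchanging e and b
  let f0 : X n →+ X n :=
    { toFun := fun x => (x.2 j0, Function.update x.2 j0 x.1)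
      map_zero' := by ext <;> simp
      map_add' := fun x y => by
        refine Prod.ext (by simp) (funext fun i => ?_)
        by_cases h : i = j0
        · subst h; simp
        · simp [h] }
  have hf : ∀ x, f0 (f0 x) = x := fun x => by
    refine Prod.ext (by simp [f0]) ?_
    simp [f0]
  let sw : AutX n := { f0.toZModLinearMap 2 with invFun := f0, left_inv := hf, right_inv := hf }
  have hswe : m sw * p (e n) * (m sw)⁻¹ = b := by
    rw [S.conj]
    show p (f0 (e n)) = p _
    congr 1
  refine ⟨hE, S.card_Qsub, ⟨S.Usub, ?_, ⟨⟨⟨?_⟩⟩, ?_⟩, S.card_Usub⟩, ?_,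
    ⟨(m.comp lift).range, ?_, ?_, ?_, ?_⟩⟩
  · rintro _ ⟨x, rfl⟩; exact S.p_mem x
  · rintro ⟨_, x, rfl⟩ ⟨_, y, rfl⟩; exact Subtype.ext (S.p_comm x y)
  · rintro _ ⟨x, rfl⟩; rw [pow_two, S.p_self]
  · refine isLarge_of_involution D S.isPGroup_Qsub hnab (S.p_mem _) hb1 hbz (S.p_self _)
      (S := S.Usub) (IsPGroup.of_card S.card_Usub) ⟨e n, rfl⟩ ?_ ?_
    · rintro _ ⟨x, rfl⟩; exact S.p_comm _ _
    · rintro c hc _ ⟨x, rfl⟩
      have hcz : (m sw)⁻¹ * c * m sw * p (e n) = p (e n) * ((m sw)⁻¹ * c * m sw) := by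
        calc (m sw)⁻¹ * c * m sw * p (e n) = (m sw)⁻¹ * (c * (m sw * p (e n) * (m sw)⁻¹)) * m sw := by group
          _ = (m sw)⁻¹ * ((m sw * p (e n) * (m sw)⁻¹) * c) * m sw := by rw [hswe, hc]
          _ = _ := by group
      obtain ⟨y, s, hys⟩ := S.cover _ hcz
      have hc' : c = m sw * (p y * m s) * (m sw)⁻¹ := by rw [← hys]; group
      refine ⟨sw (s (sw.symm x)), ?_⟩
      rw [hc']
      have e2 : p (sw.symm x) = (m sw)⁻¹ * p x * m sw := by
        rw [← map_inv]; conv_rhs => rw [S.move, mul_assoc, ← map_mul, inv_mul_cancel, map_one, mul_one]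
        rfl
      symm
      calc m sw * (p y * m s) * (m sw)⁻¹ * p x * (m sw * (p y * m s) * (m sw)⁻¹)⁻¹
          = m sw * (p y * (m s * ((m sw)⁻¹ * p x * m sw) * (m s)⁻¹) * (p y)⁻¹) * (m sw)⁻¹ := by group
        _ = m sw * (p y * p (s (sw.symm x)) * (p y)⁻¹) * (m sw)⁻¹ := by rw [← e2, S.conj]
        _ = m sw * p (s (sw.symm x)) * (m sw)⁻¹ := by rw [S.p_comm y, mul_inv_cancel_right]
        _ = p (sw (s (sw.symm x))) := S.conj _ _
  · rintro _ ⟨g, rfl⟩
    rw [Subgroup.mem_centralizer_singleton_iff]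
    show m (lift g) * p (e n) = p (e n) * m (lift g)
    rw [S.move, show lift g (e n) = e n by ext <;> simp [lift_apply]]
  · rw [Subgroup.eq_bot_iff_forall]
    rintro _ ⟨⟨⟨c, x⟩, hq⟩, g, rfl⟩
    change p x * m (tauMap c) = m (lift g) at hq
    have h1 : m (lift g * (tauMap c)⁻¹) = p x := by rw [map_mul, map_inv, ← hq]; group
    have hx := S.disj _ _ h1
    rw [hx, S.p_zero, one_mul] at hq
    have h := S.m_inj hq
    have hg : g = 1 := LinearEquiv.ext fun v => by
      have := congrArg Prod.snd (DFunLike.congr_fun h ((0, v) : X n))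
      exact this.symm
    show m (lift g) = 1
    rw [hg, map_one, map_one]
  · refine le_antisymm (sup_le (fun g hg => Subgroup.mem_centralizer_singleton_iff.mpr (D.z_central g hg)) ?_) ?_
    · rintro _ ⟨g, rfl⟩
      rw [Subgroup.mem_centralizer_singleton_iff]
      show m (lift g) * p (e n) = p (e n) * m (lift g)
      rw [S.move, show lift g (e n) = e n by ext <;> simp [lift_apply]]
    · intro c hc
      have hc' := Subgroup.mem_centralizer_singleton_iff.mp hc
      obtain ⟨x, s, rfl⟩ := S.cover c hc'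
      obtain ⟨c', g', rfl⟩ := decomp s (S.fix_e hc')
      rw [map_mul, ← mul_assoc]
      exact mul_mem (Subgroup.mem_sup_left (mul_mem (S.p_mem x) (S.tau_mem c')))
        (Subgroup.mem_sup_right ⟨g', rfl⟩)
  · have hinj : Function.Injective (m.comp (lift (n := n))) := fun a b h =>
      LinearEquiv.ext fun v => congrArg Prod.snd (DFunLike.congr_fun (S.m_inj h) ((0, v) : X n))
    exact ⟨(MonoidHom.ofInjective hinj).symm⟩

end Setup

end Cfsg.Agent.LargeExtraspecial.Affine
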