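import Cfsg.Agent.Lib.LargeExtraspecial.Affine

/-
Instances of `Affine.Setup`: transvection centralizers; and `GL_n(2) = Aut V = SL_n(2)`.
-/

set_option autoImplicit false

namespace Cfsg.Agent.LargeExtraspecial.Affine

theorem Setup.map {n : ℕ} {G H : Type*} [Group G] [Group H] {p : X n → G} {m : AutX n →* G}
    (S : Setup p m) (φ : G ≃* H) : Setup (fun x => φ (p x)) (φ.toMonoidHom.comp m) := by
  refine ⟨fun x y => by simp [S.p_add], fun x y h => S.p_inj (φ.injective h),
    φ.injective.comp S.m_inj, fun s x => ?_, fun s x h => S.disj s x (φ.injective h), fun g hg => ?_⟩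
  · show φ (m s) * φ (p x) * (φ (m s))⁻¹ = φ (p (s x))
    rw [← S.conj, map_mul, map_mul, map_inv]
  · obtain ⟨x, s, hxs⟩ := S.cover (φ.symm g) (by simpa using congrArg φ.symm hg)
    exact ⟨x, s, by show g = φ (p x) * φ (m s); rw [← map_mul, ← hxs, φ.apply_symm_apply]⟩

/-- `GL_n(2)` is the automorphism group of `V`. -/
noncomputable def glEquiv (n : ℕ) : Matrix.GeneralLinearGroup (Fin n) (ZMod 2) ≃* AutV n :=
  Matrix.GeneralLinearGroup.toLin.trans (LinearMap.GeneralLinearGroup.generalLinearEquiv (ZMod 2) (V n))

theorem glEquiv_apply {n : ℕ} (g : Matrix.GeneralLinearGroup (Fin n) (ZMod 2)) (v : V n) :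
    glEquiv n g v = (g : Matrix (Fin n) (Fin n) (ZMod 2)).mulVec v := rfl

theorem toGL_bijective (n : ℕ) : Function.Bijective
    (Matrix.SpecialLinearGroup.toGL : Matrix.SpecialLinearGroup (Fin n) (ZMod 2) → Matrix.GeneralLinearGroup (Fin n) (ZMod 2)) := by
  refine ⟨fun a b h => Subtype.ext (congrArg Units.val h), fun g => ⟨⟨g, ?_⟩, Units.ext rfl⟩⟩
  rcases two_cases (g : Matrix (Fin n) (Fin n) (ZMod 2)).det with h | h
  · have hu : IsUnit (g : Matrix (Fin n) (Fin n) (ZMod 2)).det :=
      (Matrix.isUnit_iff_isUnit_det _).mp g.isUnit
    rw [h] at hu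
    exact absurd hu (by simp)
  · exact h

/-- `SL_n(2) = Aut V`. -/
noncomputable def slEquiv (n : ℕ) : Matrix.SpecialLinearGroup (Fin n) (ZMod 2) ≃* AutV n :=
  (MulEquiv.ofBijective Matrix.SpecialLinearGroup.toGL (toGL_bijective n)).trans (glEquiv n)

theorem slEquiv_apply {n : ℕ} (g : Matrix.SpecialLinearGroup (Fin n) (ZMod 2)) (v : V n) :
    slEquiv n g v = (g : Matrix (Fin n) (Fin n) (ZMod 2)).mulVec v := rfl

variable {n : ℕ}

/-- Coordinates `(a, b, v)` of a vector. -/
def pack (a b : ZMod 2) (v : V n) : V (n + 2) := Fin.cons a (Fin.cons b v)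

def getA (w : V (n + 2)) : ZMod 2 := w 0
def getB (w : V (n + 2)) : ZMod 2 := w 1
def getV (w : V (n + 2)) : V n := fun j => w j.succ.succ

@[simp] theorem getA_pack (a b : ZMod 2) (v : V n) : getA (pack a b v) = a := rfl
@[simp] theorem getB_pack (a b : ZMod 2) (v : V n) : getB (pack a b v) = b := rfl
@[simp] theorem getV_pack (a b : ZMod 2) (v : V n) : getV (pack a b v) = v := rfl

theorem ext_parts {w w' : V (n + 2)} (h1 : getA w = getA w') (h2 : getB w = getB w')
    (h3 : getV w = getV w') : w = w' := by
  funext i
  induction i using Fin.cases with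
  | zero => exact h1
  | succ i =>
    induction i using Fin.cases with
    | zero => exact h2
    | succ i => exact congrFun h3 i

@[simp] theorem pack_get (w : V (n + 2)) : pack (getA w) (getB w) (getV w) = w :=
  ext_parts rfl rfl rfl

@[simp] theorem getA_zero : getA (0 : V (n + 2)) = 0 := rfl
@[simp] theorem getA_add (w w' : V (n + 2)) : getA (w + w') = getA w + getA w' := rfl
@[simp] theorem getB_add (w w' : V (n + 2)) : getB (w + w') = getB w + getB w' := rfl
@[simp] theorem getV_add (w w' : V (n + 2)) : getV (w + w') = getV w + getV w' := rfl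
@[simp] theorem getA_smul (c : ZMod 2) (w : V (n + 2)) : getA (c • w) = c * getA w := rfl
@[simp] theorem getB_smul (c : ZMod 2) (w : V (n + 2)) : getB (c • w) = c * getB w := rfl
@[simp] theorem getV_smul (c : ZMod 2) (w : V (n + 2)) : getV (c • w) = c • getV w := rfl

def transMap (x : X n) : AutV (n + 2) where
  toFun w := pack (getA w + getB w * x.1) (getB w) (getV w + getB w • x.2)
  invFun w := pack (getA w + getB w * x.1) (getB w) (getV w + getB w • x.2)
  map_add' w w' := ext_parts (by simp [add_mul, add_assoc, add_left_comm]) (by simp)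
    (by simp [add_smul, add_assoc, add_left_comm])
  map_smul' c w := ext_parts (by simp [mul_add, mul_assoc]) (by simp) (by simp [smul_add, smul_smul])
  left_inv w := ext_parts (by simp [add_assoc, ZModModule.add_self]) (by simp)
    (by simp [add_assoc, ZModModule.add_self])
  right_inv w := ext_parts (by simp [add_assoc, ZModModule.add_self]) (by simp)
    (by simp [add_assoc, ZModModule.add_self])

def linMap : AutX n →* AutV (n + 2) where
  toFun s :=
    { toFun := fun w => pack (s (getA w, getV w)).1 (getB w) (s (getA w, getV w)).2
      invFun := fun w => pack (s.symm (getA w, getV w)).1 (getB w) (s.symm (getA w, getV w)).2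
      map_add' := fun w w' => by
        have : ((getA (w + w'), getV (w + w')) : X n) = (getA w, getV w) + (getA w', getV w') := rfl
        refine ext_parts ?_ (by simp) ?_ <;> simp only [getA_pack, getV_pack, getA_add, getV_add] <;>
          rw [show ((getA w + getA w', getV w + getV w') : X n) = (getA w, getV w) + (getA w', getV w') from rfl, map_add] <;> rfl
      map_smul' := fun c w => by
        refine ext_parts ?_ (by simp) ?_ <;> simp only [getA_pack, getV_pack, getA_smul, getV_smul, RingHom.id_apply] <;>
          rw [show ((c * getA w, c • getV w) : X n) = c • (getA w, getV w) from rfl, map_smul] <;> rfl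
      left_inv := fun w => ext_parts (by simp) (by simp) (by simp)
      right_inv := fun w => ext_parts (by simp) (by simp) (by simp) }
  map_one' := LinearEquiv.ext fun w => pack_get w
  map_mul' s t := LinearEquiv.ext fun w => ext_parts (by simp) (by simp) (by simp)

theorem transvection_setup : Setup (transMap (n := n)) linMap := by
  refine ⟨fun x y => LinearEquiv.ext fun w => ?_, fun x y h => ?_, fun s t h => ?_, fun s x => ?_,
    fun s x h => ?_, fun g hg => ?_⟩
  · show transMap (x + y) w = transMap x (transMap y w)
    exact ext_parts (by simp [transMap, mul_add, add_assoc, add_left_comm, add_comm]) (by simp [transMap])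
      (by simp [transMap, smul_add, add_assoc, add_left_comm, add_comm])
  · have h' := DFunLike.congr_fun h (pack 0 1 0)
    refine Prod.ext ?_ ?_
    · simpa [transMap] using congrArg getA h'
    · simpa [transMap] using congrArg getV h'
  · refine LinearEquiv.ext fun y => ?_
    have h' := DFunLike.congr_fun h (pack y.1 0 y.2)
    refine Prod.ext ?_ ?_
    · simpa [linMap] using congrArg getA h'
    · simpa [linMap] using congrArg getV h'
  · rw [mul_inv_eq_iff_eq_mul]
    refine LinearEquiv.ext fun w => ?_
    show linMap s (transMap x w) = transMap (s x) (linMap s w)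
    have e : ((getA w + getB w * x.1, getV w + getB w • x.2) : X n) = (getA w, getV w) + getB w • x := rfl
    refine ext_parts ?_ (by simp [transMap, linMap]) ?_ <;>
      simp [transMap, linMap, e, map_add, map_smul]
  · have h' := DFunLike.congr_fun h (pack 0 1 0)
    refine Prod.ext ?_ ?_
    · simpa [transMap, linMap, show s ((0, 0) : X n) = 0 from map_zero s] using (congrArg getA h').symm
    · simpa [transMap, linMap, show s ((0, 0) : X n) = 0 from map_zero s] using (congrArg getV h').symm
  · have hcomm : ∀ w, g (transMap (e n) w) = transMap (e n) (g w) := fun w => DFunLike.congr_fun hg w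
    have htr : ∀ w : V (n + 2), transMap (e n) w = w + getB w • pack 1 0 0 := fun w =>
      ext_parts (by simp [transMap]) (by simp [transMap]) (by simp [transMap])
    set w1 : V (n + 2) := pack 1 0 0 with hw1
    have hkey : ∀ w, getB w • g w1 = getB (g w) • w1 := by
      intro w
      have := hcomm w
      rw [htr, htr, map_add, map_smul] at this
      exact add_left_cancel this
    have hg1 : g w1 = getB (g (pack 0 1 0)) • w1 := by simpa using hkey (pack 0 1 0)
    have hB : getB (g (pack 0 1 0)) = 1 := by
      refine (two_cases _).resolve_left fun h => ?_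
      rw [h, zero_smul] at hg1
      have := g.injective (hg1.trans (map_zero g).symm)
      simpa [hw1] using congrArg getA this
    rw [hB, one_smul] at hg1
    have hB' : ∀ w, getB (g w) = getB w := fun w => by
      have := congrArg getA (hkey w)
      rw [hg1] at this
      simpa [hw1] using this.symm
    let x : X n := (getA (g (pack 0 1 0)), getV (g (pack 0 1 0)))
    let s0 : X n →ₗ[ZMod 2] X n :=
      { toFun := fun y => (getA (g (pack y.1 0 y.2)), getV (g (pack y.1 0 y.2)))
        map_add' := fun y y' => by
          have : (pack (y + y').1 0 (y + y').2 : V (n + 2)) = pack y.1 0 y.2 + pack y'.1 0 y'.2 :=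
            ext_parts (by simp) (by simp) (by simp)
          show ((getA (g (pack (y + y').1 0 (y + y').2)), getV (g (pack (y + y').1 0 (y + y').2))) : X n) = _
          rw [this, map_add]; rfl
        map_smul' := fun c y => by
          have : (pack (c • y).1 0 (c • y).2 : V (n + 2)) = c • pack y.1 0 y.2 :=
            ext_parts (by simp) (by simp) (by simp)
          rw [this, map_smul]; rfl }
    have hinj : Function.Injective s0 := by
      intro y y' h
      have e1 : g (pack y.1 0 y.2) = g (pack y'.1 0 y'.2) :=
        ext_parts (congrArg Prod.fst h) (by rw [hB', hB', getB_pack, getB_pack]) (congrArg Prod.snd h)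
      have e2 := g.injective e1
      exact Prod.ext (congrArg getA e2) (congrArg getV e2)
    refine ⟨x, LinearEquiv.ofBijective s0 ⟨hinj, Finite.injective_iff_surjective.mp hinj⟩,
      LinearEquiv.ext fun w => ?_⟩
    have ew : w = pack (getA w) 0 (getV w) + getB w • pack 0 1 0 :=
      ext_parts (by simp) (by simp) (by simp)
    have eg : g w = g (pack (getA w) 0 (getV w)) + getB w • g (pack 0 1 0) := by
      conv_lhs => rw [ew]
      rw [map_add, map_smul]
    show g w = transMap x (linMap _ w)
    refine ext_parts ?_ ?_ ?_
    · rw [eg]; simp [transMap, linMap, x, s0]; rfl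
    · rw [hB']; simp [transMap, linMap]
    · rw [eg]; simp [transMap, linMap, x, s0]; rfl

end Cfsg.Agent.LargeExtraspecial.Affine
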