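import Cfsg.Agent.Lib.Leech.Unique
import Cfsg.Agent.Lib.Leech.Octads
import Cfsg.Agent.Lib.Golay.OctadStab
import Cfsg.Agent.Lib.Golay.Mathieu
import Cfsg.Agent.Lib.Leech.Shapes
import Cfsg.Agent.Lib.Leech.Normal

/-!
# Lattice facts for groups of Monster type

* `Cg`, `classify`, `transitive` : congruence classes modulo twice the lattice
* `le_center_of_normal_type_two` : a normal 2-subgroup of the stabiliser of a class of norm 32 is central
* `Frame v` : the structure `2^12 : M24` of the stabiliser of a class of norm 64, with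
  `Frame.two_le` : its normal 2-subgroups are diagonal
-/

set_option autoImplicit false
open scoped Pointwise
open Cfsg

namespace Cfsg.Agent.MonsterLattice

open Leech

/-- Congruence of lattice vectors modulo twice the lattice. -/
def Cg (v w : leechLattice) : Prop := Congr (v : GolayPt → ℤ) (w : GolayPt → ℤ)

theorem cg_refl (v : leechLattice) : Cg v v := congr_refl _
theorem Cg.symm {v w : leechLattice} (h : Cg v w) : Cg w v := congr_symm h
theorem Cg.trans {u v w : leechLattice} (h : Cg u v) (h' : Cg v w) : Cg u w := congr_trans h h'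
theorem Cg.smul (g : Co0) {v w : leechLattice} (h : Cg v w) : Cg (g • v) (g • w) := congr_smul g h

theorem Cg.neg (v : leechLattice) : Cg v (-v) := congr_neg v.2

theorem cg_iff {v w : leechLattice} : Cg v w ↔ ∃ u : leechLattice, v = w + (u + u) := by
  constructor
  · rintro ⟨z, hz, he⟩
    refine ⟨⟨z, hz⟩, Subtype.ext ?_⟩
    rw [AddSubgroup.coe_add, AddSubgroup.coe_add, ← sub_eq_iff_eq_add', he, two_nsmul]
  · rintro ⟨u, rfl⟩
    exact ⟨u, u.2, by rw [AddSubgroup.coe_add, AddSubgroup.coe_add, add_sub_cancel_left, two_nsmul]⟩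

theorem not_cg_zero {v : leechLattice} (h : sqNorm (v : GolayPt → ℤ) = 32 ∨
    sqNorm (v : GolayPt → ℤ) = 48 ∨ sqNorm (v : GolayPt → ℤ) = 64) : ¬ Cg v 0 := by
  intro hc
  have h0 : sqNorm ((0 : leechLattice) : GolayPt → ℤ) = 0 := by
    rw [ZeroMemClass.coe_zero, sqNorm_zero]
  rcases congr_short v.2 hc (by omega) (by rw [h0]; norm_num) with e | e | ⟨-, e, -⟩
  · rw [e, h0] at h; omega
  · rw [e, sqNorm_neg, h0] at h; omega
  · omega

theorem classify (x : leechLattice) : ∃ y : leechLattice, Cg x y ∧ (y = 0 ∨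
    sqNorm (y : GolayPt → ℤ) = 32 ∨ sqNorm (y : GolayPt → ℤ) = 48 ∨
    sqNorm (y : GolayPt → ℤ) = 64) := by
  obtain ⟨y, hy, hn, hc⟩ := exists_short_rep x.2
  refine ⟨⟨y, hy⟩, hc, ?_⟩
  by_cases h0 : y = 0
  · exact Or.inl (Subtype.ext h0)
  obtain ⟨k, hk⟩ := dvd_sqNorm hy
  have := min_norm hy h0
  right
  show sqNorm y = 32 ∨ sqNorm y = 48 ∨ sqNorm y = 64
  omega

theorem transitive {v w : leechLattice}
    (h : sqNorm (v : GolayPt → ℤ) = 32 ∨ sqNorm (v : GolayPt → ℤ) = 48 ∨
      sqNorm (v : GolayPt → ℤ) = 64)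
    (hw : sqNorm (w : GolayPt → ℤ) = sqNorm (v : GolayPt → ℤ)) : ∃ g : Co0, Cg (g • v) w := by
  rcases h with h | h | h
  · obtain ⟨g, hg⟩ := transitive32 golayUnique h (hw.trans h)
    exact ⟨g, hg ▸ cg_refl _⟩
  · obtain ⟨g, hg⟩ := transitive48 golayUnique h (hw.trans h)
    exact ⟨g, hg ▸ cg_refl _⟩
  · exact transitive64 golayUnique h (hw.trans h)

/-- The stabiliser of a class. -/
def clsStab (v : leechLattice) : Subgroup Co0 where
  carrier := {g | Cg (g • v) v}
  one_mem' := by show Cg _ _; rw [one_smul]; exact cg_refl v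
  mul_mem' := by
    intro g h hg hh
    show Cg _ _
    rw [mul_smul]
    exact (hh.smul g).trans hg
  inv_mem' := by
    intro g hg
    have h := (Cg.smul g⁻¹ hg).symm
    rwa [inv_smul_smul] at h

theorem mem_clsStab {v : leechLattice} {g : Co0} : g ∈ clsStab v ↔ Cg (g • v) v := Iff.rfl

theorem center_le_clsStab (v : leechLattice) : Subgroup.center Co0 ≤ clsStab v := by
  intro g hg
  rcases center_eq hg with rfl | rfl
  · exact one_mem _
  · exact (Cg.neg v).symm

/-! ### Classes of norm 32 -/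

theorem eq_or_neg_of_mem_clsStab {v : leechLattice} (hv : sqNorm (v : GolayPt → ℤ) = 32) {g : Co0}
    (hg : g ∈ clsStab v) : g • v = v ∨ g • v = -v := by
  rcases congr_short (g • v).2 hg (by rw [sqNorm_smul, hv]; norm_num) (by rw [hv]; norm_num)
    with e | e | ⟨e, -⟩
  · exact Or.inl (Subtype.ext e)
  · exact Or.inr (Subtype.ext e)
  · rw [sqNorm_smul, hv] at e; norm_num at e

theorem baseU_apply (i : GolayPt) :
    (baseU : GolayPt → ℤ) i = if i = none ∨ i = some 0 then 4 else 0 := by
  revert i; decide +kernel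

theorem baseU'_apply (i : GolayPt) :
    (baseU' : GolayPt → ℤ) i = if i = none then 4 else if i = some 0 then -4 else 0 := by
  revert i; decide +kernel

/-- The monomial elements fixing `4(e∞+e₀)`. -/
theorem mono_fix_baseU {σ : Equiv.Perm GolayPt} {hσ : σ ∈ M24} {c : Finset GolayPt}
    {hc : c ∈ supports (golayCode : Set (GolayPt → ZMod 2))} (h : mono σ hσ c hc • baseU = baseU) :
    (σ.symm none = none ∧ σ.symm (some 0) = some 0 ∨ σ.symm none = some 0 ∧ σ.symm (some 0) = none) ∧
      none ∉ c ∧ (some 0 : GolayPt) ∉ c := by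
  have key : ∀ i, i = none ∨ i = some 0 → (σ.symm i = none ∨ σ.symm i = some 0) ∧ i ∉ c := by
    intro i hi
    have h1 := congrFun (congrArg Subtype.val h) i
    rw [vec_mono, signedPerm, baseU_apply, baseU_apply i, if_pos hi] at h1
    by_cases hs : σ.symm i = none ∨ σ.symm i = some 0
    · rw [if_pos hs] at h1
      refine ⟨hs, fun hic => ?_⟩
      rw [if_pos hic] at h1
      omega
    · rw [if_neg hs] at h1
      split_ifs at h1 <;> omega
  obtain ⟨h1, h1c⟩ := key none (Or.inl rfl)
  obtain ⟨h2, h2c⟩ := key (some 0) (Or.inr rfl)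
  have hne : σ.symm none ≠ σ.symm (some 0) := fun e => by simpa using σ.symm.injective e
  refine ⟨?_, h1c, h2c⟩
  rcases h1 with a | a <;> rcases h2 with b | b
  · exact absurd (a.trans b.symm) hne
  · exact Or.inl ⟨a, b⟩
  · exact Or.inr ⟨a, b⟩
  · exact absurd (a.trans b.symm) hne

theorem smul_baseU'_of_fix {g : Co0} (hg : g ∈ stdStab) (h : g • baseU = baseU) :
    g • baseU' = baseU' ∨ g • baseU' = -baseU' := by
  obtain ⟨σ, hσ, c, hc, rfl⟩ := exists_mono_of_mem hg
  obtain ⟨h1, hn, h0⟩ := mono_fix_baseU h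
  have hoff : ∀ i, i ≠ none → i ≠ some 0 → σ.symm i ≠ none ∧ σ.symm i ≠ some 0 := by
    intro i hi hi'
    rcases h1 with ⟨a, b⟩ | ⟨a, b⟩
    · exact ⟨fun e => hi (σ.symm.injective (e.trans a.symm)),
        fun e => hi' (σ.symm.injective (e.trans b.symm))⟩
    · exact ⟨fun e => hi' (σ.symm.injective (e.trans b.symm)),
        fun e => hi (σ.symm.injective (e.trans a.symm))⟩
  rcases h1 with ⟨a, b⟩ | ⟨a, b⟩
  · left
    refine Subtype.ext (funext fun i => ?_)
    rw [vec_mono, signedPerm, baseU'_apply, baseU'_apply i]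
    by_cases hi : i = none
    · subst hi; simp [hn, a]
    by_cases hi' : i = some 0
    · subst hi'; simp [h0, b]
    obtain ⟨x, y⟩ := hoff i hi hi'
    simp [hi, hi', x, y]
  · right
    refine Subtype.ext (funext fun i => ?_)
    rw [vec_mono, signedPerm, baseU'_apply, AddSubgroup.coe_neg, Pi.neg_apply, baseU'_apply i]
    by_cases hi : i = none
    · subst hi; simp [hn, a]
    by_cases hi' : i = some 0
    · subst hi'; simp [h0, b]
    obtain ⟨x, y⟩ := hoff i hi hi'
    simp [hi, hi', x, y]

instance finite_co0 : Finite Co0 :=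
  Nat.finite_of_card_ne_zero (by rw [natCard_co0 golayUnique]; norm_num)

theorem shellSet_full32 : {x | x ∈ leechLattice ∧ sqNorm x = ((32 : ℕ) : ℤ)}.ncard = 196560 := by
  rw [← shellSet_full (by norm_num : 32 ≤ 64), ncard_shellSet (by norm_num) (by norm_num) (by norm_num),
    count32]

theorem natCard_stab_baseU :
    Nat.card (MulAction.stabilizer Co0 baseU) = 2 ^ 18 * 161382375 := by
  have h1 := Nat.card_congr (MulAction.orbitProdStabilizerEquivGroup Co0 baseU)
  rw [Nat.card_prod] at h1
  have h2 : Nat.card (MulAction.orbit Co0 baseU) = 196560 := by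
    rw [Nat.card_coe_set_eq, ← Set.ncard_image_of_injective _ Subtype.val_injective, ← shellSet_full32]
    congr 1
    ext x
    constructor
    · rintro ⟨_, ⟨g, rfl⟩, rfl⟩
      exact ⟨(g • baseU).2, (sqNorm_smul g baseU).trans (by rw [sqNorm_baseU]; rfl)⟩
    · rintro ⟨hx, hn⟩
      obtain ⟨g, hg⟩ := transitive32 golayUnique sqNorm_baseU (w := ⟨x, hx⟩) (by simpa using hn)
      exact ⟨_, ⟨g, rfl⟩, congrArg Subtype.val hg⟩
  rw [h2, natCard_co0 golayUnique] at h1
  omega

theorem natCard_stdStab_stab_baseU :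
    Nat.card (MulAction.stabilizer stdStab baseU) = 2 ^ 18 * 3465 := by
  have h1 := Nat.card_congr (MulAction.orbitProdStabilizerEquivGroup stdStab baseU)
  rw [Nat.card_prod] at h1
  have hc : leechCount 32 [0, 4, -4] = 1104 := by decide +kernel
  have h2 : Nat.card (MulAction.orbit stdStab baseU) = 1104 := by
    rw [Nat.card_coe_set_eq, ← Set.ncard_image_of_injective _ Subtype.val_injective, ← hc,
      ← ncard_shellSet (by norm_num) (by norm_num) (by norm_num)]
    congr 1
    ext x
    constructor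
    · rintro ⟨_, ⟨⟨g, hg⟩, rfl⟩, rfl⟩
      obtain ⟨σ, hσ, c, hc, rfl⟩ := exists_mono_of_mem hg
      refine ⟨(mono σ hσ c hc • baseU).2, (sqNorm_smul _ baseU).trans (by rw [sqNorm_baseU]; rfl),
        fun i => ?_⟩
      show ((mono σ hσ c hc • baseU : leechLattice) : GolayPt → ℤ) i ∈ _
      rw [vec_mono, signedPerm, baseU_apply]
      split_ifs <;> simp
    · rintro ⟨hx, hn, hv⟩
      have hv' : ∀ i, x i = 0 ∨ x i = 4 ∨ x i = -4 := fun i => by simpa using hv i
      obtain ⟨k, l, hkl, hk, hl, h0⟩ : IsPair x := by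
        rcases min_shape hx (by simpa using hn) with h | ⟨o, M, ho, -, -, rfl⟩ | ⟨k, c, -, hk, -⟩
        · exact h
        · exfalso
          have hne : o.Nonempty := Finset.card_pos.1 (by rw [ho.2]; norm_num)
          obtain ⟨i, hi⟩ := hne
          have := hv' i
          rw [show octVec o M i = if i ∈ M then -2 else 2 from if_pos hi] at this
          by_cases hM : i ∈ M
          · rw [if_pos hM] at this; omega
          · rw [if_neg hM] at this; omega
        · exfalso
          have := hv' k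
          omega
      obtain ⟨m, hm⟩ : (({k, l} : Finset GolayPt)ᶜ).Nonempty := Finset.card_pos.1 (by
        have := Finset.card_le_two (a := k) (b := l)
        rw [Finset.card_compl, card_pt]; omega)
      simp only [Finset.mem_compl, Finset.mem_insert, Finset.mem_singleton, not_or] at hm
      obtain ⟨σ, hσ, ha, hb, -⟩ := exists_map_three (a := none) (b := some 0) (c := some 1)
        (by decide) ⟨hkl, Ne.symm hm.2, Ne.symm hm.1⟩
      obtain ⟨d, hd, hdk, hdl, -⟩ := exists_sign_three ⟨hkl, Ne.symm hm.2, Ne.symm hm.1⟩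
        (x k = -4) (x l = -4) False
      refine ⟨_, ⟨⟨mono σ hσ d hd, mono_mem_stdStab _ _ _ _⟩, rfl⟩, funext fun i => ?_⟩
      show ((mono σ hσ d hd • baseU : leechLattice) : GolayPt → ℤ) i = x i
      rw [vec_mono, signedPerm, baseU_apply]
      by_cases hik : i = k
      · subst hik
        rw [if_pos (Or.inl (σ.symm_apply_eq.2 ha.symm))]
        rcases hk with e | e
        · rw [if_neg (fun h => by have := hdk.1 h; omega), e]
        · rw [if_pos (hdk.2 e), e]
      by_cases hil : i = l
      · subst hil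
        rw [if_pos (Or.inr (σ.symm_apply_eq.2 hb.symm))]
        rcases hl with e | e
        · rw [if_neg (fun h => by have := hdl.1 h; omega), e]
        · rw [if_pos (hdl.2 e), e]
      rw [if_neg (not_or.2 ⟨fun e => hik (by rw [σ.symm_apply_eq.1 e, ha]),
        fun e => hil (by rw [σ.symm_apply_eq.1 e, hb])⟩), h0 i hik hil, neg_zero, ite_self]
  rw [h2, natCard_stdStab] at h1
  omega

/-- An element fixing `4(e∞+e₀)` and, up to sign, all minimal vectors orthogonal to it is trivial. -/
theorem eq_one_of_pm {e : Co0} (hu : e • baseU = baseU)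
    (hw : ∀ w : leechLattice, sqNorm (w : GolayPt → ℤ) = 32 →
      dotInt (baseU : GolayPt → ℤ) (w : GolayPt → ℤ) = 0 → e • w = w ∨ e • w = -w) : e = 1 := by
  have hst : e ∈ stdStab := by
    set p := pairVec (some 1) (some 2) 1 1 (by norm_num) with hp
    set m := pairVec (some 1) (some 2) 1 (-1) (by norm_num) with hm
    have h12 : (some 1 : GolayPt) ≠ some 2 := by decide
    have hd : ∀ t : ℤ, (h : (2 : ℤ) ∣ 1 + t) →
        dotInt (baseU : GolayPt → ℤ) (pairVec (some 1) (some 2) 1 t h : GolayPt → ℤ) = 0 := fun t h => by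
      rw [dotInt_pairVec, baseU_apply, baseU_apply, if_neg (by decide), if_neg (by decide)]; ring
    have e1 : p + m = eightVec (some 1) := Subtype.ext (by decide +kernel)
    have e2 : p - m = eightVec (some 2) := Subtype.ext (by decide +kernel)
    have hneg : ∀ i, ((-eightVec i : leechLattice) : GolayPt → ℤ) ∈ stdCross := fun i =>
      ⟨i, -8, Or.inr rfl, by rw [AddSubgroup.coe_neg, coe_eightVec, Pi.single_neg]⟩
    have hmem : ((e • eightVec (some 1) : leechLattice) : GolayPt → ℤ) ∈ stdCross := by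
      rw [← e1, smul_vadd]
      rcases hw p (sqNorm_pairVec h12 _ (Or.inl rfl) (Or.inl rfl)) (hd _ _) with a | a <;>
        rcases hw m (sqNorm_pairVec h12 _ (Or.inl rfl) (Or.inr rfl)) (hd _ _) with b | b <;> rw [a, b]
      · rw [e1]; exact eightVec_mem_stdCross _
      · rw [show p + -m = eightVec (some 2) by rw [← e2]; abel]; exact eightVec_mem_stdCross _
      · rw [show -p + m = -eightVec (some 2) by rw [← e2]; abel]; exact hneg _
      · rw [show -p + -m = -eightVec (some 1) by rw [← e1]; abel]; exact hneg _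
    exact stdCross_invariant hmem (eightVec_mem_stdCross none)
  obtain ⟨σ, hσ, c, hc, rfl⟩ := exists_mono_of_mem hst
  obtain ⟨-, hcn, hc0⟩ := mono_fix_baseU hu
  -- a pair of points off {∞, 0}
  have hpair : ∀ i j : GolayPt, i ≠ j → i ≠ none → i ≠ some 0 → j ≠ none → j ≠ some 0 →
      (σ.symm i = i ∨ σ.symm i = j) ∧ (i ∈ c ↔ j ∈ c) := by
    intro i j hij hi hi' hj hj'
    have hv : ∀ p, (pairVec i j 1 1 (by norm_num) : GolayPt → ℤ) p = if p = i ∨ p = j then 4 else 0 := by
      intro p
      rw [coe_pairVec, Pi.add_apply, Pi.single_apply, Pi.single_apply]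
      by_cases hp : p = i
      · subst hp; simp [hij]
      · simp [hp]
    have h := hw _ (sqNorm_pairVec hij _ (Or.inl rfl) (Or.inl rfl)) (by
      rw [dotInt_pairVec, baseU_apply, baseU_apply]; simp [hi, hi', hj, hj']
      all_goals norm_num)
    have hk : ∃ t : ℤ, (t = 1 ∨ t = -1) ∧ ∀ p, (if p ∈ c then -(if σ.symm p = i ∨ σ.symm p = j then (4 : ℤ) else 0)
        else (if σ.symm p = i ∨ σ.symm p = j then (4 : ℤ) else 0)) = t * (if p = i ∨ p = j then 4 else 0) := by
      rcases h with h | h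
      · refine ⟨1, Or.inl rfl, fun p => ?_⟩
        have := congrFun (congrArg Subtype.val h) p
        rw [vec_mono, signedPerm, hv, hv p] at this
        rw [this, one_mul]
      · refine ⟨-1, Or.inr rfl, fun p => ?_⟩
        have := congrFun (congrArg Subtype.val h) p
        rw [vec_mono, signedPerm, hv, AddSubgroup.coe_neg, Pi.neg_apply, hv p] at this
        rw [this]; ring
    obtain ⟨t, ht, hk⟩ := hk
    have a := hk i
    have b := hk j
    rw [if_pos (Or.inl rfl : i = i ∨ i = j)] at a
    rw [if_pos (Or.inr rfl : j = i ∨ j = j)] at b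
    constructor
    · by_contra hne
      rw [if_neg hne] at a
      rcases ht with rfl | rfl <;> simp at a
    · by_cases x : i ∈ c <;> by_cases y : j ∈ c <;> simp only [x, y, if_true, if_false] at a b ⊢ <;>
        exfalso <;> rcases ht with rfl | rfl <;> split_ifs at a b <;> omega
  have hsig : ∀ i : GolayPt, i ≠ none → i ≠ some 0 → σ.symm i = i := by
    intro i hi hi'
    obtain ⟨j, hj⟩ : (({none, some 0, i} : Finset GolayPt)ᶜ).Nonempty := Finset.card_pos.1 (by
      have := Finset.card_le_three (a := (none : GolayPt)) (b := some 0) (c := i)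
      rw [Finset.card_compl, card_pt]; omega)
    obtain ⟨k, hk⟩ : (({none, some 0, i, j} : Finset GolayPt)ᶜ).Nonempty := Finset.card_pos.1 (by
      have := Finset.card_le_four (a := (none : GolayPt)) (b := some 0) (c := i) (d := j)
      rw [Finset.card_compl, card_pt]; omega)
    simp only [Finset.mem_compl, Finset.mem_insert, Finset.mem_singleton, not_or] at hj hk
    rcases (hpair i j (Ne.symm hj.2.2) hi hi' hj.1 hj.2.1).1 with e | e
    · exact e
    rcases (hpair i k (Ne.symm hk.2.2.1) hi hi' hk.1 hk.2.1).1 with e' | e'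
    · exact e'
    · exact absurd (e'.symm.trans e) hk.2.2.2
  have hσ1 : σ = 1 := by
    obtain ⟨o, ho, hon, ho0⟩ := exists_octad_avoid_two (show (none : GolayPt) ≠ some 0 by decide)
    obtain ⟨p, hp⟩ : ((o ∪ {none, some 0})ᶜ).Nonempty := Finset.card_pos.1 (by
      have h1 := Finset.card_union_le o ({none, some 0} : Finset GolayPt)
      have h2 := Finset.card_le_two (a := (none : GolayPt)) (b := some 0)
      rw [show o.card = 8 from ho.2] at h1
      rw [Finset.card_compl, card_pt]; omega)
    simp only [Finset.mem_compl, Finset.mem_union, Finset.mem_insert, Finset.mem_singleton, not_or] at hp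
    have hfixp : ∀ i : GolayPt, i ≠ none → i ≠ some 0 → σ i = i := fun i hi hi' => by
      conv_lhs => rw [← hsig i hi hi']
      exact σ.apply_symm_apply i
    exact Golay.eq_one_of_octad_point ho hσ
      (fun i hi => hfixp i (fun e => hon (e ▸ hi)) (fun e => ho0 (e ▸ hi))) hp.1 (hfixp p hp.2.1 hp.2.2)
  subst hσ1
  have hc1 : c = ∅ := by
    by_contra hne
    obtain ⟨i, hi⟩ := Finset.nonempty_iff_ne_empty.2 hne
    have hi0 : i ≠ none := fun e => hcn (e ▸ hi)
    have hi1 : i ≠ some 0 := fun e => hc0 (e ▸ hi)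
    have hcc : c = ({none, some 0} : Finset GolayPt)ᶜ := Finset.ext fun j => by
      simp only [Finset.mem_compl, Finset.mem_insert, Finset.mem_singleton, not_or]
      refine ⟨fun hj => ⟨fun e => hcn (e ▸ hj), fun e => hc0 (e ▸ hj)⟩, fun hj => ?_⟩
      by_cases hij : i = j
      · exact hij ▸ hi
      · exact (hpair i j hij hi0 hi1 hj.1 hj.2).2.1 hi
    have := Golay.card_mem_weights hc
    rw [hcc, Finset.card_compl, card_pt, Finset.card_pair (by decide)] at this
    omega
  subst hc1
  exact ext_frame fun i => Subtype.ext (by rw [vec_mono, one_smul, coe_eightVec, signedPerm_single]; simp)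

/-- A normal 2-subgroup of the stabiliser of `4(e∞+e₀)` is trivial. -/
theorem eq_one_of_normal_stab_baseU {E : Subgroup Co0} (hE : IsPGroup 2 E)
    (hfix : ∀ e ∈ E, e • baseU = baseU)
    (hn : ∀ h : Co0, h • baseU = baseU → ∀ e ∈ E, h * e * h⁻¹ ∈ E) {e : Co0} (he : e ∈ E) :
    e = 1 := by
  haveI : Fact (Nat.Prime 2) := ⟨Nat.prime_two⟩
  -- E lies in the monomial group
  set H := MulAction.stabilizer Co0 baseU with hH
  have hstd : ∀ x ∈ E, x ∈ stdStab := by
    obtain ⟨P, hP⟩ := Sylow.exists_subgroup_card_pow_prime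
      (G := MulAction.stabilizer stdStab baseU) 2 (n := 18)
      (by rw [natCard_stdStab_stab_baseU]; exact dvd_mul_right _ _)
    let ι : MulAction.stabilizer stdStab baseU →* H :=
      { toFun := fun g => ⟨((g : stdStab) : Co0), g.2⟩
        map_one' := rfl
        map_mul' := fun _ _ => rfl }
    have hι : Function.Injective ι := fun a b h =>
      Subtype.ext (Subtype.ext (congrArg (fun x : H => (x : Co0)) h))
    set P' := P.map ι
    have hP' : Nat.card P' = 2 ^ 18 := by
      rw [← hP]; exact (Nat.card_congr (P.equivMapOfInjective ι hι).toEquiv).symm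
    haveI : (E.subgroupOf H).Normal := ⟨fun x hx k => by
      rw [Subgroup.mem_subgroupOf] at hx ⊢
      exact hn k k.2 _ hx⟩
    have hEH : IsPGroup 2 (E.subgroupOf H) := hE.comap_subtype
    have hp : IsPGroup 2 (P' ⊔ E.subgroupOf H : Subgroup H) :=
      IsPGroup.to_sup_of_normal_right (K := E.subgroupOf H) (IsPGroup.of_card hP') hEH
    obtain ⟨n, hnc⟩ := IsPGroup.iff_card.mp hp
    have hdvd := Subgroup.card_subgroup_dvd_card (P' ⊔ E.subgroupOf H)
    rw [hnc, natCard_stab_baseU] at hdvd
    have hn18 : n ≤ 18 := by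
      by_contra hlt
      have h19 : 2 ^ 19 ∣ 2 ^ 18 * 161382375 := dvd_trans (pow_dvd_pow 2 (by omega)) hdvd
      norm_num at h19
    have heq : P' = P' ⊔ E.subgroupOf H := Subgroup.eq_of_le_of_card_ge le_sup_left (by
      rw [hnc, hP']; exact Nat.pow_le_pow_right (by norm_num) hn18)
    intro x hx
    have hm : (⟨x, hfix x hx⟩ : H) ∈ P' := heq ▸ Subgroup.mem_sup_right hx
    obtain ⟨a, -, ha⟩ := hm
    rw [← show ((a : stdStab) : Co0) = x from congrArg Subtype.val ha]
    exact (a : stdStab).2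
  -- e fixes the minimal vectors orthogonal to baseU up to sign
  have hw : ∀ w : leechLattice, sqNorm (w : GolayPt → ℤ) = 32 →
      dotInt (baseU : GolayPt → ℤ) (w : GolayPt → ℤ) = 0 → e • w = w ∨ e • w = -w := by
    intro w hwn hwd
    obtain ⟨g, hgu, hgw⟩ := transitive_orth golayUnique sqNorm_baseU sqNorm_baseU' hwn
      (by decide +kernel) hwd
    have hgu' : g⁻¹ • baseU = baseU := by rw [inv_smul_eq_iff, hgu]
    have hm := hn g⁻¹ hgu' e he
    rw [inv_inv] at hm
    have key : e • w = g • ((g⁻¹ * e * g) • baseU') := by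
      rw [← hgw, mul_smul, mul_smul, smul_inv_smul]
    rcases smul_baseU'_of_fix (hstd _ hm) (hfix _ hm) with h | h
    · exact Or.inl (by rw [key, h, hgw])
    · exact Or.inr (by rw [key, h, smul_vneg, hgw])
  exact eq_one_of_pm (hfix e he) hw

/-- A normal 2-subgroup of the stabiliser of a class of norm 32 is central. -/
theorem le_center_of_normal_type_two {v : leechLattice} (hv : sqNorm (v : GolayPt → ℤ) = 32)
    {E : Subgroup Co0} (hE : IsPGroup 2 E) (hle : E ≤ clsStab v)
    (hn : ∀ h ∈ clsStab v, ∀ e ∈ E, h * e * h⁻¹ ∈ E) : E ≤ Subgroup.center Co0 := by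
  haveI : Fact (Nat.Prime 2) := ⟨Nat.prime_two⟩
  set Z := Subgroup.center Co0
  obtain ⟨k, hk⟩ := transitive32 golayUnique hv sqNorm_baseU
  have hEZ : IsPGroup 2 (E ⊔ Z : Subgroup Co0) :=
    IsPGroup.to_sup_of_normal_right hE (IsPGroup.of_card (n := 1) (by rw [natCard_center, pow_one]))
  set E1 := (E ⊔ Z).map (MulAut.conj k).toMonoidHom ⊓ MulAction.stabilizer Co0 baseU
  have hmem : ∀ x, x ∈ E1 ↔ k⁻¹ * x * k ∈ E ⊔ Z ∧ x • baseU = baseU := fun x => by
    rw [Subgroup.mem_inf, MulAction.mem_stabilizer_iff]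
    refine and_congr_left' ⟨?_, fun h => ⟨_, h, ?_⟩⟩
    · rintro ⟨y, hy, rfl⟩; simpa [mul_assoc] using hy
    · simp [mul_assoc]
  have hconj : ∀ h ∈ clsStab v, ∀ x ∈ E ⊔ Z, h * x * h⁻¹ ∈ E ⊔ Z := by
    intro h hh x hx
    have : E ⊔ Z ≤ (E ⊔ Z).comap (MulAut.conj h).toMonoidHom := sup_le
      (fun y hy => Subgroup.mem_sup_left (hn h hh y hy))
      (fun y hy => Subgroup.mem_sup_right ((Subgroup.normal_of_characteristic Z).conj_mem y hy h))
    exact this hx
  have hv' : k⁻¹ • baseU = v := by rw [inv_smul_eq_iff, hk]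
  have hone : ∀ x ∈ E1, x = 1 := fun x hx => eq_one_of_normal_stab_baseU
    ((hEZ.map _).to_le inf_le_left) (fun y hy => ((hmem y).1 hy).2) (fun h hh y hy => by
      obtain ⟨hy1, hy2⟩ := (hmem y).1 hy
      refine (hmem _).2 ⟨?_, ?_⟩
      · have hm : k⁻¹ * h * k ∈ clsStab v := by
          show Cg _ _
          rw [mul_smul, mul_smul, hk, hh, hv']
          exact cg_refl v
        simpa [mul_assoc] using hconj _ hm _ hy1
      · rw [mul_smul, mul_smul, inv_smul_eq_iff.2 hh.symm, hy2, hh]) hx
  intro e he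
  have key : ∀ x ∈ E ⊔ Z, x • v = v → x = 1 := fun x hx hxv => by
    have := hone (k * x * k⁻¹) ((hmem _).2 ⟨by simpa [mul_assoc] using hx, by
      rw [mul_smul, mul_smul, hv', hxv, hk]⟩)
    simpa using this
  rcases eq_or_neg_of_mem_clsStab hv (hle he) with h | h
  · rw [key e (Subgroup.mem_sup_left he) h]; exact one_mem _
  · have := key (negOne * e) (mul_mem (Subgroup.mem_sup_right negOne_mem_center) (Subgroup.mem_sup_left he))
      (by rw [mul_smul, h, negOne_smul, neg_neg])
    rw [eq_inv_of_mul_eq_one_right this]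
    exact inv_mem negOne_mem_center

/-! ### Perpendicular classes -/

theorem sqNorm_mod {v w : leechLattice} (h : Cg v w) :
    (32 : ℤ) ∣ sqNorm (v : GolayPt → ℤ) - sqNorm (w : GolayPt → ℤ) := by
  obtain ⟨u, rfl⟩ := cg_iff.1 h
  obtain ⟨a, ha⟩ := dvd_dotInt w.2 u.2
  obtain ⟨b, hb⟩ := dvd_sqNorm u.2
  have e : ((w + (u + u) : leechLattice) : GolayPt → ℤ) = (w : GolayPt → ℤ) + ((u : GolayPt → ℤ) + u) := rfl
  rw [e, sqNorm_add, sqNorm_add, dotInt_add_right, ha, hb, ← sqNorm_eq_dotInt, hb]
  exact ⟨a + 2 * b, by ring⟩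

/-- An element fixing `4(e∞+e₀)` and trivial on its perpendicular classes modulo it is trivial. -/
theorem eq_one_of_perp {g : Co0} (hu : g • baseU = baseU)
    (h : ∀ w : leechLattice, (16 : ℤ) ∣ dotInt (baseU : GolayPt → ℤ) (w : GolayPt → ℤ) →
      Cg (g • w) w ∨ Cg (g • w) (w + baseU)) : g = 1 := by
  refine eq_one_of_pm hu fun w hn hd => ?_
  rcases h w (by rw [hd]; exact dvd_zero _) with hc | hc
  · exact eq_or_neg_of_mem_clsStab hn hc
  · exfalso
    have hn' : sqNorm ((w + baseU : leechLattice) : GolayPt → ℤ) = 64 := by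
      rw [AddSubgroup.coe_add, sqNorm_add, hn, sqNorm_baseU, dotInt_comm, hd]; norm_num
    rcases congr_short (g • w).2 hc (by rw [sqNorm_smul, hn]; norm_num) (by rw [hn'])
      with e | e | ⟨e, -⟩
    · have := congrArg sqNorm e; rw [sqNorm_smul, hn, hn'] at this; norm_num at this
    · have := congrArg sqNorm e; rw [sqNorm_smul, hn, sqNorm_neg, hn'] at this; norm_num at this
    · rw [sqNorm_smul, hn] at e; norm_num at e

/-- A class fixed by all sign changes modulo `8 e∞` is perpendicular to `4(e∞+e₀)`. -/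
theorem perp_of_signs_fix {w : leechLattice}
    (h : ∀ c : Finset GolayPt, ∀ hc : c ∈ supports (golayCode : Set (GolayPt → ZMod 2)),
      Cg (signEl c hc • w) w ∨ Cg (signEl c hc • w) (eightVec none + w)) :
    (16 : ℤ) ∣ dotInt (baseU : GolayPt → ℤ) (w : GolayPt → ℤ) := by
  classical
  obtain ⟨o, ho, hs⟩ := Golay.exists_octad
    (s := {(none : GolayPt), some 0, some 1, some 2, some 3}) (by decide)
  have hon : (none : GolayPt) ∈ o := hs (by simp)
  have ho0 : (some 0 : GolayPt) ∈ o := hs (by simp)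
  obtain ⟨q, hq⟩ : oᶜ.Nonempty := Finset.card_pos.1 (by
    rw [Finset.card_compl, card_pt, show o.card = 8 from ho.2]; norm_num)
  rw [Finset.mem_compl] at hq
  have hqn : q ≠ none := fun e => hq (e ▸ hon)
  obtain ⟨t, ht, u, hu⟩ : ∃ t : ℤ, (t = 0 ∨ t = 8) ∧ ∃ u : leechLattice, ∀ i,
      (if i ∈ o then -(w : GolayPt → ℤ) i else (w : GolayPt → ℤ) i) =
        (if i = none then t else 0) + (w : GolayPt → ℤ) i + 2 * (u : GolayPt → ℤ) i := by
    rcases h o ho.1 with hc | hc <;> obtain ⟨u, hu⟩ := cg_iff.1 hc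
    · refine ⟨0, Or.inl rfl, u, fun i => ?_⟩
      have := congrFun (congrArg Subtype.val hu) i
      rw [vec_signEl] at this
      simp only [AddSubgroup.coe_add, Pi.add_apply] at this
      rw [this, ite_self]; ring
    · refine ⟨8, Or.inr rfl, u, fun i => ?_⟩
      have := congrFun (congrArg Subtype.val hu) i
      rw [vec_signEl] at this
      simp only [AddSubgroup.coe_add, Pi.add_apply, coe_eightVec, Pi.single_apply] at this
      rw [this]; ring
  obtain ⟨m, a, hm, h1, -, -⟩ := exists_rep w.2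
  obtain ⟨n, b, hn, k1, -, k3⟩ := exists_rep u.2
  have hin : ∀ i ∈ o, -(w : GolayPt → ℤ) i = (if i = none then t else 0) + (w : GolayPt → ℤ) i + 2 * (u : GolayPt → ℤ) i :=
    fun i hi => by have := hu i; rwa [if_pos hi] at this
  have hout : ∀ i ∉ o, (u : GolayPt → ℤ) i = 0 := fun i hi => by
    have := hu i
    rw [if_neg hi, if_neg (fun e : i = none => hi (e ▸ hon))] at this
    omega
  have hn0 : n = 0 := by
    have := hout q hq
    rw [k1] at this
    omega
  have a1 := hin none hon
  have a2 := hin (some 0) ho0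
  rw [if_pos rfl] at a1
  rw [if_neg (by decide)] at a2
  rw [h1, k1, hn0] at a1 a2
  have hm0 : m = 0 := by omega
  -- the word of u is constant on the octad
  have hmem : ∀ i, i ∈ support₂ (Leech.mod2 b) ↔ ¬ (2 : ℤ) ∣ b i := fun i => by
    simp [support₂, Leech.mod2, ZMod.intCast_zmod_eq_zero_iff_dvd]
  have hc0 : (¬ (2 : ℤ) ∣ b none ↔ ¬ (2 : ℤ) ∣ b (some 0)) := by
    rw [← hmem, ← hmem]
    have hsub : support₂ (Leech.mod2 b) ⊆ o := fun i hi => by
      by_contra hio
      have hbi := hout i hio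
      rw [k1, hn0] at hbi
      have : b i = 0 := by omega
      exact (hmem i).1 hi (this ▸ dvd_zero _)
    have hw := Golay.card_mem_weights (show support₂ (Leech.mod2 b) ∈
      supports (golayCode : Set (GolayPt → ZMod 2)) from ⟨_, k3, rfl⟩)
    have hle := Finset.card_le_card hsub
    rw [show o.card = 8 from ho.2] at hle
    rcases (show (support₂ (Leech.mod2 b)).card = 0 ∨ (support₂ (Leech.mod2 b)).card = 8 by omega) with e | e
    · have := Finset.card_eq_zero.1 e
      have h1 : none ∉ support₂ (Leech.mod2 b) := by rw [this]; simp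
      have h2 : (some 0 : GolayPt) ∉ support₂ (Leech.mod2 b) := by rw [this]; simp
      simp [h1, h2]
    · have := Finset.eq_of_subset_of_card_le hsub (by rw [e, show o.card = 8 from ho.2])
      have h1 : none ∈ support₂ (Leech.mod2 b) := this ▸ hon
      have h2 : (some 0 : GolayPt) ∈ support₂ (Leech.mod2 b) := this ▸ ho0
      simp [h1, h2]
  rw [dotInt_comm, dotInt_baseU, show pO = some 0 from rfl, h1, h1, hm0]
  have hb2 : (2 : ℤ) ∣ b none - b (some 0) := by
    by_cases hh : (2 : ℤ) ∣ b none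
    · exact dvd_sub hh (not_not.1 fun h' => hc0.2 h' hh)
    · have := hc0.1 hh; omega
  rw [hm0] at a1 a2
  obtain ⟨d, hd⟩ := hb2
  refine Int.dvd_of_emod_eq_zero ?_
  rcases ht with e | e <;> rw [e] at a1 <;> omega

/-! ### Classes of norm 64 -/

/-- The diagonal elements. -/
def signs : Subgroup Co0 where
  carrier := {g | ∀ i, g • eightVec i = eightVec i ∨ g • eightVec i = -eightVec i}
  one_mem' := fun i => Or.inl (one_smul _ _)
  mul_mem' := by
    intro g h hg hh i
    rw [mul_smul]
    rcases hh i with a | a <;> rcases hg i with b | b <;> simp [a, b, smul_vneg]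
  inv_mem' := by
    intro g hg i
    rcases hg i with a | a
    · exact Or.inl (inv_smul_eq_iff.2 a.symm)
    · exact Or.inr (inv_smul_eq_iff.2 (by rw [smul_vneg, a, neg_neg]))

theorem mem_stdCross_cases {v : leechLattice} (h : (v : GolayPt → ℤ) ∈ stdCross) :
    ∃ i, v = eightVec i ∨ v = -eightVec i := by
  obtain ⟨i, s, hs, he⟩ := h
  refine ⟨i, ?_⟩
  rcases hs with rfl | rfl
  · exact Or.inl (Subtype.ext he)
  · exact Or.inr (Subtype.ext (by rw [he, AddSubgroup.coe_neg, coe_eightVec, Pi.single_neg]))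

theorem clsStab_eightVec : clsStab (eightVec none) = stdStab := by
  ext g
  refine ⟨fun h => (mem_stdCross_iff_congr none).2 ⟨by rw [sqNorm_smul, sqNorm_eightVec], h⟩,
    fun h => ((mem_stdCross_iff_congr none).1 h).2⟩

theorem signs_le : signs ≤ stdStab := fun g hg => by
  show ((g • eightVec none : leechLattice) : GolayPt → ℤ) ∈ stdCross
  rcases hg none with h | h <;> rw [h]
  · exact eightVec_mem_stdCross _
  · exact ⟨none, -8, Or.inr rfl, by rw [AddSubgroup.coe_neg, coe_eightVec, Pi.single_neg]⟩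

theorem signs_normal {g s : Co0} (hg : g ∈ stdStab) (hs : s ∈ signs) : g * s * g⁻¹ ∈ signs := by
  intro i
  obtain ⟨j, hj⟩ := mem_stdCross_cases (mem_stdStab_iff.1 (inv_mem hg) _ (eightVec_mem_stdCross i))
  have hgi : g • g⁻¹ • eightVec i = eightVec i := smul_inv_smul _ _
  rw [mul_smul, mul_smul]
  rcases hj with e | e <;> rw [e] at hgi ⊢ <;> rcases hs j with h | h
  · left; rw [h, hgi]
  · right; rw [h, smul_vneg, hgi]
  · left; rw [smul_vneg, h, hgi]
  · right; rw [smul_vneg, h, neg_neg]; rw [← hgi, smul_vneg, neg_neg]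

theorem signs_sq {g : Co0} (hg : g ∈ signs) : g * g = 1 := ext_frame fun i => by
  rw [mul_smul, one_smul]
  rcases hg i with h | h <;> simp [h, smul_vneg]

/-- The permutation matrices. -/
def permHom : M24 →* Co0 :=
  MonoidHom.mk' (fun σ => permEl σ.1 σ.2) fun σ τ => co0_ext fun v => Subtype.ext (funext fun i => by
    rw [vec_permEl, mul_smul, vec_permEl, vec_permEl]; rfl)

theorem permHom_apply (σ : M24) : permHom σ = mono σ.1 σ.2 ∅ Golay.empty_mem := rfl

theorem permHom_mem (σ : M24) : permHom σ ∈ stdStab :=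
  mono_mem_stdStab σ.1 σ.2 ∅ Golay.empty_mem

theorem permHom_disjoint {σ : M24} (h : permHom σ ∈ signs) : σ = 1 := by
  refine Subtype.ext (Equiv.ext fun i => ?_)
  show σ.1 i = i
  have hv : ((permHom σ • eightVec i : leechLattice) : GolayPt → ℤ) = Pi.single (σ.1 i) 8 := by
    rw [permHom_apply, vec_mono, coe_eightVec, signedPerm_single]; simp
  by_contra hne
  rcases h i with e | e <;> rw [e] at hv <;> have := congrFun hv (σ.1 i) <;>
    simp [coe_eightVec, hne] at this

theorem exists_decomp {g : Co0} (hg : g ∈ stdStab) : ∃ s ∈ signs, ∃ σ : M24, g = s * permHom σ := by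
  obtain ⟨σ, hσ, c, hc, rfl⟩ := exists_mono_of_mem hg
  refine ⟨signEl c hc, fun i => ?_, ⟨σ, hσ⟩, co0_ext fun v => Subtype.ext ?_⟩
  · by_cases h : i ∈ c
    · right
      refine Subtype.ext ?_
      rw [signEl, vec_mono, coe_eightVec, signedPerm_single, AddSubgroup.coe_neg, coe_eightVec]
      simp [h, Pi.single_neg]
    · left
      refine Subtype.ext ?_
      rw [signEl, vec_mono, coe_eightVec, signedPerm_single]
      simp [h]
  · rw [mul_smul, vec_signEl, permHom_apply, vec_mono, vec_mono]
    funext i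
    simp [signedPerm]

theorem natCard_signs : Nat.card signs = 4096 := by
  let f : signs × M24 → stdStab := fun p =>
    ⟨p.1.1 * permHom p.2, mul_mem (signs_le p.1.2) (permHom_mem p.2)⟩
  have hf : Function.Bijective f := by
    refine ⟨fun p q h => ?_, fun g => ?_⟩
    · have h' : p.1.1 * permHom p.2 = q.1.1 * permHom q.2 := congrArg Subtype.val h
      have h2 : p.2 * q.2⁻¹ = 1 := permHom_disjoint (by
        rw [map_mul, map_inv]
        convert mul_mem (inv_mem p.1.2) q.1.2 using 1
        rw [eq_inv_mul_iff_mul_eq, ← mul_assoc, h', mul_inv_cancel_right])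
      rw [mul_inv_eq_one] at h2
      rw [h2] at h'
      exact Prod.ext (Subtype.ext (mul_right_cancel h')) h2
    · obtain ⟨s, hs, σ, he⟩ := exists_decomp g.2
      exact ⟨(⟨s, hs⟩, σ), Subtype.ext he.symm⟩
  have h := Nat.card_congr (Equiv.ofBijective f hf)
  rw [Nat.card_prod, natCard_stdStab, Golay.natCard_M24] at h
  exact Nat.eq_of_mul_eq_mul_right (by norm_num : 0 < 244823040) h

theorem two_group_le_signs {E : Subgroup Co0} (hE : IsPGroup 2 E) (hle : E ≤ stdStab)
    (hn : ∀ g ∈ stdStab, ∀ e ∈ E, g * e * g⁻¹ ∈ E) : E ≤ signs := by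
  haveI : Fact (Nat.Prime 2) := ⟨Nat.prime_two⟩
  set F := E ⊔ signs
  have hF : IsPGroup 2 F := IsPGroup.to_sup_of_normal_right' hE
    (IsPGroup.of_card (n := 12) (by rw [natCard_signs]; norm_num))
    (fun e he => Subgroup.mem_normalizer_fintype fun s hs => signs_normal (hle he) hs)
  haveI : (F.comap permHom).Normal := ⟨fun x hx σ => by
    rw [Subgroup.mem_comap, map_mul, map_mul, map_inv]
    have : F ≤ F.comap (MulAut.conj (permHom σ)).toMonoidHom := sup_le
      (fun y hy => Subgroup.mem_sup_left (hn _ (permHom_mem σ) y hy))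
      (fun y hy => Subgroup.mem_sup_right (signs_normal (permHom_mem σ) hy))
    exact this hx⟩
  haveI := Golay.isSimpleGroup_m24
  intro e he
  obtain ⟨s, hs, σ, rfl⟩ := exists_decomp (hle he)
  have hσ : σ ∈ F.comap permHom := by
    rw [Subgroup.mem_comap]
    have := mul_mem (inv_mem (Subgroup.mem_sup_right hs : s ∈ F)) (Subgroup.mem_sup_left he : s * permHom σ ∈ F)
    rwa [inv_mul_cancel_left] at this
  rcases (inferInstance : (F.comap permHom).Normal).eq_bot_or_eq_top with h | h
  · rw [h, Subgroup.mem_bot] at hσ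
    rw [hσ, map_one, mul_one]
    exact hs
  · exfalso
    have hinj : Function.Injective permHom := (injective_iff_map_eq_one permHom).2 fun a ha =>
      permHom_disjoint (ha ▸ one_mem _)
    have hr : permHom.range ≤ F := by
      rintro _ ⟨a, rfl⟩
      exact Subgroup.mem_comap.1 (h ▸ Subgroup.mem_top a)
    obtain ⟨n, hn'⟩ := IsPGroup.iff_card.mp (hF.to_le hr)
    rw [← Nat.card_congr (MonoidHom.ofInjective hinj).toEquiv, Golay.natCard_M24] at hn'
    have h3 : 3 ∣ 2 := Nat.prime_three.dvd_of_dvd_pow (hn' ▸ (by norm_num : 3 ∣ 244823040))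
    norm_num at h3

/-- The structure of the stabiliser of a class of norm 64. -/
structure Frame (v : leechLattice) where
  /-- The diagonal part. -/
  S : Subgroup Co0
  /-- The permutation part. -/
  perm : M24 →* Co0
  card_S : Nat.card S = 4096
  S_sq : ∀ a ∈ S, a * a = 1
  center_le : Subgroup.center Co0 ≤ S
  S_le : S ≤ clsStab v
  perm_mem : ∀ σ, perm σ ∈ clsStab v
  disjoint : ∀ σ, perm σ ∈ S → σ = 1
  decomp : ∀ g ∈ clsStab v, ∃ s ∈ S, ∃ σ, g = s * perm σ
  two_le : ∀ E : Subgroup Co0, IsPGroup 2 E → E ≤ clsStab v →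
    (∀ g ∈ clsStab v, ∀ e ∈ E, g * e * g⁻¹ ∈ E) → E ≤ S

theorem exists_frame {v : leechLattice} (hv : sqNorm (v : GolayPt → ℤ) = 64) : Nonempty (Frame v) := by
  obtain ⟨k, hk⟩ := transitive (w := eightVec none) (Or.inr (Or.inr hv)) (by rw [sqNorm_eightVec, hv])
  have hst : ∀ g : Co0, g ∈ clsStab v ↔ k * g * k⁻¹ ∈ stdStab := by
    intro g
    rw [← clsStab_eightVec, mem_clsStab, mem_clsStab, mul_smul, mul_smul]
    have hk' := hk.smul k⁻¹
    rw [inv_smul_smul] at hk'
    refine ⟨fun h => ((hk'.symm.smul g).smul k).trans ((h.smul k).trans hk), fun h => ?_⟩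
    have h' := h.smul k⁻¹
    rw [inv_smul_smul] at h'
    exact (hk'.smul g).trans (h'.trans hk'.symm)
  have hmap : ∀ (H : Subgroup Co0) (g : Co0), g ∈ H.comap (MulAut.conj k).toMonoidHom ↔ k * g * k⁻¹ ∈ H :=
    fun H g => Iff.rfl
  refine ⟨{
    S := signs.comap (MulAut.conj k).toMonoidHom
    perm := (MulAut.conj k⁻¹).toMonoidHom.comp permHom
    card_S := ?_
    S_sq := fun a ha => ?_
    center_le := fun a ha => ?_
    S_le := fun a ha => (hst a).2 (signs_le ha)
    perm_mem := fun σ => (hst _).2 (by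
      have := permHom_mem σ
      simpa [mul_assoc] using this)
    disjoint := fun σ h => permHom_disjoint (by simpa [mul_assoc] using (hmap _ _).1 h)
    decomp := fun g hg => ?_
    two_le := fun E hE hle hn a ha => ?_ }⟩
  · rw [← natCard_signs]
    exact Nat.card_congr
      { toFun := fun a => ⟨k * a.1 * k⁻¹, a.2⟩
        invFun := fun b => ⟨k⁻¹ * b.1 * k, (hmap _ _).2 (by simp [mul_assoc])⟩
        left_inv := fun a => Subtype.ext (by simp [mul_assoc])
        right_inv := fun b => Subtype.ext (by simp [mul_assoc]) }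
  · have h := signs_sq ((hmap _ _).1 ha)
    have : k * (a * a) * k⁻¹ = 1 := by rw [← h]; group
    exact conj_eq_one_iff.mp this
  · rw [hmap, Subgroup.mem_center_iff.1 ha k, mul_inv_cancel_right]
    rcases center_eq ha with rfl | rfl
    · exact one_mem _
    · exact fun i => Or.inr (negOne_smul _)
  · obtain ⟨s, hs, σ, he⟩ := exists_decomp ((hst g).1 hg)
    refine ⟨k⁻¹ * s * k, (hmap _ _).2 (by simpa [mul_assoc] using hs), σ, ?_⟩
    have : g = k⁻¹ * (k * g * k⁻¹) * k := by group
    rw [this, he]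
    simp [mul_assoc]
  · refine (hmap _ _).2 (two_group_le_signs (E := E.map (MulAut.conj k).toMonoidHom) (hE.map _) ?_ ?_ ⟨a, ha, rfl⟩)
    · rintro _ ⟨y, hy, rfl⟩
      exact (hst y).1 (hle hy)
    · rintro g hg _ ⟨y, hy, rfl⟩
      refine ⟨(k⁻¹ * g * k) * y * (k⁻¹ * g * k)⁻¹, hn _ ((hst _).2 (by simpa [mul_assoc] using hg)) y hy, ?_⟩
      simp [mul_assoc]

end Cfsg.Agent.MonsterLattice
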