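import Cfsg.Agent.Lib.LargeExtraspecial.MonsterLattice
import Cfsg.Agent.Lib.LargeExtraspecial.Quotient
import Cfsg.Agent.Lib.LargeExtraspecial.Simple
import Cfsg.Agent.Lib.LargeExtraspecial.LeechQuad
import Cfsg.Agent.Lib.Extraspecial.Basic
import Cfsg.Prelude.Def_MonsterType

/-!
# Groups of Monster type at (z, Q)

* `Monster Q z` : the identification of `C(z)/Q` and `Q/Z(Q)` as a relation between lattice vectors and
  elements of `Q`;  `Monster.ofIso` builds it from `IsLeechModTwoIso`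
* `Monster.rep64`, `Monster.conj64`, `Monster.conj_of_norm` : conjugates of z in Q are the classes of norm 64
* `Monster.card_inter`, `Monster.split` : the stabiliser of a conjugate
-/

set_option autoImplicit false
open scoped commutatorElement
open Cfsg

namespace Cfsg.Agent.Monster

open LargeExtraspecial MonsterLattice

variable {G : Type*} [Group G]

theorem natCard_map_mul {H K : Type*} [Group H] [Group K] (f : H →* K) (A : Subgroup H) :
    Nat.card (A.map f) * Nat.card (A ⊓ f.ker : Subgroup H) = Nat.card A := by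
  have h1 := Subgroup.card_eq_card_quotient_mul_card_subgroup (f.comp A.subtype).ker
  have h2 : Nat.card (A ⧸ (f.comp A.subtype).ker) = Nat.card (A.map f) := by
    rw [Nat.card_congr (QuotientGroup.quotientKerEquivRange (f.comp A.subtype)).toEquiv]
    have : (f.comp A.subtype).range = A.map f := by
      ext x
      constructor
      · rintro ⟨a, rfl⟩; exact ⟨a, a.2, rfl⟩
      · rintro ⟨a, ha, rfl⟩; exact ⟨⟨a, ha⟩, rfl⟩
    rw [this]
  have h3 : (f.comp A.subtype).ker.map A.subtype = A ⊓ f.ker := by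
    ext x
    constructor
    · rintro ⟨a, ha, rfl⟩; exact ⟨a.2, ha⟩
    · rintro ⟨hx, hk⟩; exact ⟨⟨x, hx⟩, hk, rfl⟩
  rw [h1, h2, ← h3, Subgroup.card_subtype]

/-- The Monster-type data. -/
structure Setting (Q : Subgroup G) (z : G) where
  /-- `x` is a lift of the class of `v`. -/
  rel : leechLattice → G → Prop
  /-- The map onto the first Conway group. -/
  κ : Subgroup.centralizer ({z} : Set G) →* Spor.Co1
  D : Data Q z
  extra : Cfsg.IsExtraspecial 2 ↥Q
  card_Q : Nat.card Q = 2 ^ 25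
  κ_surj : Function.Surjective κ
  κ_ker : ∀ h, κ h = 1 ↔ (h : G) ∈ Q
  rel_mem : ∀ {v x}, rel v x → x ∈ Q
  exists_rel : ∀ v, ∃ x, rel v x
  rel_surj : ∀ x ∈ Q, ∃ v, rel v x
  rel_z : ∀ {v x}, rel v x → rel v (x * z)
  rel_cg : ∀ {v w x y}, rel v x → rel w y → (Cg v w ↔ (y = x ∨ y = x * z))
  rel_add : ∀ {v w x y}, rel v x → rel w y → rel (v + w) (x * y)
  rel_equiv : ∀ (g : Co0) (h : Subgroup.centralizer ({z} : Set G)),
    (QuotientGroup.mk g : Spor.Co1) = κ h → ∀ {v x}, rel v x → rel (g • v) (h * x * (h : G)⁻¹)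
  exists_conj : ∃ g : G, g * z * g⁻¹ ∈ Q ∧ g * z * g⁻¹ ≠ z

/-- The relation attached to an identification. -/
def relOf {z : G} (Q : Subgroup (Subgroup.centralizer ({z} : Set G)))
    (ψ : leechLattice → Q ⧸ Subgroup.center Q) (v : leechLattice) (x : G) : Prop :=
  ∃ q : Q, ψ v = QuotientGroup.mk q ∧ ((q : Subgroup.centralizer ({z} : Set G)) : G) = x

theorem exists_setting [Finite G] {z : G} {Q : Subgroup (Subgroup.centralizer ({z} : Set G))} [Q.Normal]
    (hs : IsExtraspecialCentralizerSetting z Q 12)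
    {e : (Subgroup.centralizer ({z} : Set G)) ⧸ Q ≃* Spor.Co1} {ψ : leechLattice → Q ⧸ Subgroup.center Q}
    (hψ : IsLeechModTwoIso Q e ψ) :
    ∃ M : Setting (Q.map (Subgroup.centralizer ({z} : Set G)).subtype) z,
      M.rel = relOf Q ψ ∧ M.κ = e.toMonoidHom.comp (QuotientGroup.mk' Q) := by
  obtain ⟨hz, hF, hQ, hcard, g, ⟨hgC, hgQ⟩, hgz⟩ := hs
  obtain ⟨hadd, hsurj, hker, hconj⟩ := hψ
  let Q' := Q.map (Subgroup.centralizer ({z} : Set G)).subtype
  let iso : Q ≃* Q' := Subgroup.equivMapOfInjective Q (Subgroup.centralizer ({z} : Set G)).subtype (Subgroup.centralizer ({z} : Set G)).subtype_injective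
  have hex : Cfsg.IsExtraspecial 2 ↥Q' := isExtraspecial_congr iso hQ
  obtain ⟨D, -⟩ := Data.of_generalizedFitting hz (Q := Q') (by rw [hF]) hex
  have hzz := D.z_sq
  obtain ⟨zc', hzQ, hzc⟩ := D.z_mem
  have hcenter : ∀ c : Q, c ∈ Subgroup.center Q ↔ ((c : Subgroup.centralizer ({z} : Set G)) : G) = 1 ∨ ((c : Subgroup.centralizer ({z} : Set G)) : G) = z := by
    intro c
    constructor
    · intro hc
      refine D.cent _ ?_
      rintro _ ⟨q, hq, rfl⟩
      exact congrArg (fun a : Q => ((a : Subgroup.centralizer ({z} : Set G)) : G)) (Subgroup.mem_center_iff.1 hc ⟨q, hq⟩)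
    · intro hc
      refine Subgroup.mem_center_iff.2 fun q => Subtype.ext (Subtype.ext ?_)
      show ((q : Subgroup.centralizer ({z} : Set G)) : G) * (c : Subgroup.centralizer ({z} : Set G)) = (c : Subgroup.centralizer ({z} : Set G)) * (q : Subgroup.centralizer ({z} : Set G))
      rcases hc with h | h <;> rw [h]
      · simp
      · exact Subgroup.mem_centralizer_singleton_iff.1 (q : Subgroup.centralizer ({z} : Set G)).2
  have hcg : ∀ v w, Cg v w ↔ ψ v = ψ w := by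
    intro v w
    rw [cg_iff]
    constructor
    · rintro ⟨u, rfl⟩
      rw [hadd, (hker (u + u)).2 ⟨u, rfl⟩, mul_one]
    · intro h
      have h1 : ψ (v - w) = 1 := by
        have h2 := hadd (v - w) w
        rw [sub_add_cancel, h] at h2
        exact mul_eq_right.1 h2.symm
      obtain ⟨u, hu⟩ := (hker _).1 h1
      exact ⟨u, by rw [← hu]; abel⟩
  refine ⟨{
    rel := relOf Q ψ
    κ := e.toMonoidHom.comp (QuotientGroup.mk' Q)
    D := D
    extra := hex
    card_Q := ?_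
    κ_surj := e.surjective.comp (QuotientGroup.mk'_surjective Q)
    κ_ker := fun h => ?_
    rel_mem := ?_
    exists_rel := fun v => ⟨_, (ψ v).out, (Quotient.out_eq _).symm, rfl⟩
    rel_surj := ?_
    rel_z := ?_
    rel_cg := ?_
    rel_add := ?_
    rel_equiv := ?_
    exists_conj := ⟨g, ⟨_, hgQ, rfl⟩, hgz⟩ }, rfl, rfl⟩
  · rw [Subgroup.card_subtype, hcard]
  · show e (QuotientGroup.mk h) = 1 ↔ _
    rw [EmbeddingLike.map_eq_one_iff, QuotientGroup.eq_one_iff]
    exact ⟨fun hh => ⟨h, hh, rfl⟩, fun ⟨a, ha, he⟩ => (Subtype.ext he : a = h) ▸ ha⟩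
  · rintro v x ⟨q, -, rfl⟩
    exact ⟨q, q.2, rfl⟩
  · rintro _ ⟨q, hq, rfl⟩
    obtain ⟨v, hv⟩ := hsurj (QuotientGroup.mk ⟨q, hq⟩)
    exact ⟨v, _, hv, rfl⟩
  · rintro v _ ⟨q, hq, rfl⟩
    refine ⟨q * ⟨zc', hzQ⟩, ?_, congrArg _ hzc⟩
    rw [hq, QuotientGroup.mk_mul, (QuotientGroup.eq_one_iff _).2 ((hcenter ⟨zc', hzQ⟩).2 (Or.inr hzc)),
      mul_one]
  · rintro v w _ _ ⟨q, hq, rfl⟩ ⟨r, hr, rfl⟩
    rw [hcg, hq, hr, QuotientGroup.eq, hcenter]
    show (((q : Subgroup.centralizer ({z} : Set G)) : G)⁻¹ * (r : Subgroup.centralizer ({z} : Set G)) = 1 ∨ ((q : Subgroup.centralizer ({z} : Set G)) : G)⁻¹ * (r : Subgroup.centralizer ({z} : Set G)) = z) ↔ _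
    rw [inv_mul_eq_one, inv_mul_eq_iff_eq_mul, eq_comm]
  · rintro v w _ _ ⟨q, hq, rfl⟩ ⟨r, hr, rfl⟩
    exact ⟨q * r, by rw [hadd, hq, hr, QuotientGroup.mk_mul], rfl⟩
  · rintro k h hk v _ ⟨q, hq, rfl⟩
    exact ⟨_, hconj h k hk v q hq, rfl⟩

theorem exists_setting_of_type [Finite G] {z : G} {Q : Subgroup (Subgroup.centralizer ({z} : Set G))}
    [Q.Normal] (hM : Cfsg.IsOfMonsterType z Q) :
    ∃ (e : (Subgroup.centralizer ({z} : Set G)) ⧸ Q ≃* Spor.Co1)
      (M : Setting (Q.map (Subgroup.centralizer ({z} : Set G)).subtype) z),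
      M.κ = e.toMonoidHom.comp (QuotientGroup.mk' Q) := by
  obtain ⟨hs, e, ψ, hψ⟩ := hM
  obtain ⟨M, -, hκ⟩ := exists_setting hs hψ
  exact ⟨e, M, hκ⟩

namespace Setting

variable {Q : Subgroup G} {z : G} (M : Setting Q z)

include M

theorem mem_centralizer {x : G} (hx : x ∈ Q) : x ∈ Subgroup.centralizer ({z} : Set G) :=
  Subgroup.mem_centralizer_singleton_iff.2 (M.D.z_central x hx)

theorem exists_lift (g : Co0) :
    ∃ h : Subgroup.centralizer ({z} : Set G), (QuotientGroup.mk g : Spor.Co1) = M.κ h := by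
  obtain ⟨h, hh⟩ := M.κ_surj (QuotientGroup.mk g)
  exact ⟨h, hh.symm⟩

theorem rel_of_cg {v w : leechLattice} {x : G} (h : M.rel v x) (hc : Cg v w) : M.rel w x := by
  obtain ⟨y, hy⟩ := M.exists_rel w
  rcases (M.rel_cg h hy).1 hc with rfl | rfl
  · exact hy
  · have h1 := M.rel_z hy
    rwa [mul_assoc, M.D.z_sq, mul_one] at h1

theorem rel_zero {x : G} (h : M.rel 0 x) : x = 1 ∨ x = z := by
  have h2 : M.rel 0 (x * x) := by simpa using M.rel_add h h
  rcases (M.rel_cg h h2).1 (cg_refl _) with e | e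
  · exact Or.inl (mul_eq_left.1 e)
  · exact Or.inr (mul_left_cancel e)

theorem ne_of_rel {v : leechLattice} {x : G} (h : M.rel v x)
    (hv : sqNorm (v : GolayPt → ℤ) = 32 ∨ sqNorm (v : GolayPt → ℤ) = 48 ∨
      sqNorm (v : GolayPt → ℤ) = 64) : x ≠ 1 ∧ x ≠ z := by
  obtain ⟨y, hy⟩ := M.exists_rel 0
  have key : x = 1 ∨ x = z → Cg v 0 := fun hx => by
    refine (M.rel_cg h hy).2 ?_
    rcases M.rel_zero hy with rfl | rfl <;> rcases hx with rfl | rfl <;> simp [M.D.z_sq]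
  exact ⟨fun e => not_cg_zero hv (key (Or.inl e)), fun e => not_cg_zero hv (key (Or.inr e))⟩

theorem classify {x : G} (hx : x ∈ Q) (hx1 : x ≠ 1) (hxz : x ≠ z) :
    ∃ v, M.rel v x ∧ (sqNorm (v : GolayPt → ℤ) = 32 ∨ sqNorm (v : GolayPt → ℤ) = 48 ∨
      sqNorm (v : GolayPt → ℤ) = 64) := by
  obtain ⟨v, hv⟩ := M.rel_surj x hx
  obtain ⟨w, hc, rfl | hw⟩ := MonsterLattice.classify v
  · rcases M.rel_zero (M.rel_of_cg hv hc) with e | e
    exacts [absurd e hx1, absurd e hxz]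
  · exact ⟨w, M.rel_of_cg hv hc, hw⟩

/-- Conjugating a lift of one class onto a lift of another. -/
theorem exists_conj_lift {v w : leechLattice} {x y : G} (hx : M.rel v x) (hy : M.rel w y)
    (hw : sqNorm (w : GolayPt → ℤ) = 32 ∨ sqNorm (w : GolayPt → ℤ) = 48 ∨
      sqNorm (w : GolayPt → ℤ) = 64) {g : Co0} (hg : Cg (g • v) w) :
    ∃ h : Subgroup.centralizer ({z} : Set G), (QuotientGroup.mk g : Spor.Co1) = M.κ h ∧
      (h : G) * x * (h : G)⁻¹ = y := by
  obtain ⟨h, hh⟩ := M.exists_lift g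
  have h1 := M.rel_of_cg (M.rel_equiv g h hh hx) hg
  rcases (M.rel_cg h1 hy).1 (cg_refl _) with e | e
  · exact ⟨h, hh, e.symm⟩
  obtain ⟨hn1, hnz⟩ := M.ne_of_rel h1 hw
  obtain ⟨q, hq, hqe⟩ := M.D.exists_conj_eq (M.rel_mem h1) hn1 hnz
  refine ⟨⟨q, M.mem_centralizer hq⟩ * h, ?_, ?_⟩
  · rw [map_mul, (M.κ_ker ⟨q, M.mem_centralizer hq⟩).2 hq, one_mul, hh]
  · rw [e, ← hqe]
    simp [mul_assoc]

theorem conj_of_norm {v w : leechLattice} {x y : G} (hx : M.rel v x) (hy : M.rel w y)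
    (hv : sqNorm (v : GolayPt → ℤ) = 32 ∨ sqNorm (v : GolayPt → ℤ) = 48 ∨
      sqNorm (v : GolayPt → ℤ) = 64)
    (he : sqNorm (w : GolayPt → ℤ) = sqNorm (v : GolayPt → ℤ)) :
    ∃ h ∈ Subgroup.centralizer ({z} : Set G), h * x * h⁻¹ = y := by
  obtain ⟨g, hg⟩ := transitive hv he
  obtain ⟨h, -, hh⟩ := M.exists_conj_lift hx hy (he ▸ hv) hg
  exact ⟨h, h.2, hh⟩

/-! ### Squares -/

open Classical in
/-- The squaring form. -/
noncomputable def f (v : leechLattice) : ZMod 2 := if ∃ x, M.rel v x ∧ x * x ≠ 1 then 1 else 0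

open Classical in
theorem f_eq {v : leechLattice} {x : G} (h : M.rel v x) : M.f v = if x * x = 1 then 0 else 1 := by
  have hsq : ∀ y, M.rel v y → y * y = x * x := fun y hy => by
    rcases (M.rel_cg h hy).1 (cg_refl _) with rfl | rfl
    · rfl
    · calc x * z * (x * z) = x * (z * x) * z := by group
        _ = x * (x * z) * z := by rw [M.D.z_central x (M.rel_mem h)]
        _ = x * x * (z * z) := by group
        _ = x * x := by rw [M.D.z_sq, mul_one]
  rw [f]
  by_cases hx : x * x = 1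
  · rw [if_pos hx, if_neg]
    rintro ⟨y, hy, hne⟩
    exact hne (by rw [hsq y hy, hx])
  · rw [if_neg hx, if_pos ⟨x, h, hx⟩]

open Classical in
theorem pol_f {v w : leechLattice} {x y : G} (hx : M.rel v x) (hy : M.rel w y) :
    LeechQuad.pol M.f v w = if ⁅x⁻¹, y⁆ = 1 then 0 else 1 := by
  have e : (x * y) * (x * y) = (x * x) * ⁅x⁻¹, y⁆ * (y * y) := by
    rw [commutatorElement_def]; group
  rw [LeechQuad.pol, M.f_eq (M.rel_add hx hy), M.f_eq hx, M.f_eq hy, e]
  rcases M.D.sq (M.rel_mem hx) with a | a <;> rcases M.D.sq (M.rel_mem hy) with b | b <;>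
    rcases M.D.comm _ (inv_mem (M.rel_mem hx)) _ (M.rel_mem hy) with c | c <;>
    simp [a, b, c, M.D.z_ne, M.D.z_sq] <;> decide

theorem pol_f_add (u v w : leechLattice) :
    LeechQuad.pol M.f (u + v) w = LeechQuad.pol M.f u w + LeechQuad.pol M.f v w := by
  classical
  obtain ⟨a, ha⟩ := M.exists_rel u
  obtain ⟨b, hb⟩ := M.exists_rel v
  obtain ⟨y, hy⟩ := M.exists_rel w
  rw [M.pol_f (M.rel_add ha hb) hy, M.pol_f ha hy, M.pol_f hb hy, mul_inv_rev,
    M.D.comm_mul_left (inv_mem (M.rel_mem hb)) (inv_mem (M.rel_mem ha)) (M.rel_mem hy)]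
  rcases M.D.comm _ (inv_mem (M.rel_mem ha)) _ (M.rel_mem hy) with c | c <;>
    rcases M.D.comm _ (inv_mem (M.rel_mem hb)) _ (M.rel_mem hy) with d | d <;>
    simp [c, d, M.D.z_ne, M.D.z_sq] <;> decide

theorem f_cg {v w : leechLattice} (h : Cg v w) : M.f v = M.f w := by
  obtain ⟨x, hx⟩ := M.exists_rel v
  rw [M.f_eq hx, M.f_eq (M.rel_of_cg hx h)]

theorem f_smul (g : Co0) (v : leechLattice) : M.f (g • v) = M.f v := by
  obtain ⟨x, hx⟩ := M.exists_rel v
  obtain ⟨h, hh⟩ := M.exists_lift g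
  rw [M.f_eq hx, M.f_eq (M.rel_equiv g h hh hx)]
  congr 1
  rw [conj_mul, conj_eq_one_iff]

theorem f_four (x : LeechQuad.evenSum) : M.f (LeechQuad.four x) = 0 :=
  LeechQuad.quad_four_eq_zero M.pol_f_add (fun _ w => M.f_cg (cg_iff.2 ⟨w, rfl⟩)) M.f_smul x

theorem f_baseU : M.f Leech.baseU = 0 := by
  rw [show Leech.baseU = LeechQuad.four ⟨_, LeechQuad.single_pair_mem none (some 0)⟩ from
    Subtype.ext (by decide +kernel)]
  exact M.f_four _

theorem f_eightVec : M.f (Leech.eightVec none) = 0 := by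
  rw [show Leech.eightVec none = LeechQuad.four ⟨_, LeechQuad.eight_mem none⟩ from
    Subtype.ext (by decide +kernel)]
  exact M.f_four _

theorem f_eq_zero {v : leechLattice} (hv : sqNorm (v : GolayPt → ℤ) = 32 ∨
    sqNorm (v : GolayPt → ℤ) = 64) : M.f v = 0 := by
  rcases hv with hv | hv
  · obtain ⟨g, hg⟩ := transitive (w := Leech.baseU) (Or.inl hv) (by rw [Leech.sqNorm_baseU, hv])
    rw [← M.f_smul g v, M.f_cg hg, M.f_baseU]
  · obtain ⟨g, hg⟩ := transitive (w := Leech.eightVec none) (Or.inr (Or.inr hv))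
      (by rw [Leech.sqNorm_eightVec, hv])
    rw [← M.f_smul g v, M.f_cg hg, M.f_eightVec]

theorem f_ne_zero [Finite G] {v : leechLattice} (hv : sqNorm (v : GolayPt → ℤ) = 48) : M.f v ≠ 0 := by
  intro h0
  have hsq : ∀ x ∈ Q, x * x = 1 := by
    intro x hx
    by_cases h1 : x = 1
    · simp [h1]
    by_cases h2 : x = z
    · rw [h2, M.D.z_sq]
    obtain ⟨w, hw, hn⟩ := M.classify hx h1 h2
    have hfw : M.f w = 0 := by
      rcases hn with hn | hn | hn
      · exact M.f_eq_zero (Or.inl hn)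
      · obtain ⟨g, hg⟩ := transitive (v := v) (w := w) (Or.inr (Or.inl hv)) (by rw [hv, hn])
        rw [← M.f_cg hg, M.f_smul, h0]
      · exact M.f_eq_zero (Or.inr hn)
    by_contra hne
    rw [M.f_eq hw, if_neg hne] at hfw
    exact one_ne_zero hfw
  have hab : ∀ x ∈ Q, x = 1 ∨ x = z := fun x hx => M.D.cent x fun q hq => by
    have h := hsq _ (mul_mem hq hx)
    calc q * x = (q * x)⁻¹ := eq_inv_of_mul_eq_one_left h
      _ = x⁻¹ * q⁻¹ := mul_inv_rev q x
      _ = x * q := by rw [← eq_inv_of_mul_eq_one_left (hsq x hx), ← eq_inv_of_mul_eq_one_left (hsq q hq)]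
  classical
  have := Nat.card_le_card_of_injective (fun x : Q => decide ((x : G) = 1)) fun a b hab' => by
    rcases hab a a.2 with ha | ha <;> rcases hab b b.2 with hb | hb <;>
      simp [ha, hb, M.D.z_ne] at hab' <;> exact Subtype.ext (ha.trans hb.symm)
  rw [M.card_Q] at this
  simp at this

theorem classify_sq_one [Finite G] {x : G} (hx : x ∈ Q) (hxx : x * x = 1) (hx1 : x ≠ 1) (hxz : x ≠ z) :
    ∃ v, M.rel v x ∧ (sqNorm (v : GolayPt → ℤ) = 32 ∨ sqNorm (v : GolayPt → ℤ) = 64) := by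
  obtain ⟨v, hv, h | h | h⟩ := M.classify hx hx1 hxz
  · exact ⟨v, hv, Or.inl h⟩
  · exact absurd (by rw [M.f_eq hv, if_pos hxx]) (M.f_ne_zero h)
  · exact ⟨v, hv, Or.inr h⟩

/-! ### A conjugate of z in Q -/

/-- The image in the first Conway group of `g Q g⁻¹ ∩ C(z)`. -/
def E0 (g : G) : Subgroup Spor.Co1 :=
  ((conjS g Q).subgroupOf (Subgroup.centralizer ({z} : Set G))).map M.κ

/-- Its preimage in `Co0`. -/
def Epre (g : G) : Subgroup Co0 := (M.E0 g).comap (QuotientGroup.mk' (Subgroup.center Co0))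

theorem natCard_Epre (g : G) : Nat.card (M.Epre g) = 2 * Nat.card (M.E0 g) := by
  have h := natCard_map_mul (QuotientGroup.mk' (Subgroup.center Co0)) (M.Epre g)
  have h1 : (M.Epre g).map (QuotientGroup.mk' (Subgroup.center Co0)) = M.E0 g :=
    Subgroup.map_comap_eq_self_of_surjective (QuotientGroup.mk'_surjective _) _
  have h2 : M.Epre g ⊓ (QuotientGroup.mk' (Subgroup.center Co0)).ker = Subgroup.center Co0 := by
    rw [inf_eq_right.2 (show (QuotientGroup.mk' (Subgroup.center Co0)).ker ≤ M.Epre g from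
      Subgroup.ker_le_comap _ _), QuotientGroup.ker_mk']
  rw [h1, h2, Leech.natCard_center] at h
  exact h.symm.trans (Nat.mul_comm _ _)

theorem isPGroup_Epre [Finite G] (g : G) : IsPGroup 2 (M.Epre g) := by
  haveI : Fact (Nat.Prime 2) := ⟨Nat.prime_two⟩
  have h1 : IsPGroup 2 (conjS g Q) := (isPGroup_of_extraspecial M.extra).map _
  have h2 : IsPGroup 2 (M.E0 g) := h1.comap_subtype.map _
  obtain ⟨n, hn⟩ := IsPGroup.iff_card.mp h2
  exact IsPGroup.of_card (n := n + 1) (by rw [M.natCard_Epre, hn]; ring)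

/-- The stabiliser of a class maps onto the image of the centraliser of a lift. -/
theorem map_centralizer {v : leechLattice} {s : G} (hs : M.rel v s)
    (hv : sqNorm (v : GolayPt → ℤ) = 32 ∨ sqNorm (v : GolayPt → ℤ) = 48 ∨
      sqNorm (v : GolayPt → ℤ) = 64) :
    ((Subgroup.centralizer ({s} : Set G)).subgroupOf (Subgroup.centralizer ({z} : Set G))).map M.κ =
      (clsStab v).map (QuotientGroup.mk' (Subgroup.center Co0)) := by
  ext a
  constructor
  · rintro ⟨h, hh, rfl⟩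
    obtain ⟨g, hg⟩ := QuotientGroup.mk_surjective (M.κ h)
    refine ⟨g, ?_, hg⟩
    have h1 := M.rel_equiv g h hg hs
    have hh' : (h : G) * s = s * h := Subgroup.mem_centralizer_singleton_iff.1 (Subgroup.mem_subgroupOf.1 hh)
    rw [hh', mul_inv_cancel_right] at h1
    exact (M.rel_cg h1 hs).2 (Or.inl rfl)
  · rintro ⟨g, hg, rfl⟩
    obtain ⟨h, hh, he⟩ := M.exists_conj_lift hs hs hv (g := g) hg
    exact ⟨h, Subgroup.mem_centralizer_singleton_iff.2 (mul_inv_eq_iff_eq_mul.1 he), hh.symm⟩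

theorem E0_le [Finite G] (g : G) {v : leechLattice} (hs : M.rel v (g * z * g⁻¹))
    (hv : sqNorm (v : GolayPt → ℤ) = 32 ∨ sqNorm (v : GolayPt → ℤ) = 48 ∨
      sqNorm (v : GolayPt → ℤ) = 64) :
    M.Epre g ≤ clsStab v ∧ ∀ k ∈ clsStab v, ∀ e ∈ M.Epre g, k * e * k⁻¹ ∈ M.Epre g := by
  have DP := M.D.conjugate g
  refine ⟨fun e he => ?_, fun k hk e he => ?_⟩
  · obtain ⟨r, hr, hre⟩ := Subgroup.mem_comap.1 he
    have hm : r ∈ (Subgroup.centralizer ({g * z * g⁻¹} : Set G)).subgroupOf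
        (Subgroup.centralizer ({z} : Set G)) :=
      Subgroup.mem_centralizer_singleton_iff.2 (DP.z_central r hr)
    have h1 : M.κ r ∈ (clsStab v).map (QuotientGroup.mk' (Subgroup.center Co0)) :=
      M.map_centralizer hs hv ▸ ⟨r, hm, rfl⟩
    obtain ⟨k, hk, hke⟩ := h1
    rw [hre, QuotientGroup.mk'_eq_mk'] at hke
    obtain ⟨c, hc, rfl⟩ := hke
    exact mul_mem hk (center_le_clsStab v hc)
  · obtain ⟨r, hr, hre⟩ := Subgroup.mem_comap.1 he
    obtain ⟨h, hh, he'⟩ := M.exists_conj_lift hs hs hv (g := k) hk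
    refine Subgroup.mem_comap.2 ⟨h * r * h⁻¹, ?_, ?_⟩
    · exact DP.norm h (mul_inv_eq_iff_eq_mul.1 he') r hr
    · rw [map_mul, map_mul, map_inv, hre, ← hh, map_mul, map_mul, map_inv]
      rfl

/-- `|I| ≤ 2^13` and `|E0| · |I| ≥ 2^24`. -/
theorem card_bounds [Finite G] (g : G) (hs : g * z * g⁻¹ ∈ Q) (hne : g * z * g⁻¹ ≠ z) :
    Nat.card (Q ⊓ conjS g Q : Subgroup G) ≤ 2 ^ 13 ∧
      2 ^ 24 ≤ Nat.card (M.E0 g) * Nat.card (Q ⊓ conjS g Q : Subgroup G) := by
  haveI : Fact (Nat.Prime 2) := ⟨Nat.prime_two⟩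
  have DP := M.D.conjugate g
  have hzP : z ∈ conjS g Q := M.D.mem_conj hs hne (by rw [M.card_Q]; norm_num)
  set P := conjS g Q
  set s := g * z * g⁻¹
  set C := Subgroup.centralizer ({z} : Set G)
  refine ⟨?_, ?_⟩
  · have hab : ∀ a ∈ Q ⊓ P, ∀ b ∈ Q ⊓ P, a * b = b * a := by
      intro a ha b hb
      rcases M.D.comm a ha.1 b hb.1 with h | h
      · exact commutatorElement_eq_one_iff_mul_comm.mp h
      rcases DP.comm a ha.2 b hb.2 with h' | h'
      · exact commutatorElement_eq_one_iff_mul_comm.mp h'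
      · exact absurd (h'.symm.trans h) hne
    have h := Extraspecial.card_abelian_sq_le (p := 2) M.extra (A := (Q ⊓ P).subgroupOf Q)
      (fun a ha b hb => Subtype.ext (hab a ha b hb))
    rw [M.card_Q, Nat.card_congr (Subgroup.subgroupOfEquivOfLe (inf_le_left : Q ⊓ P ≤ Q)).toEquiv] at h
    by_contra hlt
    have := Nat.mul_self_lt_mul_self (not_le.1 hlt)
    omega
  have hker : Nat.card (P.subgroupOf C ⊓ M.κ.ker : Subgroup C) = Nat.card (Q ⊓ P : Subgroup G) := by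
    rw [← Subgroup.card_subtype]
    congr 2
    ext x
    constructor
    · rintro ⟨a, ⟨ha, hk⟩, rfl⟩
      exact ⟨(M.κ_ker a).1 hk, ha⟩
    · rintro ⟨hxQ, hxP⟩
      exact ⟨⟨x, M.mem_centralizer hxQ⟩, ⟨hxP, (M.κ_ker ⟨x, M.mem_centralizer hxQ⟩).2 hxQ⟩, rfl⟩
  have hmul := natCard_map_mul M.κ (P.subgroupOf C)
  rw [hker] at hmul
  show 2 ^ 24 ≤ Nat.card ((P.subgroupOf C).map M.κ) * _
  rw [hmul]
  obtain ⟨a0, ha0, hna⟩ : ∃ a ∈ P, ¬ a * z = z * a := by
    by_contra! h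
    rcases DP.cent z h with e | e
    · exact M.D.z_ne e
    · exact hne e.symm
  have hcard : Nat.card P = 2 ^ 25 := by
    rw [← M.card_Q]
    exact (Nat.card_congr (Subgroup.equivMapOfInjective Q _ (MulAut.conj g).injective).toEquiv).symm
  classical
  have hC : ∀ p ∈ P, p * z ≠ z * p → a0⁻¹ * p ∈ C := by
    intro p hp hnp
    refine Subgroup.mem_centralizer_singleton_iff.2 ?_
    rw [← commutatorElement_eq_one_iff_mul_comm, DP.comm_mul_left (inv_mem ha0) hp hzP]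
    have h0 : ⁅a0⁻¹, z⁆ = s := by
      refine (DP.comm _ (inv_mem ha0) z hzP).resolve_left fun h => hna ?_
      rw [commutatorElement_eq_one_iff_mul_comm] at h
      calc a0 * z = a0 * (z * a0⁻¹) * a0 := by group
        _ = a0 * (a0⁻¹ * z) * a0 := by rw [h]
        _ = z * a0 := by group
    have hp' : ⁅p, z⁆ = s :=
      (DP.comm _ hp z hzP).resolve_left fun h => hnp (commutatorElement_eq_one_iff_mul_comm.mp h)
    rw [h0, hp', DP.z_sq]
  let φ : P → P.subgroupOf C × Bool := fun p =>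
    if h : (p : G) * z = z * p then (⟨⟨p, Subgroup.mem_centralizer_singleton_iff.2 h⟩, p.2⟩, false)
    else (⟨⟨a0⁻¹ * p, hC p p.2 h⟩, mul_mem (inv_mem ha0) p.2⟩, true)
  have hφ : Function.Injective φ := by
    intro p q h
    simp only [φ] at h
    split_ifs at h with hp hq hq
    · exact Subtype.ext (congrArg (fun a => ((a.1 : C) : G)) (congrArg Prod.fst h))
    · exact absurd (congrArg Prod.snd h) Bool.false_ne_true
    · exact absurd (congrArg Prod.snd h).symm Bool.false_ne_true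
    · exact Subtype.ext (mul_left_cancel (congrArg (fun a => ((a.1 : C) : G)) (congrArg Prod.fst h)))
  have h2 := Nat.card_le_card_of_injective φ hφ
  rw [hcard, Nat.card_prod, show Nat.card Bool = 2 by simp, pow_succ] at h2
  exact Nat.le_of_mul_le_mul_right h2 two_pos

theorem rep64 [Finite G] {s : G} (hsQ : s ∈ Q) (hs : IsConj z s) (hne : s ≠ z) :
    ∃ v, M.rel v s ∧ sqNorm (v : GolayPt → ℤ) = 64 := by
  obtain ⟨g, hg⟩ := isConj_iff.1 hs
  subst hg
  have DP := M.D.conjugate g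
  obtain ⟨v, hv, h | h⟩ := M.classify_sq_one hsQ DP.z_sq DP.z_ne hne
  · exfalso
    obtain ⟨hle, hn⟩ := M.E0_le g hv (Or.inl h)
    have h1 := Subgroup.card_le_of_le (le_center_of_normal_type_two h (M.isPGroup_Epre g) hle hn)
    rw [M.natCard_Epre, Leech.natCard_center] at h1
    obtain ⟨h2, h3⟩ := M.card_bounds g hsQ hne
    have := Nat.mul_le_mul (show Nat.card (M.E0 g) ≤ 1 by omega) h2
    omega
  · exact ⟨v, hv, h⟩

theorem conj64 [Finite G] {v : leechLattice} {x : G} (hx : M.rel v x)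
    (hv : sqNorm (v : GolayPt → ℤ) = 64) : IsConj z x ∧ x ≠ z := by
  obtain ⟨g, hg, hne⟩ := M.exists_conj
  obtain ⟨w, hw, hn⟩ := M.rep64 hg (isConj_iff.2 ⟨g, rfl⟩) hne
  obtain ⟨h, -, hh⟩ := M.conj_of_norm hw hx (Or.inr (Or.inr hn)) (hv.trans hn.symm)
  exact ⟨(isConj_iff.2 ⟨g, rfl⟩).trans (isConj_iff.2 ⟨h, hh⟩), (M.ne_of_rel hx (Or.inr (Or.inr hv))).2⟩

/-- The orders at a conjugate of z in Q. -/
theorem card_inter [Finite G] (g : G) (hs : g * z * g⁻¹ ∈ Q) (hne : g * z * g⁻¹ ≠ z) :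
    Nat.card (Q ⊓ conjS g Q : Subgroup G) = 2 ^ 13 ∧ Nat.card (M.E0 g) = 2 ^ 11 ∧
      ∃ v, M.rel v (g * z * g⁻¹) ∧ sqNorm (v : GolayPt → ℤ) = 64 ∧
        ∃ F : Frame v, M.Epre g = F.S := by
  obtain ⟨v, hv, hn⟩ := M.rep64 hs (isConj_iff.2 ⟨g, rfl⟩) hne
  obtain ⟨hle, hnorm⟩ := M.E0_le g hv (Or.inr (Or.inr hn))
  obtain ⟨F⟩ := exists_frame hn
  have hES := F.two_le _ (M.isPGroup_Epre g) hle hnorm
  have h1 := Subgroup.card_le_of_le hES
  rw [M.natCard_Epre, F.card_S] at h1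
  obtain ⟨h2, h3⟩ := M.card_bounds g hs hne
  have h4 : Nat.card (M.E0 g) * Nat.card (Q ⊓ conjS g Q : Subgroup G) ≤ 2048 * 2 ^ 13 :=
    Nat.mul_le_mul (by omega) h2
  have h5 : Nat.card (M.E0 g) = 2 ^ 11 := by
    by_contra hne'
    have := Nat.mul_le_mul (show Nat.card (M.E0 g) ≤ 2047 by omega) h2
    omega
  have h6 : Nat.card (Q ⊓ conjS g Q : Subgroup G) = 2 ^ 13 := by
    rw [h5] at h3; omega
  exact ⟨h6, h5, v, hv, hn, F, Subgroup.eq_of_le_of_card_ge hES (by rw [M.natCard_Epre, h5, F.card_S]; norm_num)⟩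

end Setting

end Cfsg.Agent.Monster
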