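import Cfsg.Agent.Lib.LargeExtraspecial.TransferFixed
import Mathlib.GroupTheory.Perm.Fin

/-! A large extraspecial subgroup of order eight: the outer action is inside `S_3`. -/

set_option autoImplicit false

namespace Cfsg.Agent.LargeExtraspecial.OrderEight

open Subgroup LargeExtraspecial.TransferFixed

universe u

variable {G : Type u} [Group G]

theorem perm3_sq : ∀ x : Equiv.Perm (Fin 3), x * x ≠ 1 → ∀ i, x i ≠ i := by decide

theorem perm3_four : ∀ x : Equiv.Perm (Fin 3), x ^ 4 = 1 → x * x = 1 := by decide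

theorem perm3_two_power (x : Equiv.Perm (Fin 3)) (m : ℕ) (h : x ^ 2 ^ m = 1) : x * x = 1 := by
  apply perm3_four
  apply orderOf_dvd_iff_pow_eq_one.mp
  obtain ⟨i, -, hi⟩ := (Nat.dvd_prime_pow Nat.prime_two).mp (orderOf_dvd_of_pow_eq_one h)
  rw [hi]
  have h6 : orderOf x ≤ 6 := by
    refine le_of_le_of_eq (orderOf_le_card_univ) ?_
    rw [Fintype.card_perm, Fintype.card_fin]
    rfl
  rw [hi] at h6
  match i with
  | 0 | 1 | 2 => decide
  | i + 3 =>
    have : 2 ^ 3 ≤ 2 ^ (i + 3) := Nat.pow_le_pow_right (by norm_num) (by omega)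
    omega

theorem perm3_three : ∀ x : Equiv.Perm (Fin 3), x * x ≠ 1 →
    (x 0 = 1 ∧ x 1 = 2) ∨ (x 0 = 2 ∧ x 2 = 1) := by decide

theorem order_eight [Finite G] {H E : Subgroup G} {z : G} (hS : Setting H E z) (hcard : Nat.card E = 8)
    {a b : G} (ha : a ∈ E) (hb : b ∈ E) (hab : a * b = b * a * z) :
    (∀ h ∈ H, ∀ m : ℕ, orderOf h = 2 ^ m → h * h ∈ E) ∧
      (∀ c ∈ H, c * c ∉ E → ∀ (M : Type u) [CommGroup M] (f : H →* M), (∀ hz : z ∈ H, f ⟨z, hz⟩ = 1) →
        ∀ e (he : e ∈ E), f ⟨e, hS.hEH he⟩ = 1) := by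
  have hzH : z ∈ H := hS.hEH hS.zE
  have hzc : ∀ x ∈ H, x * z = z * x := fun x hx => (hS.hH x).mp hx
  have hba : b * a = a * b * z := by rw [hab, mul_assoc _ z z, hS.z2, mul_one]
  -- commutation status
  have key : ∀ x d : G, x ∈ E → (d = 1 ∨ d = z) → ∀ y ∈ E, ((x * d) * y = y * (x * d) ↔ x * y = y * x) := by
    intro x d hx hd y hy
    have hdy : d * y = y * d := by
      rcases hd with rfl | rfl
      · simp
      · exact (hzc y (hS.hEH hy)).symm
    rw [mul_assoc, hdy, ← mul_assoc, ← mul_assoc, mul_left_inj]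
  have nab : a * b ≠ b * a := fun h => hS.z1 (by rw [hab] at h; exact mul_left_cancel (a := b * a) (by rw [h, mul_one]))
  have s_ab_a : (a * b) * a ≠ a * (a * b) := fun h => nab (by
    rw [mul_assoc] at h; exact (mul_left_cancel h).symm)
  have s_ab_b : (a * b) * b ≠ b * (a * b) := fun h => nab (by
    rw [← mul_assoc] at h; exact mul_right_cancel h)
  let w : Fin 4 → G := ![a, b, a * b, 1]
  have hwE : ∀ i, w i ∈ E := by
    intro i; fin_cases i
    · exact ha
    · exact hb
    · exact mul_mem ha hb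
    · exact one_mem E
  have hstat : ∀ i j, (w i * a = a * w i ↔ w j * a = a * w j) → (w i * b = b * w i ↔ w j * b = b * w j) → i = j := by
    intro i j h1 h2
    have n1 : ¬ b * a = a * b := fun h => nab h.symm
    fin_cases i <;> fin_cases j <;>
      first
        | rfl
        | (exfalso; simp [w, s_ab_a, s_ab_b, n1, nab] at h1 h2)
  let D : Bool → G := fun t => if t then z else 1
  have hD : ∀ t, D t = 1 ∨ D t = z := fun t => by cases t <;> simp [D]
  have hDE : ∀ t, D t ∈ E := fun t => by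
    rcases hD t with e | e <;> rw [e]
    · exact one_mem E
    · exact hS.zE
  let F : Fin 4 × Bool → E := fun p => ⟨w p.1 * D p.2, mul_mem (hwE _) (hDE _)⟩
  have huniq : ∀ i j s t, w i * D s = w j * D t → i = j := by
    intro i j s t h
    refine hstat i j ?_ ?_
    · rw [← key _ _ (hwE i) (hD s) a ha, h, key _ _ (hwE j) (hD t) a ha]
    · rw [← key _ _ (hwE i) (hD s) b hb, h, key _ _ (hwE j) (hD t) b hb]
  have hFinj : Function.Injective F := by
    rintro ⟨i, s⟩ ⟨j, t⟩ h
    have h' : w i * D s = w j * D t := congrArg Subtype.val h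
    obtain rfl := huniq i j s t h'
    have := mul_left_cancel h'
    cases s <;> cases t <;>
      first
        | rfl
        | exact absurd this hS.z1
        | exact absurd this.symm hS.z1
  have hsurj : ∀ e ∈ E, ∃ i t, e = w i * D t := by
    intro e he
    haveI := Fintype.ofFinite E
    have hb' := (Fintype.bijective_iff_injective_and_card F).mpr ⟨hFinj, by
      rw [← Nat.card_eq_fintype_card, ← Nat.card_eq_fintype_card, hcard]; simp⟩
    obtain ⟨⟨i, t⟩, hp⟩ := hb'.2 ⟨e, he⟩
    exact ⟨i, t, (congrArg Subtype.val hp).symm⟩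
  let v : Fin 3 → G := fun i => w i.castSucc
  have hex : ∀ g : H, ∀ i : Fin 3, ∃ j : Fin 3, ∃ t, (g : G) * v i * (g : G)⁻¹ = v j * D t := by
    intro g i
    obtain ⟨j, t, hjt⟩ := hsurj _ (hS.hnorm g g.2 _ (hwE i.castSucc))
    rcases Fin.eq_castSucc_or_eq_last j with ⟨j, rfl⟩ | rfl
    · exact ⟨j, t, hjt⟩
    · exfalso
      have hl : w (Fin.last 3) = 1 := rfl
      rw [hl, one_mul, mul_inv_eq_iff_eq_mul] at hjt
      have hcom : D t * (g : G) = (g : G) * D t := by
        rcases hD t with e | e <;> rw [e]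
        · simp
        · exact (hzc _ g.2).symm
      rw [hcom] at hjt
      have := huniq i.castSucc (Fin.last 3) false t (by
        show w i.castSucc * 1 = w (Fin.last 3) * D t
        rw [hl, one_mul, mul_one]; exact mul_left_cancel hjt)
      exact Fin.castSucc_ne_last i this
  choose π τ hπ using hex
  have hπu : ∀ (g : H) i j t, (g : G) * v i * (g : G)⁻¹ = v j * D t → π g i = j := by
    intro g i j t h
    exact Fin.castSucc_injective _ (huniq _ _ _ _ ((hπ g i).symm.trans h))
  have hcomp : ∀ g k : H, ∀ i, π (g * k) i = π g (π k i) := by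
    intro g k i
    refine hπu (g * k) i _ (xor (τ g (π k i)) (τ k i)) ?_
    have hcom : (g : G) * D (τ k i) = D (τ k i) * (g : G) := by
      rcases hD (τ k i) with e | e <;> rw [e]
      · simp
      · exact hzc _ g.2
    have hx : D (xor (τ g (π k i)) (τ k i)) = D (τ g (π k i)) * D (τ k i) := by
      cases τ g (π k i) <;> cases τ k i <;> simp [D, hS.z2]
    calc ((g * k : H) : G) * v i * ((g * k : H) : G)⁻¹
        = (g : G) * ((k : G) * v i * (k : G)⁻¹) * (g : G)⁻¹ := by push_cast; group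
      _ = ((g : G) * v (π k i) * (g : G)⁻¹) * ((g : G) * D (τ k i) * (g : G)⁻¹) := by
          rw [hπ k i]; group
      _ = _ := by rw [hπ g, hcom, mul_inv_cancel_right, hx, mul_assoc]
  have hone : ∀ i, π 1 i = i := fun i => hπu 1 i i false (by simp [D])
  let P : H → Equiv.Perm (Fin 3) := fun g =>
    ⟨π g, π g⁻¹, fun i => by rw [← hcomp, inv_mul_cancel, hone], fun i => by rw [← hcomp, mul_inv_cancel, hone]⟩
  let Φ : H →* Equiv.Perm (Fin 3) :=
    { toFun := P, map_one' := Equiv.ext hone, map_mul' := fun g k => Equiv.ext (hcomp g k) }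
  have hker : ∀ g : H, Φ g = 1 → (g : G) ∈ E := by
    intro g hg
    have hfix : ∀ i, π g i = i := fun i => by
      have := congrArg (fun p : Equiv.Perm (Fin 3) => p i) hg
      exact this
    have h0 := hπ g 0
    have h1 := hπ g 1
    rw [hfix] at h0 h1
    have hv0 : v 0 = a := rfl
    have hv1 : v 1 = b := rfl
    rw [hv0, mul_inv_eq_iff_eq_mul] at h0
    rw [hv1, mul_inv_eq_iff_eq_mul] at h1
    obtain ⟨x, hx, hxa, hxb⟩ : ∃ x ∈ E, x * a = a * D (τ g 0) * x ∧ x * b = b * D (τ g 1) * x := by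
      have za := hzc a (hS.hEH ha)
      have zb := hzc b (hS.hEH hb)
      cases τ g 0 <;> cases τ g 1
      · exact ⟨1, one_mem E, by simp [D], by simp [D]⟩
      · refine ⟨a, ha, by simp [D], ?_⟩
        simp only [D, if_true, hab]
        rw [mul_assoc b z a, ← za, ← mul_assoc]
      · refine ⟨b, hb, ?_, by simp [D]⟩
        simp only [D, if_true, hba]
        rw [mul_assoc a z b, ← zb, ← mul_assoc]
      · refine ⟨a * b, mul_mem ha hb, ?_, ?_⟩
        · simp only [D, if_true]
          rw [mul_assoc a b a, hba, mul_assoc a z (a * b), ← hzc _ (hS.hEH (mul_mem ha hb))]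
        · simp only [D, if_true]
          rw [mul_assoc b z (a * b), ← hzc _ (hS.hEH (mul_mem ha hb)), ← mul_assoc, ← mul_assoc b a b]
          conv_rhs => rw [hba]
          rw [mul_assoc (a * b) z b, ← zb, ← mul_assoc, mul_assoc _ z z, hS.z2, mul_one]
    have hy : ∀ c d, (g : G) * c = c * d * g → x * c = c * d * x → (x⁻¹ * g) * c = c * (x⁻¹ * g) := by
      intro c d e1 e2
      calc (x⁻¹ * g) * c = x⁻¹ * (c * d * x) * (x⁻¹ * g) := by rw [mul_assoc, e1]; group
        _ = _ := by rw [← e2]; group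
    have hya := hy _ _ h0 hxa
    have hyb := hy _ _ h1 hxb
    have hyH : x⁻¹ * g ∈ H := mul_mem (inv_mem (hS.hEH hx)) g.2
    have hyE : x⁻¹ * g ∈ Subgroup.centralizer (E : Set G) := by
      rw [mem_centralizer_iff]
      intro e he
      obtain ⟨i, t, rfl⟩ := hsurj e he
      have hDy : Commute (D t) (x⁻¹ * g) := by
        rcases hD t with e | e <;> rw [e]
        · exact Commute.one_left _
        · exact (hzc _ hyH).symm
      have hwy : Commute (w i) (x⁻¹ * g) := by
        fin_cases i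
        · exact hya.symm
        · exact hyb.symm
        · exact Commute.mul_left hya.symm hyb.symm
        · exact Commute.one_left _
      exact (hwy.mul_left hDy).eq
    simpa using mul_mem hx (hS.self hyE)
  constructor
  · intro h hh m hm
    refine hker (⟨h, hh⟩ * ⟨h, hh⟩) ?_
    rw [map_mul]
    refine perm3_two_power _ m ?_
    rw [← map_pow, show (⟨h, hh⟩ : H) ^ 2 ^ m = 1 from Subtype.ext (by rw [SubgroupClass.coe_pow, ← hm,
      pow_orderOf_eq_one, OneMemClass.coe_one]), map_one]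
  · intro c hc hcc M _ f hfz e he
    have hne : Φ ⟨c, hc⟩ * Φ ⟨c, hc⟩ ≠ 1 := fun h => hcc (hker (⟨c, hc⟩ * ⟨c, hc⟩) (by rw [map_mul, h]))
    have hFD : ∀ t, f ⟨D t, hS.hEH (hDE t)⟩ = 1 := fun t => by
      cases t
      · exact map_one f
      · exact hfz _
    have hFm : ∀ i t, f ⟨w i * D t, hS.hEH (mul_mem (hwE i) (hDE t))⟩ = f ⟨w i, hS.hEH (hwE i)⟩ := by
      intro i t
      have : (⟨w i * D t, hS.hEH (mul_mem (hwE i) (hDE t))⟩ : H) = ⟨w i, hS.hEH (hwE i)⟩ * ⟨D t, hS.hEH (hDE t)⟩ :=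
        Subtype.ext rfl
      rw [this, map_mul, hFD, mul_one]
    have hinv : ∀ i : Fin 3, f ⟨v (π ⟨c, hc⟩ i), hS.hEH (hwE _)⟩ = f ⟨v i, hS.hEH (hwE _)⟩ := by
      intro i
      rw [← hFm _ (τ ⟨c, hc⟩ i)]
      have : (⟨v (π ⟨c, hc⟩ i) * D (τ ⟨c, hc⟩ i), hS.hEH (mul_mem (hwE _) (hDE _))⟩ : H) =
          ⟨c, hc⟩ * ⟨v i, hS.hEH (hwE _)⟩ * (⟨c, hc⟩ : H)⁻¹ := Subtype.ext (hπ ⟨c, hc⟩ i).symm
      rw [this, map_mul, map_mul, mul_comm (f ⟨c, hc⟩), mul_assoc, ← map_mul, mul_inv_cancel, map_one, mul_one]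
    let A' : M := f ⟨a, hS.hEH ha⟩
    let B' : M := f ⟨b, hS.hEH hb⟩
    have hABm : f ⟨a * b, hS.hEH (mul_mem ha hb)⟩ = A' * B' := map_mul f ⟨a, hS.hEH ha⟩ ⟨b, hS.hEH hb⟩
    have hall : A' = B' ∧ A' * B' = A' := by
      rcases perm3_three _ hne with ⟨e0, e1⟩ | ⟨e0, e1⟩
      · have i0 : f ⟨b, hS.hEH hb⟩ = f ⟨a, hS.hEH ha⟩ := by
          have := hinv 0
          simp only [show π ⟨c, hc⟩ 0 = 1 from e0] at this
          exact this
        have i1 : f ⟨a * b, hS.hEH (mul_mem ha hb)⟩ = f ⟨b, hS.hEH hb⟩ := by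
          have := hinv 1
          simp only [show π ⟨c, hc⟩ 1 = 2 from e1] at this
          exact this
        exact ⟨i0.symm, by rw [← hABm, i1]; exact i0⟩
      · have i0 : f ⟨a * b, hS.hEH (mul_mem ha hb)⟩ = f ⟨a, hS.hEH ha⟩ := by
          have := hinv 0
          simp only [show π ⟨c, hc⟩ 0 = 2 from e0] at this
          exact this
        have i1 : f ⟨b, hS.hEH hb⟩ = f ⟨a * b, hS.hEH (mul_mem ha hb)⟩ := by
          have := hinv 2
          simp only [show π ⟨c, hc⟩ 2 = 1 from e1] at this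
          exact this
        exact ⟨(i1.trans i0).symm, hABm.symm.trans i0⟩
    have hB1 : B' = 1 := mul_left_cancel (hall.2.trans (mul_one _).symm)
    have hA1 : A' = 1 := hall.1.trans hB1
    obtain ⟨i, t, rfl⟩ := hsurj e he
    rw [hFm]
    fin_cases i
    · exact hA1
    · exact hB1
    · exact hABm.trans (by rw [hA1, hB1, one_mul])
    · exact map_one f

end Cfsg.Agent.LargeExtraspecial.OrderEight
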