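/-
Singular subgroups for an involution whose 2-radical is extraspecial and self-centralizing.

Main results (namespace `Cfsg.Agent.Singular`): `Hyp.dataAt`, `Hyp.symm`, `Data.exists_moving`,
`Sub.normalizes`, `Sub.joint_core`, `Sub.exists_realize`, `Sub.acts_trivially`, `Sub.transitive`.
-/
import Cfsg.Agent.Lib.LargeExtraspecial.Pair
import Cfsg.Agent.Lib.Cores.Basic
import Cfsg.Agent.Lib.Coprime.Basic
import Cfsg.Agent.Lib.Extraspecial.Basic

set_option autoImplicit false
open Cfsg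
open scoped commutatorElement

namespace Cfsg.Agent.Singular

open LargeExtraspecial

variable {G : Type*} [Group G]

/-- `Q u` is the 2-radical of the centralizer of `u`; `Q z` is extraspecial and self-centralizing. -/
structure Hyp (Q : G → Subgroup G) (z : G) : Prop where
  radical : ∀ x : G, Q x =
    (Cfsg.pCore 2 ↥(Subgroup.centralizer ({x} : Set G))).map (Subgroup.centralizer ({x} : Set G)).subtype
  inv : orderOf z = 2
  extra : Cfsg.IsExtraspecial 2 ↥(Q z)
  self : Subgroup.centralizer ((Q z : Subgroup G) : Set G) ≤ Q z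

namespace Hyp

variable {Q : G → Subgroup G} {z : G}

theorem mem_cent {x c : G} : c ∈ Subgroup.centralizer ({x} : Set G) ↔ c * x = x * c :=
  Subgroup.mem_centralizer_singleton_iff

theorem le_cent (H : Hyp Q z) (x : G) {c : G} (hc : c ∈ Q x) : c * x = x * c := by
  rw [H.radical x] at hc
  exact mem_cent.1 (Subgroup.map_subtype_le _ hc)

theorem norm (H : Hyp Q z) {x c q : G} (hc : c * x = x * c) (hq : q ∈ Q x) : c * q * c⁻¹ ∈ Q x := by
  rw [H.radical x] at hq ⊢
  obtain ⟨y, hy, rfl⟩ := hq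
  exact ⟨(⟨c, mem_cent.2 hc⟩ : ↥(Subgroup.centralizer ({x} : Set G))) * y * ⟨c, mem_cent.2 hc⟩⁻¹,
    (Cores.pCore_normal 2 _).conj_mem y hy _, rfl⟩

theorem conj (H : Hyp Q z) (g x : G) : Q (g * x * g⁻¹) = conjS g (Q x) := by
  set C := Subgroup.centralizer ({x} : Set G)
  set C' := Subgroup.centralizer ({g * x * g⁻¹} : Set G)
  have hC : C.map (MulAut.conj g).toMonoidHom = C' := by
    ext y
    rw [Subgroup.mem_map_equiv, MulAut.conj_symm_apply, mem_cent, mem_cent]
    constructor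
    · intro h
      calc y * (g * x * g⁻¹) = g * (g⁻¹ * y * g * x) * g⁻¹ := by group
        _ = g * (x * (g⁻¹ * y * g)) * g⁻¹ := by rw [h]
        _ = _ := by group
    · intro h
      calc g⁻¹ * y * g * x = g⁻¹ * (y * (g * x * g⁻¹)) * g := by group
        _ = g⁻¹ * ((g * x * g⁻¹) * y) * g := by rw [h]
        _ = _ := by group
  let e : ↥C ≃* ↥C' := ((MulAut.conj g).subgroupMap C).trans (MulEquiv.subgroupCongr hC)
  rw [H.radical, H.radical x, conjS, Subgroup.map_map, ← Cores.pCore_map_mulEquiv e 2, Subgroup.map_map]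
  rfl

section Fin

variable [Finite G]

theorem isPGroup (H : Hyp Q z) (x : G) : IsPGroup 2 (Q x) := by
  rw [H.radical x]; exact (Cores.isPGroup_pCore 2 _).map _

theorem data (H : Hyp Q z) : Data (Q z) z := by
  have hzz : z * z = 1 := by rw [← sq, ← H.inv, pow_orderOf_eq_one]
  have hzQ : z ∈ Q z := by
    rw [H.radical z]
    set C := Subgroup.centralizer ({z} : Set G)
    set z' : C := ⟨z, mem_cent.2 rfl⟩
    have hn : (Subgroup.zpowers z').Normal := by
      constructor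
      intro n hn c
      obtain ⟨k, rfl⟩ := Subgroup.mem_zpowers_iff.1 hn
      have hcz : Commute c z' := Subtype.ext (mem_cent.1 c.2)
      rw [(hcz.zpow_right k).eq, mul_inv_cancel_right]
      exact hn
    have hp : IsPGroup 2 (Subgroup.zpowers z') := by
      refine IsPGroup.of_card (n := 1) ?_
      rw [Nat.card_zpowers, pow_one, ← H.inv]
      exact (Subgroup.orderOf_coe z').symm
    exact ⟨z', Cores.le_pCore hn hp (Subgroup.mem_zpowers z'), rfl⟩
  have hzc : zc (Q z) = Subgroup.zpowers z := by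
    refine (Subgroup.eq_of_le_of_card_ge (Subgroup.zpowers_le.2 (mem_zc.2 ⟨hzQ, fun q hq => H.le_cent z hq⟩)) ?_).symm
    rw [card_zc H.extra, Nat.card_zpowers, H.inv]
  refine Data.of_extraspecial H.extra ?_ ?_ hzc H.inv
  · refine le_antisymm (fun x hx => mem_zc.2 ⟨H.self hx, fun q hq => Subgroup.mem_centralizer_iff.1 hx q hq⟩)
      fun x hx => Subgroup.mem_centralizer_iff.2 fun q hq => (mem_zc.1 hx).2 q hq
  · intro c hc
    have h1 : c * z = z * c := by
      have := Subgroup.mem_centralizer_iff.1 hc z (hzc ▸ Subgroup.mem_zpowers z : z ∈ zc (Q z))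
      exact this.symm
    refine Coprime.mem_normalizer_of_forall fun q hq => H.norm h1 hq

theorem dataAt (H : Hyp Q z) {u : G} (hu : ∃ g : G, g * z * g⁻¹ = u) : Data (Q u) u := by
  obtain ⟨g, rfl⟩ := hu
  rw [H.conj]
  exact H.data.conjugate g

theorem card_eq (H : Hyp Q z) {u : G} (hu : ∃ g : G, g * z * g⁻¹ = u) : Nat.card (Q u) = Nat.card (Q z) := by
  obtain ⟨g, rfl⟩ := hu
  rw [H.conj, conjS, Subgroup.card_map_of_injective (MulAut.conj g).injective]

/-- For `|Q z| = 8` the centralizer of `z` is a 2-group. -/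
theorem eight (H : Hyp Q z) (h8 : Nat.card (Q z) = 8) {s : G} (hs : s ∈ Q z) (hs2 : s * s = 1) (hs1 : s ≠ 1)
    (hsz : s ≠ z) {c : G} (hc : c * z = z * c) (hodd : Odd (orderOf c)) : c = 1 := by
  have D := H.data
  obtain ⟨q, hq, hqs⟩ := D.exists_conj_eq hs hs1 hsz
  have hzs : z * s = s * z := (D.z_central s hs).symm
  have hzi : z⁻¹ = z := inv_eq_of_mul_eq_one_right D.z_sq
  have hsi : s⁻¹ = s := inv_eq_of_mul_eq_one_right hs2
  -- an element of order four
  obtain ⟨a, ha, haz, has⟩ : ∃ a ∈ Q z, a * a = z ∧ a * s * a⁻¹ = s * z := by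
    rcases D.sq hq with h | h
    · refine ⟨q * s, mul_mem hq hs, ?_, ?_⟩
      · have hqi : q⁻¹ = q := inv_eq_of_mul_eq_one_right h
        calc q * s * (q * s) = (q * s * q⁻¹) * s := by rw [hqi]; group
          _ = s * z * s := by rw [hqs]
          _ = z := by rw [← hzs, mul_assoc, hs2, mul_one]
      · calc q * s * s * (q * s)⁻¹ = q * s * q⁻¹ := by
              rw [mul_inv_rev, hsi]; simp [mul_assoc, hs2]
          _ = s * z := hqs
    · exact ⟨q, hq, h, hqs⟩
  have ha4 : orderOf a = 4 := by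
    have h4 : a ^ 2 ^ (1 + 1) = 1 := by
      show a ^ 4 = 1
      rw [show a ^ 4 = a * a * (a * a) by simp [pow_succ, mul_assoc], haz, D.z_sq]
    exact orderOf_eq_prime_pow (fun h => D.z_ne (by rw [← haz, ← sq]; simpa using h)) h4
  have hsa : s * a * s⁻¹ = a⁻¹ := by
    have h1 : a * s * a⁻¹ = s * (a * a) := by rw [haz, has]
    have h2 : a = a⁻¹ * z := by rw [← haz, inv_mul_cancel_left]
    calc s * a * s⁻¹ = s * (a * a) * (a⁻¹ * s⁻¹) := by group
      _ = a * s * a⁻¹ * (a⁻¹ * s⁻¹) := by rw [h1]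
      _ = a * s * (a * a)⁻¹ * s⁻¹ := by group
      _ = a * (s * z * s⁻¹) := by rw [haz, hzi]; group
      _ = a * z := by rw [← hzs, mul_inv_cancel_right]
      _ = a⁻¹ * (a * a) * z := by group
      _ = a⁻¹ := by rw [haz, mul_assoc, D.z_sq, mul_one]
  have hsnot : s ∉ Subgroup.zpowers a := by
    intro h
    obtain ⟨k, hk⟩ := Subgroup.mem_zpowers_iff.1 h
    rw [← hk, (Commute.self_zpow a k).eq, mul_inv_cancel_right] at has
    exact D.z_ne (mul_eq_left.1 has.symm)
  -- every element of `Q z`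
  have hall : ∀ x ∈ Q z, x ∈ Subgroup.zpowers a ∨ s * x ∈ Subgroup.zpowers a := by
    have hidx : (Subgroup.zpowers a).relIndex (Q z) = 2 := by
      have := Subgroup.relIndex_mul_relIndex ⊥ (Subgroup.zpowers a) (Q z) bot_le (Subgroup.zpowers_le.2 ha)
      rw [Subgroup.relIndex_bot_left, Subgroup.relIndex_bot_left, Nat.card_zpowers, ha4, h8] at this
      omega
    intro x hx
    have h2 := Subgroup.index_eq_two_iff.1 hidx
    by_contra hno
    push Not at hno
    obtain ⟨w, hw⟩ := h2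
    have e1 := hw ⟨x, hx⟩
    have e2 := hw ⟨s, hs⟩
    have e3 := Subgroup.mul_mem_iff_of_index_two hidx (a := (⟨s, hs⟩ : Q z)) (b := ⟨x, hx⟩)
    simp only [Subgroup.mem_subgroupOf, Subgroup.coe_mul] at e3
    exact hno.2 (e3.2 ⟨fun h => absurd h hsnot, fun h => absurd h hno.1⟩)
  have hcQ : ∀ x ∈ Q z, c * x * c⁻¹ ∈ Q z := fun x hx => H.norm hc hx
  obtain ⟨m, hm⟩ := hodd
  -- `c` fixes `a`
  have hca : c * a * c⁻¹ = a := by
    have hsq : (c * a * c⁻¹) * (c * a * c⁻¹) = z := by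
      calc c * a * c⁻¹ * (c * a * c⁻¹) = c * (a * a) * c⁻¹ := by group
        _ = z := by rw [haz, hc, mul_inv_cancel_right]
    have h1 : c * a * c⁻¹ = a ∨ c * a * c⁻¹ = a⁻¹ := by
      rcases hall _ (hcQ a ha) with h | h
      · obtain ⟨k, hk⟩ := Subgroup.mem_zpowers_iff.1 h
        have hk2 : (k : ℤ) % 4 = 1 ∨ (k : ℤ) % 4 = 3 := by
          by_contra hcon
          have h0 : (4 : ℤ) ∣ 2 * k := by omega
          have : a ^ (2 * k) = 1 := orderOf_dvd_iff_zpow_eq_one.1 (by rw [ha4]; exact_mod_cast h0)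
          rw [two_mul, zpow_add, hk, hsq] at this
          exact D.z_ne this
        rw [← zpow_mod_orderOf, ha4] at hk
        rcases hk2 with h2 | h2
        · left; rw [← hk]; simp [h2]
        · right
          rw [← hk, show ((4 : ℕ) : ℤ) = 4 from rfl, h2, eq_inv_iff_mul_eq_one,
            show a ^ (3 : ℤ) * a = a * a * (a * a) by simp [zpow_ofNat, pow_succ, mul_assoc], haz, D.z_sq]
      · exfalso
        obtain ⟨k, hk⟩ := Subgroup.mem_zpowers_iff.1 h
        have e : c * a * c⁻¹ = s * a ^ k := by rw [hk, ← mul_assoc, hs2, one_mul]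
        have e2 : s * a ^ k * (s * a ^ k) = 1 := by
          have : s * a ^ k * s⁻¹ = (a ^ k)⁻¹ := by
            rw [← MulAut.conj_apply, map_zpow, MulAut.conj_apply, hsa, inv_zpow]
          rw [hsi] at this
          rw [← mul_assoc, this, inv_mul_cancel]
        rw [e, e2] at hsq
        exact D.z_ne hsq.symm
    rcases h1 with h1 | h1
    · exact h1
    · have hpow : ∀ j : ℕ, c ^ (2 * j) * a * (c ^ (2 * j))⁻¹ = a := by
        intro j
        induction j with
        | zero => simp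
        | succ j ih =>
          calc c ^ (2 * (j + 1)) * a * (c ^ (2 * (j + 1)))⁻¹
              = c * (c * (c ^ (2 * j) * a * (c ^ (2 * j))⁻¹) * c⁻¹) * c⁻¹ := by
                rw [show 2 * (j + 1) = (2 * j + 1) + 1 by ring, pow_succ', pow_succ']; group
            _ = c * a⁻¹ * c⁻¹ := by rw [ih, h1]
            _ = (c * a * c⁻¹)⁻¹ := by group
            _ = a := by rw [h1, inv_inv]
      have h2 := hpow (m + 1)
      rwa [show 2 * (m + 1) = orderOf c + 1 by omega, pow_succ, pow_orderOf_eq_one, one_mul] at h2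
  -- `c` fixes `s`
  have hcs : c * s * c⁻¹ = s := by
    rcases hall _ (hcQ s hs) with h | h
    · exfalso
      obtain ⟨k, hk⟩ := Subgroup.mem_zpowers_iff.1 h
      refine hsnot (Subgroup.mem_zpowers_iff.2 ⟨k, ?_⟩)
      have e1 : c * a ^ k * c⁻¹ = a ^ k := by rw [← MulAut.conj_apply, map_zpow, MulAut.conj_apply, hca]
      exact mul_left_cancel (mul_right_cancel (e1.trans hk))
    · obtain ⟨k, hk⟩ := Subgroup.mem_zpowers_iff.1 h
      have e : c * s * c⁻¹ = s * a ^ k := by rw [hk, ← mul_assoc, hs2, one_mul]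
      have hpow : ∀ j : ℕ, c ^ j * s * (c ^ j)⁻¹ = s * (a ^ k) ^ j := by
        intro j
        induction j with
        | zero => simp
        | succ j ih =>
          calc c ^ (j + 1) * s * (c ^ (j + 1))⁻¹ = c * (c ^ j * s * (c ^ j)⁻¹) * c⁻¹ := by
                rw [pow_succ']; group
            _ = c * s * c⁻¹ * (c * (a ^ k) ^ j * c⁻¹) := by rw [ih]; group
            _ = s * a ^ k * (a ^ k) ^ j := by
              rw [e]; congr 1
              rw [← MulAut.conj_apply, map_pow, map_zpow, MulAut.conj_apply, hca]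
            _ = _ := by rw [pow_succ', mul_assoc]
      have h1 := hpow (orderOf c)
      rw [pow_orderOf_eq_one, one_mul, inv_one, mul_one, left_eq_mul] at h1
      have h4 : (a ^ k) ^ 4 = 1 := by
        rw [← zpow_natCast, ← zpow_mul, mul_comm, zpow_mul, zpow_natCast, ← ha4, pow_orderOf_eq_one, one_zpow]
      have hone : orderOf (a ^ k) = 1 := by
        refine Nat.eq_one_of_dvd_coprimes (?_ : Nat.Coprime (orderOf c) 4) (orderOf_dvd_of_pow_eq_one h1)
          (orderOf_dvd_of_pow_eq_one h4)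
        rw [show (4 : ℕ) = 2 ^ 2 by norm_num]
        exact (Nat.coprime_two_right.2 ⟨m, hm⟩).pow_right 2
      rw [e, orderOf_eq_one_iff.1 hone, mul_one]
  have hcen : ∀ x ∈ Q z, x * c = c * x := by
    have hpc : ∀ k : ℤ, Commute c (a ^ k) :=
      fun k => Commute.zpow_right (mul_inv_eq_iff_eq_mul.1 hca) k
    have hsc : Commute c s := mul_inv_eq_iff_eq_mul.1 hcs
    intro x hx
    rcases hall x hx with h | h
    · obtain ⟨k, rfl⟩ := Subgroup.mem_zpowers_iff.1 h
      exact (hpc k).eq.symm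
    · obtain ⟨k, hk⟩ := Subgroup.mem_zpowers_iff.1 h
      rw [show x = s * a ^ k by rw [hk, ← mul_assoc, hs2, one_mul]]
      exact (hsc.mul_right (hpc k)).eq.symm
  rcases D.cent c hcen with h | h
  · exact h
  · exfalso
    rw [h, H.inv] at hm
    omega

theorem symm (H : Hyp Q z) {u v : G} (hu : ∃ g : G, g * z * g⁻¹ = u) (hv : ∃ g : G, g * z * g⁻¹ = v)
    (hvu : v ∈ Q u) : u ∈ Q v := by
  by_cases hne : v = u
  · rwa [hne] at hvu ⊢
  obtain ⟨a, ha⟩ := hu
  obtain ⟨b, hb⟩ := hv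
  have D := H.dataAt ⟨a, ha⟩
  have hconj : b * a⁻¹ * u * (b * a⁻¹)⁻¹ = v := by rw [← ha, ← hb]; group
  rcases Nat.lt_or_ge (Nat.card (Q z)) 32 with hlt | hge
  swap
  · have := D.mem_conj (g := b * a⁻¹) (by rwa [hconj]) (by rwa [hconj]) (by rwa [H.card_eq ⟨a, ha⟩])
    rwa [← H.conj, hconj] at this
  have h8 : Nat.card (Q z) = 8 := by
    haveI : Fact (Nat.Prime 2) := ⟨Nat.prime_two⟩
    obtain ⟨n, hn, hc⟩ := Extraspecial.exists_card H.extra
    have h2 : 2 * n + 1 < 5 := (Nat.pow_lt_pow_iff_right (a := 2) (by norm_num)).1 (by omega)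
    rw [hc, show n = 1 by omega]
    norm_num
  have Dv := H.dataAt ⟨b, hb⟩
  -- a nontrivial involution of `Q z` other than `z`
  set s := a⁻¹ * v * a with hsdef
  have hsQ : s ∈ Q z := by
    have : v ∈ conjS a (Q z) := by rw [← H.conj, ha]; exact hvu
    exact mem_conjS.1 this
  have hs2 : s * s = 1 := by
    rw [hsdef, show a⁻¹ * v * a * (a⁻¹ * v * a) = a⁻¹ * (v * v) * a by group, Dv.z_sq]; group
  have hs1 : s ≠ 1 := fun h => Dv.z_ne (by rw [show v = a * s * a⁻¹ by rw [hsdef]; group, h]; group)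
  have hsz : s ≠ z := fun h => hne (by rw [show v = a * s * a⁻¹ by rw [hsdef]; group, h, ha])
  -- the centralizer of `z` is a 2-group
  have hC : IsPGroup 2 (Subgroup.centralizer ({z} : Set G)) := by
    intro c
    obtain ⟨k, r, hr, hcr⟩ := Nat.exists_eq_pow_mul_and_not_dvd (orderOf_pos (c : G)).ne' 2 (by norm_num)
    refine ⟨k, Subtype.ext ?_⟩
    rw [SubmonoidClass.coe_pow, OneMemClass.coe_one]
    refine H.eight h8 hsQ hs2 hs1 hsz ((Commute.pow_left (mem_cent.1 c.2) _).eq) ?_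
    rw [orderOf_pow_of_dvd (by positivity) (hcr ▸ dvd_mul_right _ _), hcr, Nat.mul_div_cancel_left _ (by positivity)]
    exact Nat.odd_iff.2 (by omega)
  have hcu : u * v = v * u := (H.le_cent u hvu).symm
  have hQz : Q z = Subgroup.centralizer ({z} : Set G) := by
    refine le_antisymm (fun c hc => mem_cent.2 (H.le_cent z hc)) fun c hc => ?_
    rw [H.radical z]
    exact ⟨⟨c, hc⟩, Cores.le_pCore (N := ⊤) inferInstance (hC.to_subgroup ⊤) (Subgroup.mem_top _), rfl⟩
  rw [← hb, H.conj, mem_conjS, hQz, mem_cent]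
  calc b⁻¹ * u * b * z = b⁻¹ * (u * (b * z * b⁻¹)) * b := by group
    _ = b⁻¹ * ((b * z * b⁻¹) * u) * b := by rw [hb, hcu]
    _ = _ := by group

end Fin

end Hyp

/-- An element of `Q` centralizing `W ∋ z` and moving `a ∉ W`. -/
theorem exists_moving [Finite G] {P : Subgroup G} {z : G} (D : Data P z) :
    ∀ W : Subgroup G, W ≤ P → z ∈ W → ∀ a ∈ P, (∀ q ∈ P, (∀ w ∈ W, q * w = w * q) → q * a = a * q) → a ∈ W := by
  intro W
  induction W using WellFoundedLT.induction with
  | _ W ih =>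
    intro hWP hzW a ha hac
    by_cases hWz : W ≤ Subgroup.zpowers z
    · rcases D.cent a (fun q hq => hac q hq fun w hw => by
        rcases mem_zpowers_two D.z_sq (hWz hw) with rfl | rfl
        · simp
        · exact D.z_central q hq) with h | h
      · rw [h]; exact one_mem W
      · rwa [h]
    obtain ⟨M, hzM, hM⟩ := Finite.exists_le_maximal (α := Subgroup G) (p := fun M => z ∈ M ∧ M < W)
      (a := Subgroup.zpowers z)
      ⟨Subgroup.mem_zpowers z, lt_of_le_of_ne (Subgroup.zpowers_le.2 hzW) fun e => hWz e.ge⟩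
    obtain ⟨hzM', hMW⟩ := hM.prop
    obtain ⟨w, hwW, hwM⟩ := SetLike.not_le_iff_exists.1 hMW.not_ge
    have hgen : W = M ⊔ Subgroup.zpowers w := by
      by_contra hne
      have hle : M ⊔ Subgroup.zpowers w ≤ W := sup_le hMW.le (Subgroup.zpowers_le.2 hwW)
      exact hwM (hM.2 ⟨Subgroup.mem_sup_left hzM', lt_of_le_of_ne hle (Ne.symm hne)⟩ le_sup_left
        (Subgroup.mem_sup_right (Subgroup.mem_zpowers w)))
    have hcW : ∀ q : G, (∀ m ∈ M, q * m = m * q) → q * w = w * q → ∀ x ∈ W, q * x = x * q := by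
      intro q h1 h2 x hx
      have : W ≤ Subgroup.centralizer ({q} : Set G) := by
        rw [hgen]
        refine sup_le (fun m hm => Subgroup.mem_centralizer_singleton_iff.2 (h1 m hm).symm)
          (Subgroup.zpowers_le.2 (Subgroup.mem_centralizer_singleton_iff.2 h2.symm))
      exact (Subgroup.mem_centralizer_singleton_iff.1 (this hx)).symm
    by_cases hall : ∀ q ∈ P, (∀ m ∈ M, q * m = m * q) → q * w = w * q
    · exact absurd (ih M hMW (hMW.le.trans hWP) hzM' w (hWP hwW) hall) hwM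
    push Not at hall
    obtain ⟨c, hc, hcM, hcw⟩ := hall
    have hcw' : ⁅c, w⁆ = z := (D.comm c hc w (hWP hwW)).resolve_left fun h =>
      hcw (commutatorElement_eq_one_iff_mul_comm.1 h)
    -- choose `a'` commuting with `c`
    obtain ⟨a', ha', ha'c, haa⟩ : ∃ a' ∈ P, c * a' = a' * c ∧ (a' = a ∨ a' = a * w) := by
      rcases D.comm c hc a ha with h | h
      · exact ⟨a, ha, commutatorElement_eq_one_iff_mul_comm.1 h, Or.inl rfl⟩
      · refine ⟨a * w, mul_mem ha (hWP hwW), ?_, Or.inr rfl⟩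
        rw [← commutatorElement_eq_one_iff_mul_comm, show ⁅c, a * w⁆ = ⁅c, a⁆ * (a * ⁅c, w⁆ * a⁻¹) by
          simp only [commutatorElement_def]; group, h, hcw', D.z_central a ha, mul_inv_cancel_right, D.z_sq]
    have hq : ∀ q ∈ P, (∀ x ∈ W, q * x = x * q) → q * a' = a' * q := by
      intro q hq hqW
      rcases haa with e | e <;> rw [e]
      · exact hac q hq hqW
      · rw [← mul_assoc, hac q hq hqW, mul_assoc, hqW w hwW, ← mul_assoc]
    have ha'M : a' ∈ M := by
      refine ih M hMW (hMW.le.trans hWP) hzM' a' ha' fun q hqP hqM => ?_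
      rcases D.comm q hqP w (hWP hwW) with h | h
      · exact hq q hqP (hcW q hqM (commutatorElement_eq_one_iff_mul_comm.1 h))
      · have h2 : ⁅c * q, w⁆ = 1 := by rw [D.comm_mul_left hc hqP (hWP hwW), hcw', h, D.z_sq]
        have h3 := hq (c * q) (mul_mem hc hqP) (hcW _ (fun m hm => by
          rw [mul_assoc, hqM m hm, ← mul_assoc, hcM m hm, mul_assoc]) (commutatorElement_eq_one_iff_mul_comm.1 h2))
        rw [mul_assoc, ← mul_assoc a', ← ha'c, mul_assoc] at h3
        exact mul_left_cancel h3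
    rcases haa with e | e
    · exact hMW.le (e ▸ ha'M)
    · exact (Subgroup.mul_mem_cancel_right W hwW).1 (hMW.le (e ▸ ha'M))

theorem exists_moving' [Finite G] {P : Subgroup G} {z : G} (D : Data P z) {W : Subgroup G} (hW : W ≤ P)
    (hz : z ∈ W) {a : G} (ha : a ∈ P) (haW : a ∉ W) :
    ∃ q ∈ P, (∀ w ∈ W, q * w = w * q) ∧ q * a * q⁻¹ = a * z := by
  by_contra hno
  push Not at hno
  refine haW (exists_moving D W hW hz a ha fun q hq hqW => ?_)
  rcases D.comm q hq a ha with h | h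
  · exact commutatorElement_eq_one_iff_mul_comm.1 h
  · refine absurd ?_ (hno q hq hqW)
    calc q * a * q⁻¹ = ⁅q, a⁆ * a := by simp [commutatorElement_def, mul_assoc]
      _ = a * z := by rw [h, ← D.z_central a ha]

/-- A singular subgroup. -/
structure Sub (Q : G → Subgroup G) (z : G) (U : Subgroup G) : Prop where
  hyp : Hyp Q z
  invol : ∀ u ∈ U, u * u = 1
  sing : ∀ u ∈ U, u ≠ 1 → ∃ g : G, g * z * g⁻¹ = u
  orth : ∀ u ∈ U, ∀ v ∈ U, u ≠ 1 → v ≠ 1 → v ∈ Q u

namespace Sub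

variable [Finite G] {Q : G → Subgroup G} {z : G} {U : Subgroup G} {QU LU : Subgroup G}

theorem data (S : Sub Q z U) {u : G} (hu : u ∈ U) (hu1 : u ≠ 1) : Data (Q u) u :=
  S.hyp.dataAt (S.sing u hu hu1)

theorem le_radical (S : Sub Q z U) {u : G} (hu : u ∈ U) (hu1 : u ≠ 1) : U ≤ Q u := fun v hv => by
  by_cases h : v = 1
  · rw [h]; exact one_mem _
  · exact S.orth u hu v hv hu1 h

theorem comm_mem (S : Sub Q z U) {u q x : G} (hu : u ∈ U) (hu1 : u ≠ 1) (hq : q ∈ Q u) (hx : x ∈ Q u) :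
    ⁅q, x⁆ ∈ U := by
  rcases (S.data hu hu1).comm q hq x hx with h | h <;> rw [h]
  · exact one_mem U
  · exact hu

theorem conj_eq (q x : G) : q * x * q⁻¹ = ⁅q, x⁆ * x := by simp [commutatorElement_def, mul_assoc]

theorem normalizes (S : Sub Q z U) {u : G} (hu : u ∈ U) (hu1 : u ≠ 1) :
    Q u ≤ Subgroup.normalizer (U : Set G) := fun q hq => by
  refine Coprime.mem_normalizer_of_forall fun x hx => ?_
  rw [conj_eq]
  exact mul_mem (S.comm_mem hu hu1 hq (S.le_radical hu hu1 hx)) hx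

theorem mem_QU (hQU : QU = ⨅ u ∈ ((U : Set G) \ {1}), Q u) {x : G} :
    x ∈ QU ↔ ∀ u ∈ U, u ≠ 1 → x ∈ Q u := by
  subst hQU
  simp only [Subgroup.mem_iInf, Set.mem_sdiff, Set.mem_singleton_iff, SetLike.mem_coe, and_imp]

theorem le_LU (hLU : LU = ⨆ u ∈ ((U : Set G) \ {1}), Q u) {u : G} (hu : u ∈ U) (hu1 : u ≠ 1) :
    Q u ≤ LU := by
  subst hLU
  exact le_iSup₂ (f := fun u (_ : u ∈ ((U : Set G) \ {1})) => Q u) u ⟨hu, hu1⟩

theorem LU_le_normalizer (S : Sub Q z U) (hLU : LU = ⨆ u ∈ ((U : Set G) \ {1}), Q u) :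
    LU ≤ Subgroup.normalizer (U : Set G) := by
  subst hLU
  exact iSup₂_le fun u hu => S.normalizes hu.1 hu.2

theorem U_le_QU (S : Sub Q z U) (hQU : QU = ⨅ u ∈ ((U : Set G) \ {1}), Q u) : U ≤ QU :=
  fun _ hx => (mem_QU hQU).2 fun _ hu hu1 => S.le_radical hu hu1 hx

/-- `Q u ∩ Q v ≤ Q (u v)`. -/
theorem inf_le (S : Sub Q z U) {u v x : G} (hu : u ∈ U) (hu1 : u ≠ 1) (hv : v ∈ U) (hv1 : v ≠ 1) (hne : u ≠ v)
    (hxu : x ∈ Q u) (hxv : x ∈ Q v) : x ∈ Q (v * u) := by
  have D := S.data hu hu1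
  obtain ⟨q, hq, e⟩ := D.exists_conj_eq (S.le_radical hu hu1 hv) hv1 (Ne.symm hne)
  have hw : v * u ≠ 1 := fun h => hne (by
    rw [← mul_right_inj v, h, S.invol v hv])
  have h1 : q * x * q⁻¹ ∈ Q (v * u) := by
    rw [← e, S.hyp.conj]
    exact ⟨x, hxv, rfl⟩
  rw [conj_eq] at h1
  refine (Subgroup.mul_mem_cancel_left _ (S.le_radical (mul_mem hv hu) hw ?_)).1 h1
  exact S.comm_mem hu hu1 hq hxu

theorem joint_core (S : Sub Q z U) (hQU : QU = ⨅ u ∈ ((U : Set G) \ {1}), Q u) (T : Set G)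
    (hT : Subgroup.closure T = U) (hT1 : (1 : G) ∉ T) : QU = ⨅ t ∈ T, Q t := by
  refine le_antisymm (le_iInf₂ fun t ht x hx => (mem_QU hQU).1 hx t (hT ▸ Subgroup.subset_closure ht)
    fun e => hT1 (e ▸ ht)) fun x hx => ?_
  simp only [Subgroup.mem_iInf] at hx
  let K : Subgroup G :=
    { carrier := {y | y ∈ U ∧ (y = 1 ∨ x ∈ Q y)}
      one_mem' := ⟨one_mem _, Or.inl rfl⟩
      mul_mem' := fun {a b} ha hb => ⟨mul_mem ha.1 hb.1, by
        by_cases ha1 : a = 1
        · rw [ha1, one_mul]; exact hb.2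
        by_cases hb1 : b = 1
        · rw [hb1, mul_one]; exact ha.2
        by_cases hab : b = a
        · rw [hab]; exact Or.inl (S.invol a ha.1)
        exact Or.inr (S.inf_le hb.1 hb1 ha.1 ha1 hab (hb.2.resolve_left hb1) (ha.2.resolve_left ha1))⟩
      inv_mem' := fun {a} ha => by
        have : a⁻¹ = a := inv_eq_of_mul_eq_one_right (S.invol a ha.1)
        rw [this]; exact ha }
  have hle : U ≤ K := hT ▸ (Subgroup.closure_le K).2 fun t ht =>
    ⟨hT ▸ Subgroup.subset_closure ht, Or.inr (hx t ht)⟩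
  exact (mem_QU hQU).2 fun u hu hu1 => (hle hu).2.resolve_left hu1

theorem exists_realize (S : Sub Q z U) (hLU : LU = ⨆ u ∈ ((U : Set G) \ {1}), Q u) (φ : ↥U ≃* ↥U) :
    ∃ g ∈ LU, ∀ u : ↥U, g * (u : G) * g⁻¹ = ((φ u : ↥U) : G) := by
  classical
  let agree : G → Subgroup ↥U := fun g => ((MulAut.conj g).toMonoidHom.comp U.subtype).eqLocus
    (U.subtype.comp φ.toMonoidHom)
  obtain ⟨g, hg, hmax⟩ := Set.exists_max_image (LU : Set G) (fun g => Nat.card (agree g)) (Set.toFinite _)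
    ⟨1, one_mem LU⟩
  refine ⟨g, hg, fun u => ?_⟩
  by_contra hu
  set a := g * (u : G) * g⁻¹ with hadef
  set b := ((φ u : ↥U) : G) with hbdef
  have hgN := S.LU_le_normalizer hLU hg
  have haU : a ∈ U := (Subgroup.mem_normalizer_iff.1 hgN u).1 u.2
  have hbU : b ∈ U := (φ u).2
  set W' := (agree g).map (U.subtype.comp φ.toMonoidHom) with hW'
  have hW'U : W' ≤ U := by
    rintro _ ⟨w, -, rfl⟩; exact (φ w).2
  have haW : a ∉ W' := by
    rintro ⟨w, hw, e⟩
    refine hu ?_
    have e1 : g * (w : G) * g⁻¹ = a := (hw : _ = _).trans e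
    have e2 : (w : G) = u := mul_left_cancel (mul_right_cancel (e1.trans hadef))
    rw [Subtype.ext e2] at e
    exact e.symm
  have hbW : b ∉ W' := by
    rintro ⟨w, hw, e⟩
    have e1 : φ w = φ u := Subtype.ext e
    rw [φ.injective e1] at hw
    exact hu hw
  set d := a * b with hd
  have hdU : d ∈ U := mul_mem haU hbU
  have hd1 : d ≠ 1 := fun h => hu (by
    rw [← mul_left_cancel_iff (a := a), S.invol a haU]; exact h.symm)
  -- adjoining `d` does not capture `a`
  have haW'' : a ∉ W' ⊔ Subgroup.zpowers d := by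
    intro h
    have hn : W' ≤ Subgroup.normalizer ((Subgroup.zpowers d : Subgroup G) : Set G) := by
      intro w hw
      refine Coprime.mem_normalizer_of_forall fun x hx => ?_
      have hcomm : w * x = x * w := by
        have hwU := hW'U hw
        have hxU : x ∈ U := Subgroup.zpowers_le.2 hdU hx
        have := S.invol _ (mul_mem hwU hxU)
        calc w * x = (w * x)⁻¹ := eq_inv_of_mul_eq_one_left this
          _ = x * w := by
            rw [mul_inv_rev, inv_eq_of_mul_eq_one_right (S.invol w hwU), inv_eq_of_mul_eq_one_right (S.invol x hxU)]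
      rw [hcomm, mul_inv_cancel_right]; exact hx
    rw [← SetLike.mem_coe, Subgroup.coe_mul_of_left_le_normalizer_right _ _ hn] at h
    obtain ⟨w, hw, x, hx, e⟩ := h
    change w * x = a at e
    rcases mem_zpowers_two (S.invol d hdU) hx with rfl | rfl
    · rw [mul_one] at e; exact haW (e ▸ hw)
    · refine hbW ?_
      have e2 : w = a * d⁻¹ := eq_mul_inv_of_mul_eq e
      rw [inv_eq_of_mul_eq_one_right (S.invol d hdU), hd, ← mul_assoc, S.invol a haU, one_mul] at e2
      exact e2 ▸ hw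
  obtain ⟨q, hq, hqW, hqa⟩ := exists_moving' (S.data hdU hd1)
    (sup_le (hW'U.trans (S.le_radical hdU hd1)) (Subgroup.zpowers_le.2 (S.data hdU hd1).z_mem))
    (Subgroup.mem_sup_right (Subgroup.mem_zpowers d)) (S.le_radical hdU hd1 haU) haW''
  have hqa' : q * a * q⁻¹ = b := by rw [hqa, hd, ← mul_assoc, S.invol a haU, one_mul]
  have hlt : agree g < agree (q * g) := by
    refine lt_of_le_of_ne (fun w hw => ?_) fun e => ?_
    · show q * g * (w : G) * (q * g)⁻¹ = ((φ w : ↥U) : G)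
      rw [show q * g * (w : G) * (q * g)⁻¹ = q * (g * w * g⁻¹) * q⁻¹ by group,
        show g * (w : G) * g⁻¹ = ((φ w : ↥U) : G) from hw,
        hqW ((φ w : ↥U) : G) (Subgroup.mem_sup_left ⟨w, hw, rfl⟩), mul_inv_cancel_right]
    · refine hu ((e ▸ ?_ : u ∈ agree g))
      show q * g * (u : G) * (q * g)⁻¹ = _
      rw [show q * g * (u : G) * (q * g)⁻¹ = q * a * q⁻¹ by rw [hadef]; group, hqa']
      rfl
  refine (hmax (q * g) (mul_mem (le_LU hLU hdU hd1 hq) hg)).not_gt ?_
  exact lt_of_le_of_ne (Subgroup.card_le_of_le hlt.le) fun e =>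
    hlt.ne (Subgroup.eq_of_le_of_card_ge hlt.le e.ge)

theorem acts_trivially (S : Sub Q z U) (hQU : QU = ⨅ u ∈ ((U : Set G) \ {1}), Q u)
    (hLU : LU = ⨆ u ∈ ((U : Set G) \ {1}), Q u) : ∀ g ∈ LU, ∀ x ∈ QU, g * x * g⁻¹ * x⁻¹ ∈ U := by
  let M : Submonoid G :=
    { carrier := {g | g ∈ Subgroup.normalizer (U : Set G) ∧ ∀ x ∈ QU, g * x * g⁻¹ * x⁻¹ ∈ U}
      one_mem' := ⟨one_mem _, fun x _ => by simp⟩
      mul_mem' := fun {g h} hg hh => ⟨mul_mem hg.1 hh.1, fun x hx => by
        rw [show g * h * x * (g * h)⁻¹ * x⁻¹ = g * (h * x * h⁻¹ * x⁻¹) * g⁻¹ * (g * x * g⁻¹ * x⁻¹) by group]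
        exact mul_mem ((Subgroup.mem_normalizer_iff.1 hg.1 _).1 (hh.2 x hx)) (hg.2 x hx)⟩ }
  let K : Subgroup G :=
    { toSubmonoid := M
      inv_mem' := fun {g} hg => by
        obtain ⟨n, hn⟩ := (mem_powers_iff_mem_zpowers (x := g) (y := g⁻¹)).2
          (inv_mem (Subgroup.mem_zpowers g))
        have := M.pow_mem hg n
        rwa [show g ^ n = g⁻¹ from hn] at this }
  have hle : LU ≤ K := by
    subst hLU
    exact iSup₂_le fun u hu q hq => ⟨S.normalizes hu.1 hu.2 hq, fun x hx =>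
      S.comm_mem hu.1 hu.2 hq ((mem_QU hQU).1 hx u hu.1 hu.2)⟩
  exact fun g hg => (hle hg).2

theorem transitive (S : Sub Q z U) (hQU : QU = ⨅ u ∈ ((U : Set G) \ {1}), Q u)
    (hLU : LU = ⨆ u ∈ ((U : Set G) \ {1}), Q u) :
    ∀ x ∈ QU, x ∉ U → ∀ u ∈ U, ∃ g ∈ LU ⊓ Subgroup.centralizer (U : Set G), g * x * g⁻¹ = x * u := by
  intro x hx hxU u hu
  by_cases hu1 : u = 1
  · exact ⟨1, one_mem _, by simp [hu1]⟩
  obtain ⟨q, hq, hqU, hqx⟩ := exists_moving' (S.data hu hu1) (S.le_radical hu hu1) hu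
    ((mem_QU hQU).1 hx u hu hu1) hxU
  exact ⟨q, ⟨le_LU hLU hu hu1 hq, Subgroup.mem_centralizer_iff.2 fun w hw => (hqU w hw).symm⟩, hqx⟩

end Sub

end Cfsg.Agent.Singular
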